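import Cfsg.Agent.Lib.GW.Lift
import Cfsg.Agent.Lib.Sig.Two
import Cfsg.Agent.Lib.Coprime.AxB

/-!
# The Bender method in simple groups with abelian Sylow 2-subgroups
-/

set_option autoImplicit false

namespace Cfsg.Agent.GW

open Subgroup Cfsg.Agent.OO Cfsg.Agent.Coprime Cfsg.Agent.Sig
open scoped commutatorElement Pointwise

universe u

variable {G : Type u} [Group G] [Finite G] {A H I M N P Q S X : Subgroup G} {p q : ℕ}

section Puig

open Cfsg.Agent.OO.Pf hiding puig_le cent_puigInf_le puigInf_le_puig norm_le_norm_center_puig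
  puigInf_def puig_def sub_Puig_eq

variable [hp : Fact p.Prime] (hp2 : p ≠ 2) (h2 : ∀ P ≤ H, IsPGroup 2 P → Ab P)
include hp2 h2

theorem quo_le_Op (hP : IsPGroup p P) (hn : P ⊴ H) (hA : A ≤ H) (ha : Ab A) (hPA : P ≤ 𝐍(A)) :
    A ⁒ (H ⊓ 𝐂(P)) ≤ Op p (H ⁒ (H ⊓ 𝐂(P))) := by
  have hC := hn.cent
  obtain ⟨D, hD⟩ : ∃ D, D = H ⊓ Core.relCentralizer P (Phi P) := ⟨_, rfl⟩
  have hDn : D ⊴ H := hD ▸ normalIn_inf_of_norm (Core.le_normalizer_relCentralizer hn.norm hn.Phi.norm)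
  have hDp : IsPGroup p (D ⁒ (H ⊓ 𝐂(P)) : Subgroup _) := by
    refine (isPGroup_quo_iff (hDn.le.trans hC.norm)).2 ((relIndex_Oup p D).of_dvd
      (relIndex_dvd_of_le_left _ (Oup_le_iff.2 fun x hx h => ⟨hDn.le hx, ?_⟩)))
    exact coprime_cent_Phi hP (zpowers_le.2 (hn.norm (hDn.le hx))) (coprime_card_of_isPGroup
      (by rwa [Nat.card_zpowers]) hP).symm (commutator_le.2 fun v hv y hy =>
        (hD.le (zpowers_le.2 hx hy)).2.2 v hv) (mem_zpowers x)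
  intro z hz
  refine mem_Op_of_forall_syl (quo_mono _ hA hz) fun S' hS' => ?_
  obtain ⟨S, hS, rfl⟩ := exists_syl_quo_eq hC.norm hS'
  obtain ⟨w, hw, rfl⟩ := (mem_quo_of_le (hA.trans hC.norm)).1 hz
  have h3 := coset_mem_quo (H ⊓ 𝐂(P)) (Core.mem_sup_relCentralizer_of_quadratic hp2 h2 hn.norm
    hn.Phi.norm (der_le_Phi hP) (fun v hv => pow_mem_Phi hP hv) hS (hA hw) fun v hv => by
      rw [Core.quadratic_of_mem_normalizer ha hw (hPA hv)]; exact one_mem _)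
  rw [← hD, quo_sup (hS.le.trans hC.norm) (hDn.le.trans hC.norm)] at h3
  exact sup_le le_rfl (hS'.le_of_normal (hDn.quo _) hDp) h3

theorem le_Op_of_ab (hc : Core.IsCharIn p H) (hP : IsPGroup p P) (hn : P ⊴ H) (hA : A ≤ H)
    (ha : Ab A) (hPA : P ≤ 𝐍(A)) (h : Op p H ⊓ 𝐂(P) ≤ P) : A ≤ Op p H := by
  have hC : IsPGroup p ↥(H ⊓ 𝐂(P)) := by
    refine PiGrp.isPGroup fun q hq hd => by_contra fun hqp => ?_
    obtain ⟨x, hx, hxo⟩ := cauchy hq hd
    have hxp : PiGrp ({p} : Set ℕ)ᶜ (zpowers x) := piGrp_zpowers.2 (by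
      rw [PiElt, hxo]; exact (isPiNum_prime hq).2 hqp)
    have h3 : P ≤ Op p H ⊓ 𝐂(zpowers x) :=
      le_inf (le_Op hn hP) (le_cent_symm (zpowers_le.2 hx.2))
    have h4 := coprime_nil_faithful_cent_stab (A := zpowers x) (H := Op p H)
      ((zpowers_le.2 hx.1).trans (Op_normal p H).norm) (coprime_of_isPGroup (Op_isPGroup p H) hxp)
      (Op_nil p H) (((inf_le_inf_left _ (cent_anti h3)).trans h).trans h3)
    have h6 := ((Op_piGrp p H).of_le ((le_inf (zpowers_le.2 hx.1) h4).trans hc)).eq_bot hxp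
    rw [zpowers_eq_bot] at h6
    rw [h6, orderOf_one] at hxo
    exact hq.one_lt.ne hxo
  have := quo_le_Op hp2 h2 hP hn hA ha hPA
  rwa [← quo_Op hn.cent hC, quo_le_quo_iff (hA.trans hn.cent.norm) (le_Op hn.cent hC)] at this

/-- Puig's theorem for groups with abelian Sylow 2-subgroups -/
theorem puig_normal (hc : Core.IsCharIn p H) (hS : Syl p S H) : Zc (puig S) ⊴ H := by
  have hT := Op_le_syl hS
  have k : ∀ n, puigAt S (2 * n) ≤ puigAt (Op p H) (2 * n) := fun n => by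
    induction n with
    | zero => exact bot_le
    | succ n ih =>
      have h3 : puigAt (Op p H) (2 * n + 1) ≤ puigAt S (2 * n + 1) := puigSucc_mono hT ih
      refine puigSucc_le_iff.2 fun A a1 a2 a3 => le_puigSucc ?_ a2 (h3.trans a3)
      exact le_Op_of_ab hp2 h2 hc ((Op_isPGroup p H).to_le (puigAt_le _ _))
        ((Op_normal p H).char_trans (puigAt_le _ _) (norm_le_norm_puigAt _ _)) (a1.trans hS.le)
        a2 (h3.trans a3) (cent_puigSucc_le (Op_isPGroup p H) (puigAt_le _ _))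
  have a1 : puigInf S ≤ puigInf (Op p H) := iSup_mono k
  have a2 : puig (Op p H) ≤ puig S := iInf_mono fun n => puigSucc_mono hT (k n)
  obtain ⟨Y, hY⟩ : ∃ Y, Y = Zc (puig (Op p H)) := ⟨_, rfl⟩
  have hZY : Zc (puig S) ≤ Y := hY ▸ le_inf
    (((inf_le_inf (puig_le S) (cent_anti (puigInf_le_puig S))).trans
      (cent_puigInf_le hS.isPGroup)).trans (a1.trans (puigInf_le_puig _)))
    (inf_le_right.trans (cent_anti a2))
  have hYT : Y ≤ Op p H := hY ▸ (Zc_le _).trans (puig_le _)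
  have hYn : Y ⊴ H := (Op_normal p H).char_trans hYT (hY ▸ norm_le_norm_center_puig _)
  have hCn := hYn.cent
  obtain ⟨C, c1, c2, c3⟩ := exists_quo_eq_normal hCn (Op_normal p (H ⁒ (H ⊓ 𝐂(Y))))
  have hLH := (puig_le S).trans hS.le
  have hYL : Y ≤ puigInf S := puigInf_def S ▸ le_puigSucc (hYT.trans (Op_le_syl hS))
    (hY ▸ Zc_ab _) (hLH.trans hYn.norm)
  have hLC : puig S ≤ C := by
    rw [← puig_def]
    refine puigSucc_le_iff.2 fun A b1 b2 b3 => ?_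
    rw [← quo_le_quo_iff ((b1.trans hS.le).trans hCn.norm) c1, c3]
    exact quo_le_Op hp2 h2 ((Op_isPGroup p H).to_le hYT) hYn (b1.trans hS.le) b2 (hYL.trans b3)
  have e1 : puig (C ⊓ S) = puig S := sub_Puig_eq inf_le_right (le_inf hLC (puig_le S))
  have hCS := hS.normal_inf c2
  have e2 : C ≤ C ⊓ S ⊔ H ⊓ 𝐂(Y) := by
    rw [← quo_le_quo_iff_le_sup (c2.le.trans hCn.norm) (inf_le_left.trans (c2.le.trans hCn.norm)),
      (hCS.quo (c2.le.trans hCn.norm)).eq_self (c3 ▸ Op_isPGroup p _)]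
  have e3 : 𝐍(C ⊓ S) ≤ 𝐍(Zc (puig S)) := e1 ▸ norm_le_norm_center_puig _
  refine ⟨(Zc_le _).trans hLH, ?_⟩
  rw [← (hCS.frattini c2).sup_eq]
  exact sup_le (e2.trans (sup_le ((le_norm_self _).trans e3)
    (inf_le_right.trans ((cent_anti hZY).trans (cent_le_norm _))))) (inf_le_right.trans e3)

end Puig

/-- the Fitting subgroup is self-centralizing -/
def FS (M : Subgroup G) : Prop := M ⊓ 𝐂(Fit M) ≤ Fit M

theorem fs_of_sol (h : Sol (M ⊓ 𝐂(Fit M))) : FS M :=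
  (le_inf le_rfl (inf_le_right.trans (cent_anti (Fit_le_of_normal (Fit_normal M).cent)))).trans
    ((cent_sub_Fitting h).trans (Fit_le_of_normal (Fit_normal M).cent))

/-- B1 -/
theorem Op_inf_eq_bot [Fact q.Prime] (h : Arr M N) (hM : FS M) (h0 : Op q M = ⊥) :
    Op q N ⊓ M = ⊥ := by
  have hc : (♯(Fit M)).Coprime ♯(Op q N ⊓ M) := by
    refine (coprime_of_isPGroup ((Op_isPGroup q N).to_le inf_le_left)
      ((piGrp_compl_singleton Fact.out).2 ?_)).symm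
    rw [← (syl_Op_Fit q M).eq_bot_iff, h0]
  have hn : Op q N ⊓ M ≤ 𝐍(Fit M) := inf_le_right.trans (Fit_normal M).norm
  have h1 : Fit M ⊓ N ≤ 𝐂(Op q N ⊓ M) := by
    refine le_cent_of_coprime (le_norm_inf (inf_le_right.trans (Op_normal q N).norm)
      (le_norm_of_le (inf_le_left.trans (Fit_le M)))) (le_norm_inf hn
      (le_norm_of_le (inf_le_left.trans (Op_le q N)))) (coprime_card_mono hc inf_le_left le_rfl)
  have h2 := coprime_nil_faithful_cent_stab hn hc (Fit_nil M) (le_inf inf_le_left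
    ((le_inf inf_le_left ((inf_le_inf_left _ (cent_anti (le_inf inf_le_left h1))).trans h)).trans h1))
  rw [eq_bot_iff, ← inf_eq_bot_of_coprime_card hc]
  exact le_inf ((le_inf inf_le_right h2).trans hM) le_rfl

theorem arr_mono (h : Arr M X) (hle : M ⊓ X ≤ N) : Arr M N :=
  (inf_le_inf_left _ (cent_anti (le_inf inf_le_left ((inf_le_inf_right _ (Fit_le M)).trans hle)))).trans
    ((le_inf (inf_le_left.trans (Fit_le M)) h).trans hle)

theorem arr_conj (h : Arr M N) (g : G) : Arr (g •ᶜ M) (g •ᶜ N) := by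
  rwa [Arr, Fit_conj, ← conj_inf, cent_conj, ← conj_inf, conj_le_conj_iff]

variable (hG : Smp (⊤ : Subgroup G))
include hG

omit [Finite G] in
theorem Smp.norm_ne_top (h0 : Q ≠ ⊥) (h1 : Q ≠ ⊤) : 𝐍(Q) ≠ ⊤ := fun e =>
  (hG Q ⟨le_top, e.ge⟩).elim h0 h1

omit [Finite G] in
theorem Smp.norm_eq (hM : IsCoatom M) (hQ : Q ⊴ M) (h0 : Q ≠ ⊥) : 𝐍(Q) = M :=
  (hM.le_iff.1 hQ.norm).resolve_left (hG.norm_ne_top h0 fun e => hM.1 (top_le_iff.1 (e ▸ hQ.le)))

theorem Smp.exists_coatom (h0 : Q ≠ ⊥) (h1 : Q ≠ ⊤) : ∃ M, IsCoatom M ∧ 𝐍(Q) ≤ M :=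
  (eq_top_or_exists_le_coatom _).resolve_left (hG.norm_ne_top h0 h1)

theorem Smp.cent_Zc_le [Fact p.Prime] (hM : IsCoatom M) (h0 : Op p M ≠ ⊥) : 𝐂(Zc (Op p M)) ≤ M :=
  (cent_le_norm _).trans (hG.norm_eq hM (Op_normal p M).Zc (Zc_ne_bot (Op_nil p M) h0)).le

/-- B2 -/
theorem Smp.Op_le_of_arr [Fact p.Prime] [hq : Fact q.Prime] (hM : IsCoatom M) (h : Arr M N) (hpq : q ≠ p)
    (h1 : Op p M ≠ ⊥) (h2 : Op q M ≠ ⊥) : Op p N ≤ M := by
  have hQ := (Op_isPGroup q M).to_le (Zc_le _)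
  have h3 := (h.Zc_Op_le q).trans (Op_normal p N).norm
  refine le_trans (le_cent_symm (thompson_AxB ((Op_isPGroup p M).to_le (Zc_le _))
    ((Nat.Prime.coprime_iff_not_dvd Fact.out).2 ((piGrp_compl_singleton Fact.out).1
      (piGrp_compl_of_isPGroup hQ hpq))).symm
    (le_cent_mono (Op_le_cent_Op hpq.symm M) (Zc_le _) (Zc_le _)) (Op_isPGroup p N)
    ((h.Zc_Op_le p).trans (Op_normal p N).norm) h3 ?_)) (hG.cent_Zc_le hM h2)
  have h4 := (inf_le_right.trans (hG.cent_Zc_le hM h1) : Op p N ⊓ _ ≤ M)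
  exact le_cent_of_coprime (h4.trans (Op_normal q M).Zc.norm) (le_norm_inf h3 (le_norm_of_le
    (le_cent_mono (Op_le_cent_Op hpq M) (Zc_le _) (Zc_le _))))
    (coprime_of_isPGroup_ne ((Op_isPGroup p N).to_le inf_le_left) hQ hpq.symm)

theorem Smp.eq_or_char (hM : IsCoatom M) (hN : IsCoatom N) (fM : FS M) (fN : FS N) (h : Arr M N)
    (hπ : ∀ q : ℕ, q.Prime → Op q N ≠ ⊥ → Op q M ≠ ⊥) :
    M = N ∨ ∃ p : ℕ, p.Prime ∧ Core.IsCharIn p M ∧ Core.IsCharIn p N := by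
  by_cases h2 : ∀ s : ℕ, s.Prime → ∃ p : ℕ, p.Prime ∧ p ≠ s ∧ Op p M ≠ ⊥
  · have k : ∀ M N : Subgroup G, IsCoatom M → Arr M N → (∀ q : ℕ, q.Prime → Op q N ≠ ⊥ → Op q M ≠ ⊥) →
        (∀ s : ℕ, s.Prime → ∃ p : ℕ, p.Prime ∧ p ≠ s ∧ Op p M ≠ ⊥) → Fit N ≤ M :=
      fun M N hM h hπ h2 => Fit_le_of_forall fun s hs => by
        by_cases h0 : Op s N = ⊥
        · exact h0.le.trans bot_le
        obtain ⟨p, hp, hps, hp0⟩ := h2 s hs.out
        have := Fact.mk hp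
        exact hG.Op_le_of_arr hM h hps (hπ s hs.out h0) hp0
    have h3 := k M N hM h hπ h2
    have h' : Arr N M := inf_le_left.trans h3
    have hπ' : ∀ s : ℕ, s.Prime → Op s M ≠ ⊥ → Op s N ≠ ⊥ := fun s hs h0 e => by
      have := Fact.mk hs
      exact Zc_ne_bot (Op_nil s M) h0 (eq_bot_iff.2 (Op_inf_eq_bot h' fN e ▸
        le_inf (Zc_le _) (h.Zc_Op_le s)))
    have h4 := k N M hN h' hπ' fun s hs => (h2 s hs).imp fun p hp => ⟨hp.1, hp.2.1, hπ' p hp.1 hp.2.2⟩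
    have k' : ∀ M N : Subgroup G, IsCoatom M → ∀ p : ℕ, p.Prime → Op p M ≠ ⊥ →
        N ⊓ 𝐂(Op p M) ≤ M := fun M N hM p _ h0 =>
      inf_le_right.trans ((cent_le_norm _).trans (hG.norm_eq hM (Op_normal p M) h0).le)
    rcases Core.bender h4 h3 fM fN (k' M N hM) (k' N M hN) with h5 | ⟨q, -, h5, h6⟩
    · exact .inr h5
    · exact .inl ((hG.norm_eq hM (Op_normal q M) h5).symm.trans ((congrArg (𝐍(·)) h6).trans
        (hG.norm_eq hN (Op_normal q N) fun e => h5 (h6.trans e))))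
  · push Not at h2
    obtain ⟨s, hs, h2⟩ := h2
    have := Fact.mk hs
    exact .inr ⟨s, hs, Core.isCharIn_of_forall_eq_bot fM h2, Core.isCharIn_of_forall_eq_bot fN
      fun q hq hqs => by_contra fun h3 => hπ q hq h3 (h2 q hq hqs)⟩

/-- CP* -/
theorem Smp.eq_of_char [Fact p.Prime] (hp2 : p ≠ 2) (h2 : ∀ P : Subgroup G, IsPGroup 2 P → Ab P)
    (hM : IsCoatom M) (hs : Sol M) (hI : I ≤ M) (h0 : I ≠ ⊥) (ha : Arr M I)
    (hc : ∀ N, IsCoatom N → I ≤ N → Core.IsCharIn p N) (hN : IsCoatom N) (hIN : I ≤ N) : N = M := by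
  by_contra hne
  obtain ⟨N, ⟨hN, hIN, hne⟩, hmax⟩ := Set.exists_max_image {N | IsCoatom N ∧ I ≤ N ∧ N ≠ M}
    (fun N => partn {p} ♯(M ⊓ N)) (Set.toFinite _) ⟨N, hN, hIN, hne⟩
  obtain ⟨R, hR⟩ := exists_syl p (M ⊓ N)
  have hcM := hc M hM hI
  have hF := Fit_eq_Op (Op'_eq_bot_of_isCharIn hcM)
  have h1 : Op' p (M ⊓ N) = ⊥ := by
    have h3 : Op p M ⊓ N ≤ 𝐂(Op' p (M ⊓ N)) := ((inf_le_inf_right _ (le_inf le_rfl (Op_le p M))).trans
      ((inf_assoc _ _ _).le.trans (Op_inf_le p inf_le_left))).trans (le_cent_symm (Op'_le_cent_Op p _))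
    have h4 := arr_mono ha (inf_le_right.trans hIN)
    have h5 := coprime_of_isPGroup (Op_isPGroup p M) (Op'_piGrp p (M ⊓ N))
    rw [Arr, hF] at h4
    rw [eq_bot_iff, ← inf_eq_bot_of_coprime_card h5]
    exact le_inf ((le_inf ((Opi_le _ _).trans inf_le_left) (coprime_nil_faithful_cent_stab
      (((Opi_le _ _).trans inf_le_left).trans (Op_normal p M).norm) h5 (Op_nil p M)
      (le_inf inf_le_left ((le_inf inf_le_left ((inf_le_inf_left _ (cent_anti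
        (le_inf inf_le_left h3))).trans h4)).trans h3)))).trans hcM) le_rfl
  have h3 : Core.IsCharIn p (M ⊓ N) := cent_Op_le_of_Op'_eq_bot (sol_of_le hs inf_le_left) h1
  have h4 := puig_normal hp2 (fun P _ => h2 P) h3 hR
  have h5 : Zc (puig R) ≠ ⊥ := fun e => h0 (eq_bot_iff.2 ((le_inf hI hIN).trans (by
    have e' : Op p (M ⊓ N) = ⊥ := eq_bot_iff.2 (trivg_center_Puig_pgroup hR.isPGroup e ▸ Op_le_syl hR)
    simpa [Core.IsCharIn, show pCoreOf p (M ⊓ N) = ⊥ from e'] using h3)))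
  have k : ∀ X Y, IsCoatom X → I ≤ X → R ≤ X → Syl p R Y → R ≤ Y ⊓ X → X ⊓ 𝐍(Zc (puig R)) ≤ Y →
      𝐍(Zc (puig R)) = X := fun X Y hX hIX hRX hY _ h => hG.norm_eq hX (puig_normal hp2
    (fun P _ => h2 P) (hc X hX hIX) (IsSylowIn.of_syl_norm hRX (hY.mono (le_inf hRX (le_norm_self R))
      ((inf_le_inf_left _ (norm_le_norm_center_puig R)).trans h)))) h5
  obtain ⟨N', hN', h6⟩ := hG.exists_coatom h5 fun e => hM.1 (top_le_iff.1 (e ▸ h4.le.trans inf_le_left))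
  have h7 : M ⊓ N ≤ M ⊓ N' := le_inf inf_le_left (h4.norm.trans h6)
  by_cases e : N' = M
  · exact hne ((hN.le_iff.1 ((k N _ hN hIN (hR.le.trans inf_le_right) hR (le_inf hR.le
      (hR.le.trans inf_le_right)) (le_inf (inf_le_right.trans (e ▸ h6)) inf_le_left)).ge.trans
      (e ▸ h6))).resolve_left hM.1).symm
  · obtain ⟨R', hR'⟩ := exists_syl p (M ⊓ N')
    have h8 := hR'.of_card_le (hR.le.trans h7) hR.isPGroup (by
      rw [hR.card_eq_partn, hR'.card_eq_partn]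
      exact hmax N' ⟨hN', ((le_inf hI hIN).trans h7).trans inf_le_right, e⟩)
    exact e ((hM.le_iff.1 ((k M _ hM hI (hR.le.trans inf_le_left) h8 (le_inf h8.le
      (hR.le.trans inf_le_left)) (inf_le_inf_left _ h6)).ge.trans h6)).resolve_left hN'.1)

end Cfsg.Agent.GW
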