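import Cfsg.Agent.Lib.GW.CharHyp
import Cfsg.Agent.Lib.OO.BG1
import Cfsg.Agent.Lib.Coprime.FTFinal
import Cfsg.Agent.Lib.Frob.QuatSquare

/-!
# Groups with Sylow 2-subgroups of order 4: elementary facts
-/

set_option autoImplicit false

namespace Cfsg.Agent.GW

open Subgroup Cfsg.Agent.OO Cfsg.Agent.Coprime
open scoped commutatorElement Pointwise

universe u

variable {G : Type u} [Group G] {X Y Q N : Subgroup G} {t s ρ a x g : G}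

/-- the largest normal subgroup of odd order -/
abbrev O (X : Subgroup G) : Subgroup G := Op' 2 X

/-- the four-group generated by `t` and `s` -/
def S4 (t s : G) : Subgroup G := zpowers t ⊔ zpowers s

/-- `{1, t, s, t s}` is a Sylow 2-subgroup of `X` -/
structure Pair (X : Subgroup G) (t s : G) : Prop where
  t_mem : t ∈ X
  s_mem : s ∈ X
  t_ne : t ≠ 1
  s_ne : s ≠ 1
  ne : t ≠ s
  t_sq : t * t = 1
  s_sq : s * s = 1
  comm : Commute t s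
  not_dvd : ¬ 8 ∣ ♯X

theorem mem_zp (h : t * t = 1) : x ∈ zpowers t ↔ x = 1 ∨ x = t := by
  refine ⟨?_, by rintro (rfl | rfl); exacts [one_mem _, mem_zpowers _]⟩
  rintro ⟨k, rfl⟩
  have : t ^ (2 : ℤ) = 1 := by rw [zpow_two, h]
  obtain ⟨j, rfl | rfl⟩ := Int.even_or_odd' k <;> simp [zpow_add, zpow_mul, this]

theorem inv_eq (h : t * t = 1) : t⁻¹ = t := inv_eq_of_mul_eq_one_right h

theorem orderOf_eq_two (h : t * t = 1) (h1 : t ≠ 1) : orderOf t = 2 :=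
  orderOf_eq_prime (by rw [pow_two, h]) h1

theorem conj_sq (h : t * t = 1) (g : G) : g * t * g⁻¹ * (g * t * g⁻¹) = 1 := by
  rw [conj_mul, h, mul_one, mul_inv_cancel]

theorem t_mem_S4 (t s : G) : t ∈ S4 t s := mem_sup_left (mem_zpowers t)

theorem s_mem_S4 (t s : G) : s ∈ S4 t s := mem_sup_right (mem_zpowers s)

theorem S4_le : S4 t s ≤ Y ↔ t ∈ Y ∧ s ∈ Y := by simp [S4]

theorem S4_comm (t s : G) : S4 t s = S4 s t := sup_comm _ _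

theorem S4_mul (t s : G) : S4 t (t * s) = S4 t s :=
  le_antisymm (S4_le.2 ⟨t_mem_S4 _ _, mul_mem (t_mem_S4 _ _) (s_mem_S4 _ _)⟩)
    (S4_le.2 ⟨t_mem_S4 _ _, (mul_mem_cancel_left (t_mem_S4 _ _)).1 (s_mem_S4 _ _)⟩)

theorem cent_S4 (t s : G) : 𝐂(S4 t s) = 𝐂[t] ⊓ 𝐂[s] := by
  rw [S4, cent_sup, cent_zpowers, cent_zpowers]

theorem conj_S4 (g t s : G) : g •ᶜ S4 t s = S4 (g * t * g⁻¹) (g * s * g⁻¹) := by
  rw [S4, conj_sup, conj_zpowers, conj_zpowers, S4]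

theorem eq_one_of_odd_of_sq (h : Odd (orderOf x)) (h2 : x * x = 1) : x = 1 := by
  by_contra h1
  rw [orderOf_eq_two h2 h1] at h
  exact absurd h (by decide)

namespace Pair

theorem symm (h : Pair X t s) : Pair X s t :=
  ⟨h.s_mem, h.t_mem, h.s_ne, h.t_ne, h.ne.symm, h.s_sq, h.t_sq, h.comm.symm, h.not_dvd⟩

theorem mul_ne_one (h : Pair X t s) : t * s ≠ 1 := fun e =>
  h.ne ((inv_eq h.t_sq).symm.trans (inv_eq_of_mul_eq_one_right e))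

theorem mul_sq (h : Pair X t s) : t * s * (t * s) = 1 := by
  rw [h.comm.symm.mul_mul_mul_comm, h.t_sq, h.s_sq, one_mul]

theorem mul (h : Pair X t s) : Pair X t (t * s) :=
  ⟨h.t_mem, mul_mem h.t_mem h.s_mem, h.t_ne, h.mul_ne_one, fun e => h.s_ne (by simpa using e),
    h.t_sq, h.mul_sq, (Commute.refl t).mul_right h.comm, h.not_dvd⟩

theorem le (h : Pair X t s) : S4 t s ≤ X := S4_le.2 ⟨h.t_mem, h.s_mem⟩

theorem mono (h : Pair X t s) (h1 : t ∈ Y) (h2 : s ∈ Y) (hle : Y ≤ X) : Pair Y t s :=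
  { h with t_mem := h1, s_mem := h2, not_dvd := fun e => h.not_dvd (e.trans (card_dvd_of_le hle)) }

theorem mono' (h : Pair X t s) (h1 : S4 t s ≤ Y) (hle : Y ≤ X) : Pair Y t s :=
  h.mono (S4_le.1 h1).1 (S4_le.1 h1).2 hle

theorem conj (h : Pair X t s) (g : G) : Pair (g •ᶜ X) (g * t * g⁻¹) (g * s * g⁻¹) :=
  ⟨conj_mem_conj h.t_mem, conj_mem_conj h.s_mem, conj_ne_one.2 h.t_ne, conj_ne_one.2 h.s_ne,
    fun e => h.ne (by simpa using e), conj_sq h.t_sq g, conj_sq h.s_sq g,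
    h.comm.map (MulAut.conj g), by simpa using h.not_dvd⟩

theorem le_cent (h : Pair X t s) : S4 t s ≤ 𝐂[t] := S4_le.2 ⟨mem_cent1_self t, mem_cent1.2 h.comm.symm⟩

theorem le_cent' (h : Pair X t s) : S4 t s ≤ 𝐂[s] := S4_comm t s ▸ h.symm.le_cent

theorem ab (h : Pair X t s) : Ab (S4 t s) :=
  ab_iff_le_cent.2 (cent_S4 t s ▸ le_inf h.le_cent h.le_cent')

theorem cent (h : Pair X t s) : Pair (X ⊓ 𝐂[t]) t s := h.mono' (le_inf h.le h.le_cent) inf_le_left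

theorem mem_S4 (h : Pair X t s) : x ∈ S4 t s ↔ x = 1 ∨ x = t ∨ x = s ∨ x = t * s := by
  rw [S4, mem_sup_norm_right (le_norm_of_le_cent (by
    rw [cent_zpowers, zpowers_le]; exact mem_cent1.2 h.comm))]
  simp only [mem_zp h.t_sq, mem_zp h.s_sq, exists_eq_or_imp, exists_eq_left, one_mul, mul_one,
    eq_comm (b := x)]
  tauto

variable [Finite G]

theorem isEp (h : Pair X t s) : IsEp 2 2 (S4 t s) X :=
  (isEp_zpowers h.t_mem (orderOf_eq_two h.t_sq h.t_ne)).sup_two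
    (isEp_zpowers h.s_mem (orderOf_eq_two h.s_sq h.s_ne))
    (by rw [cent_zpowers, zpowers_le]; exact mem_cent1.2 h.comm.symm) fun e =>
      ((mem_zp h.s_sq).1 (e ▸ mem_zpowers t)).elim h.t_ne h.ne

theorem card (h : Pair X t s) : ♯(S4 t s) = 4 := h.isEp.card

theorem syl (h : Pair X t s) : Syl 2 (S4 t s) X :=
  ⟨h.le, h.isEp.isPGroup, fun ⟨k, e⟩ => h.not_dvd ⟨k, by
    rw [← card_mul_relIndex h.le, h.card, e, ← mul_assoc]; rfl⟩⟩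

theorem coprime (h : Pair X t s) (hQ : Odd ♯Q) : (♯Q).Coprime ♯(S4 t s) := by
  rw [h.card]; exact (Nat.coprime_two_right.2 hQ).pow_right 2

theorem ab_of_two (h : Pair X t s) (P : Subgroup G) (hP : P ≤ X) (h2 : IsPGroup 2 P) : Ab P := by
  obtain ⟨g, -, e⟩ := h.syl.exists_conj_le hP h2
  exact ab_conj.1 (ab_of_le h.ab e)

theorem exists_conj_mem (h : Pair X t s) (ha : a ∈ X) (h2 : a * a = 1) :
    ∃ g ∈ X, g * a * g⁻¹ ∈ S4 t s := by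
  obtain ⟨g, hg, e⟩ := h.syl.exists_conj_le (zpowers_le.2 ha)
    (abelem_isPGroup (abelem_zpowers (by rw [pow_two, h2])))
  exact ⟨g, hg, e (conj_mem_conj (mem_zpowers a))⟩

/-- An element normalizing `S` and centralizing one involution centralizes `S`. -/
theorem mem_cent_of_norm (h : Pair X t s) (hg : g ∈ X) (hn : g ∈ 𝐍(S4 t s)) (hc : g ∈ 𝐂[t]) :
    g ∈ 𝐂[s] := by
  have hS : S4 t s ≤ 𝐂[s] := h.le_cent'
  refine mem_of_constt_mem (π := {2}) (hS (h.syl.mem_of_mem_norm (constt_mem _ hg) (constt_mem _ hn)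
    (piElt_constt _ _))) ?_
  obtain ⟨y, hy⟩ : ∃ y, y = constt ({2} : Set ℕ)ᶜ g := ⟨_, rfl⟩
  have h1 : Odd (orderOf y) := Nat.odd_iff.2 (by
    have := (isPiNum_compl_singleton Nat.prime_two).1 (hy ▸ piElt_constt _ g : PiElt _ y); omega)
  have h2 := mem_cent1_iff_conj.1 (hy ▸ constt_mem ({2} : Set ℕ)ᶜ hc)
  rw [← hy]
  rcases h.mem_S4.1 (conj_mem_of_norm (hy ▸ constt_mem ({2} : Set ℕ)ᶜ hn) (s_mem_S4 t s)) with
    e | e | e | e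
  · exact absurd e (conj_ne_one.2 h.s_ne)
  · exact absurd (by simpa using h2.trans e.symm) h.ne
  · exact mem_cent1_iff_conj.2 e
  · have : y ^ 2 ∈ 𝐂[s] := mem_cent1_iff_conj.2 (by
      rw [pow_two, show y * y * s * (y * y)⁻¹ = y * (y * s * y⁻¹) * y⁻¹ by group, e, ← conj_mul, h2,
        e, ← mul_assoc, h.t_sq, one_mul])
    exact zpowers_le.2 this (mem_zpowers_pow_iff.2 (Nat.coprime_two_left.2 h1))

theorem sdprod_or (h : Pair X t s) : IsSdprod (O X) (S4 t s) X ∨ ∃ ρ, V4 X t s ρ := by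
  by_cases hc : X ⊓ 𝐍(S4 t s) ≤ 𝐂(S4 t s)
  · exact .inl (Burnside_normal_complement h.syl hc)
  obtain ⟨g, ⟨hg, hn⟩, hc⟩ := SetLike.not_le_iff_exists.1 hc
  rw [cent_S4] at hc
  have c1 : g * t * g⁻¹ ≠ t := fun e => hc ⟨mem_cent1_iff_conj.2 e,
    h.mem_cent_of_norm hg hn (mem_cent1_iff_conj.2 e)⟩
  have c2 : g * s * g⁻¹ ≠ s := fun e => hc ⟨h.symm.mem_cent_of_norm hg (S4_comm t s ▸ hn)
    (mem_cent1_iff_conj.2 e), mem_cent1_iff_conj.2 e⟩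
  have c3 : g * t * g⁻¹ * (g * s * g⁻¹) ≠ t * s := fun e => c1 (mem_cent1_iff_conj.1
    (h.mul.symm.mem_cent_of_norm hg (by rwa [S4_comm, S4_mul])
      (mem_cent1_iff_conj.2 (conj_mul.symm.trans e))))
  have c4 : g * t * g⁻¹ ≠ g * s * g⁻¹ := fun e => h.ne (by simpa using e)
  have k1 := (h.mem_S4.1 (conj_mem_of_norm hn (t_mem_S4 t s))).resolve_left (conj_ne_one.2 h.t_ne)
  have k2 := (h.mem_S4.1 (conj_mem_of_norm hn (s_mem_S4 t s))).resolve_left (conj_ne_one.2 h.s_ne)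
  rcases k1.resolve_left c1 with e1 | e1 <;> rcases k2 with e2 | e2 | e2
  · exact absurd (by rw [e1, e2, h.comm.eq]) c3
  · exact absurd e2 c2
  · exact .inr ⟨g, h.t_mem, hg, h.t_ne, h.t_sq, h.comm, e1, e2, h.not_dvd⟩
  · refine .inr ⟨g⁻¹, h.t_mem, inv_mem hg, h.t_ne, h.t_sq, h.comm, ?_, ?_, h.not_dvd⟩
    · rw [← e2]; group
    · have : g * (t * s) * g⁻¹ = s := by
        rw [← conj_mul, e1, e2, h.comm.eq, mul_assoc, h.t_sq, mul_one]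
      nth_rewrite 1 [← this]
      group
  · exact absurd e2 c2
  · exact absurd (e1.trans e2.symm) c4

theorem sdprod_of_cent (h : Pair X t s) (hc : X ≤ 𝐂[t]) : IsSdprod (O X) (S4 t s) X :=
  h.sdprod_or.resolve_right fun ⟨_, h'⟩ =>
    h.ne ((mem_cent1_iff_conj.1 (hc h'.ρ_mem)).symm.trans h'.ρt)

end Pair

variable [Finite G]

theorem odd_iff : Odd ♯Q ↔ PiGrp ({2} : Set ℕ)ᶜ Q := by
  rw [piGrp_compl_singleton Nat.prime_two, ← even_iff_two_dvd, Nat.not_even_iff_odd]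

theorem odd_O (X : Subgroup G) : Odd ♯(O X) := odd_iff.2 (Op'_piGrp 2 X)

theorem odd_of_le (h : Odd ♯Q) (hle : Y ≤ Q) : Odd ♯Y := h.of_dvd_nat (card_dvd hle)

theorem odd_of_mem (h : Odd ♯Q) (hx : x ∈ Q) : Odd (orderOf x) := h.of_dvd_nat (orderOf_dvd_card hx)

theorem sol_of_odd (h : Odd ♯Q) : Sol Q := ft.solvable h

theorem le_O (h : Q ⊴ X) (hQ : Odd ♯Q) : Q ≤ O X := le_Opi h (odd_iff.1 hQ)

theorem odd_of_isPGroup {p : ℕ} [hp : Fact p.Prime] (h2 : p ≠ 2) (h : IsPGroup p Q) : Odd ♯Q :=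
  odd_iff.2 (piGrp_compl_of_isPGroup h h2)

theorem odd_of_forall (h : ∀ a ∈ Q, a * a = 1 → a = 1) : Odd ♯Q := by
  rw [← Nat.not_even_iff_odd, even_iff_two_dvd]
  intro e
  obtain ⟨a, ha, e⟩ := cauchy Nat.prime_two e
  rw [h a ha (by rw [← pow_two, ← e, pow_orderOf_eq_one]), orderOf_one] at e
  exact absurd e (by decide)

theorem coprime_zp (hQ : Odd ♯Q) (h : t * t = 1) : (♯Q).Coprime ♯(zpowers t) := by
  rw [Nat.card_zpowers]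
  exact (Nat.coprime_two_right.2 hQ).coprime_dvd_right (orderOf_dvd_of_pow_eq_one (by rw [pow_two, h]))

theorem conj_eq_inv (hs : s * s = 1) (hn : s ∈ 𝐍(Q)) (h : Q ⊓ 𝐂[s] = ⊥) (hx : x ∈ Q) :
    s * x * s⁻¹ = x⁻¹ :=
  Frob.conj_eq_inv_of_fpf hs hn (fun k hk e => mem_bot.1 (h ▸ (⟨hk, mem_cent1.2 e.symm⟩ :
    k ∈ Q ⊓ 𝐂[s]))) hx

theorem ab_of_inf_eq_bot (hs : s * s = 1) (hn : s ∈ 𝐍(Q)) (h : Q ⊓ 𝐂[s] = ⊥) : Ab Q :=
  Frob.isMulCommutative_of_conj_eq_inv fun _ hk => conj_eq_inv hs hn h hk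

/-- a subgroup of odd order inverted by `s` -/
theorem commutator_eq_of_inf_eq_bot (hs : s * s = 1) (hn : s ∈ 𝐍(Q)) (hQ : Odd ♯Q)
    (h : Q ⊓ 𝐂[s] = ⊥) : ⁅Q, zpowers s⁆ = Q := by
  simpa [cent_zpowers, h] using
    coprime_cent_prod (zpowers_le.2 hn) (coprime_zp hQ hs) (.inl (sol_of_odd hQ))

namespace Pair

theorem sol_of_sdprod (h : Pair X t s) (h' : IsSdprod (O X) (S4 t s) X) : Sol X :=
  h'.sol (sol_of_odd (odd_O X)) (sol_of_ab h.ab)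

theorem le_O_of_sdprod (h : Pair X t s) (h' : IsSdprod (O X) (S4 t s) X) (hQ : Q ≤ X)
    (ho : Odd ♯Q) : Q ≤ O X :=
  (h'.hall_left (Op'_piGrp 2 X) h.syl.piGrp.compl_compl).le_of_normal_hall h'.normal.norm hQ
    (odd_iff.1 ho)

theorem le_O_cent (h : Pair X t s) (hQ : Q ≤ X ⊓ 𝐂[t]) (ho : Odd ♯Q) : Q ≤ O (X ⊓ 𝐂[t]) :=
  h.cent.le_O_of_sdprod (h.cent.sdprod_of_cent inf_le_right) hQ ho

theorem mem_O_cent (h : Pair X t s) (hx : x ∈ X ⊓ 𝐂[t]) (ho : Odd (orderOf x)) :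
    x ∈ O (X ⊓ 𝐂[t]) :=
  zpowers_le.1 (h.le_O_cent (zpowers_le.2 hx) (by rwa [Nat.card_zpowers]))

theorem le_of_forall (h : Pair X t s) (hn : S4 t s ≤ 𝐍(Q)) (ho : Odd ♯Q) (h1 : Q ⊓ 𝐂[t] ≤ Y)
    (h2 : Q ⊓ 𝐂[s] ≤ Y) (h3 : Q ⊓ 𝐂[t * s] ≤ Y) : Q ≤ Y :=
  coprime_abelian_gen_cent1 h.ab (h.isEp.not_isCyclic le_rfl) hn (h.coprime ho) fun a ha h0 => by
    rcases h.mem_S4.1 ha with rfl | rfl | rfl | rfl
    exacts [absurd rfl h0, h1, h2, h3]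

/-- `C_X(S) = O(C_X(t)) ∩ C(s) × S` -/
theorem cent_le (h : Pair X t s) : X ⊓ 𝐂[t] ⊓ 𝐂[s] ≤ (O (X ⊓ 𝐂[t]) ⊓ 𝐂[s]) ⊔ S4 t s :=
  ((h.cent.sdprod_of_cent inf_le_right).inf_of_right_le h.le_cent').sup_eq.ge

/-- an involution centralizing `t` is `t` or conjugate to `s` or `t s` in `C(t)` -/
theorem exists_pair (h : Pair X t s) (ha : a ∈ X ⊓ 𝐂[t]) (h1 : a ≠ 1) (h2 : a * a = 1)
    (h3 : a ≠ t) : ∃ g ∈ X ⊓ 𝐂[t], g •ᶜ S4 t a = S4 t s := by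
  have h' : Pair (X ⊓ 𝐂[t]) t a := { h.cent with
    s_mem := ha, s_ne := h1, ne := h3.symm, s_sq := h2, comm := (mem_cent1.1 ha.2).symm }
  obtain ⟨g, hg, e⟩ := h'.syl.exists_conj' h.cent.syl
  exact ⟨g, hg, e.symm⟩

end Pair

namespace V4

omit [Finite G] in
theorem pair (h : V4 X t s ρ) : Pair X t s := by
  have h1 : s ≠ 1 := h.ρt ▸ conj_ne_one.2 h.t_ne
  refine ⟨h.t_mem, h.ρt ▸ mul_mem (mul_mem h.ρ_mem h.t_mem) (inv_mem h.ρ_mem), h.t_ne, h1,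
    fun e => conj_ne_one.2 h1 (h.ρs.trans ?_), h.t_sq, h.ρt ▸ conj_sq h.t_sq ρ, h.comm, h.not_dvd⟩
  rw [← e, h.t_sq]

omit [Finite G] in
theorem ρts (h : V4 X t s ρ) : ρ * (t * s) * ρ⁻¹ = t := by
  rw [← conj_mul, h.ρt, h.ρs, ← mul_assoc, ← h.comm.eq, mul_assoc, h.pair.s_sq, mul_one]

omit [Finite G] in
theorem rot (h : V4 X t s ρ) : V4 X s (t * s) ρ :=
  ⟨h.pair.s_mem, h.ρ_mem, h.pair.s_ne, h.pair.s_sq, h.comm.symm.mul_right (Commute.refl s), h.ρs, by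
    rw [h.ρts, ← mul_assoc, ← h.comm.eq, mul_assoc, h.pair.s_sq, mul_one], h.not_dvd⟩

omit [Finite G] in
theorem mono (h : V4 X t s ρ) (h1 : t ∈ Y) (h2 : ρ ∈ Y) (hle : Y ≤ X) : V4 Y t s ρ :=
  { h with t_mem := h1, ρ_mem := h2, not_dvd := fun e => h.not_dvd (e.trans (card_dvd_of_le hle)) }

omit [Finite G] in
theorem conj (h : V4 X t s ρ) (g : G) :
    V4 (g •ᶜ X) (g * t * g⁻¹) (g * s * g⁻¹) (g * ρ * g⁻¹) :=
  ⟨conj_mem_conj h.t_mem, conj_mem_conj h.ρ_mem, conj_ne_one.2 h.t_ne, conj_sq h.t_sq g,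
    h.comm.map (MulAut.conj g), by rw [← h.ρt]; group,
    by rw [conj_mul (a := t) (b := g) (c := s), ← h.ρs]; group,
    by simpa using h.not_dvd⟩

theorem mem_norm (h : V4 X t s ρ) : ρ ∈ 𝐍(S4 t s) :=
  mem_norm_of_conj_le (by
    rw [conj_S4, h.ρt, h.ρs]
    exact S4_le.2 ⟨s_mem_S4 _ _, mul_mem (t_mem_S4 _ _) (s_mem_S4 _ _)⟩)

omit [Finite G] in
theorem exists_conj_of_mem (h : V4 X t s ρ) (ha : a ∈ S4 t s) (h1 : a ≠ 1) :
    ∃ g ∈ zpowers ρ, g * t * g⁻¹ = a := by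
  rcases h.pair.mem_S4.1 ha with rfl | rfl | rfl | rfl
  exacts [absurd rfl h1, ⟨1, one_mem _, by simp⟩, ⟨ρ, mem_zpowers ρ, h.ρt⟩,
    ⟨ρ⁻¹, inv_mem (mem_zpowers ρ), by nth_rewrite 1 [← h.ρts]; group⟩]

/-- one class of involutions -/
theorem exists_conj (h : V4 X t s ρ) (ha : a ∈ X) (h1 : a ≠ 1) (h2 : a * a = 1) :
    ∃ g ∈ X, g * t * g⁻¹ = a := by
  obtain ⟨g, hg, e⟩ := h.pair.exists_conj_mem ha h2
  obtain ⟨y, hy, e⟩ := h.exists_conj_of_mem e (conj_ne_one.2 h1)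
  refine ⟨g⁻¹ * y, mul_mem (inv_mem hg) (zpowers_le.2 h.ρ_mem hy), ?_⟩
  rw [show g⁻¹ * y * t * (g⁻¹ * y)⁻¹ = g⁻¹ * (y * t * y⁻¹) * g by group, e]
  group

/-- a normal subgroup of even order contains `S` -/
theorem le_of_normal (h : V4 X t s ρ) (hN : N ⊴ X) (he : ¬ Odd ♯N) : S4 t s ≤ N := by
  obtain ⟨a, ha, h1⟩ := exists_mem_ne_one ((h.pair.syl.normal_inf hN).ne_bot
    (even_iff_two_dvd.1 (Nat.not_odd_iff_even.1 he)))
  obtain ⟨g, hg, rfl⟩ := h.exists_conj_of_mem ha.2 h1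
  have h2 : t ∈ N := (mem_norm_iff.1 (hN.norm (zpowers_le.2 h.ρ_mem hg)) t).2 ha.1
  exact S4_le.2 ⟨h2, h.ρt ▸ hN.conj_mem h.ρ_mem h2⟩

theorem le_der (h : V4 X t s ρ) : S4 t s ≤ der X :=
  h.le_of_normal (der_normal X) fun e => h.pair.mul_ne_one (eq_one_of_odd_of_sq (odd_of_mem e (by
    have := commutator_mem_commutator h.t_mem h.ρ_mem
    rwa [commutatorElement_def, inv_eq h.t_sq, mul_assoc t, mul_assoc t, h.ρt] at this))
    h.pair.mul_sq)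

theorem not_sdprod (h : V4 X t s ρ) : ¬ IsSdprod (O X) (S4 t s) X := fun h' =>
  h.t_ne (mem_bot.1 (h'.inf_eq ▸ (⟨h'.der_le_of_ab h.pair.ab (h.le_der (t_mem_S4 t s)),
    t_mem_S4 t s⟩ : t ∈ O X ⊓ S4 t s)))

/-- `N_X(S) = C_X(S) ⟨ρ⟩` -/
theorem norm_le (h : V4 X t s ρ) : X ⊓ 𝐍(S4 t s) ≤ X ⊓ 𝐂[t] ⊓ 𝐂[s] ⊔ zpowers ρ := by
  intro g hg
  obtain ⟨y, hy, e⟩ := h.exists_conj_of_mem (conj_mem_of_norm hg.2 (t_mem_S4 t s))
    (conj_ne_one.2 h.t_ne)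
  have h1 : y⁻¹ * g ∈ X ⊓ 𝐍(S4 t s) :=
    mul_mem (inv_mem (zpowers_le.2 (show ρ ∈ X ⊓ _ from ⟨h.ρ_mem, h.mem_norm⟩) hy)) hg
  have h2 : y⁻¹ * g ∈ 𝐂[t] := mem_cent1_iff_conj.2 (by
    rw [show y⁻¹ * g * t * (y⁻¹ * g)⁻¹ = y⁻¹ * (g * t * g⁻¹) * y by group, ← e]; group)
  exact (mul_mem_cancel_left (inv_mem (mem_sup_right hy))).1
    (mem_sup_left ⟨⟨h1.1, h2⟩, h.pair.mem_cent_of_norm h1.1 h1.2 h2⟩)

end V4

end Cfsg.Agent.GW
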