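import Cfsg.Agent.Lib.GW.Good
import Cfsg.Agent.Lib.OO.BG4

/-!
# Groups with Sylow 2-subgroups of order 4 and `O(X) = 1`
-/

set_option autoImplicit false

namespace Cfsg.Agent.GW

open Subgroup Cfsg.Agent.OO Cfsg.Agent.Coprime
open scoped commutatorElement Pointwise

universe u

variable {G : Type u} [Group G] [Finite G] {X Y P Q N L M J B Γ : Subgroup G} {t s ρ ρ' a x g w : G}
  {n p : ℕ}

theorem card_dvd_of_relIndex (hc : ∀ D, D ⊴ Γ → D ≤ M → D = ⊥) (h : M.relIndex Γ ≤ 5) :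
    ♯Γ ∣ 120 := by
  classical
  have := Fintype.ofFinite (Γ ⧸ M.subgroupOf Γ)
  have h1 := (map_eq_bot_iff_of_injective _ Γ.subtype_injective).1 (hc _ (normalIn_map_subtype
    (M.subgroupOf Γ).normalCore) (map_le_iff_le_comap.2 (normalCore_le _)))
  rw [← index_bot, ← h1, normalCore_eq_ker, index_ker]
  refine (card_subgroup_dvd_card _).trans ?_
  rw [Nat.card_perm, ← index_eq_card]
  exact Nat.factorial_dvd_factorial h

theorem relIndex_eq_of_isProd (h : IsProd L B Γ) (hB : B ≤ M) : M.relIndex Γ = M.relIndex L := by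
  have h1 : IsProd L (M ⊓ Γ) Γ := IsProd.of_forall h.left_le inf_le_right fun x hx => by
    obtain ⟨a, ha, b, hb, e⟩ := h.mem_iff.1 hx
    exact ⟨a, ha, b, ⟨hB hb, h.right_le hb⟩, e⟩
  rw [← inf_relIndex_right M Γ, h1.relIndex_eq, ← inf_relIndex_right, inf_assoc,
    inf_eq_right.2 h.left_le, inf_relIndex_right]

theorem card_le_kI (hQ : Q ≤ X ⊓ 𝐂[t]) (h : Q ⊓ 𝐂[s] = ⊥) : ♯Q ≤ kI X t s := by
  rw [← card_inf_mul_relIndex 𝐂[s] Q, inf_comm, h, card_bot, one_mul]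
  exact relIndex_le_of_le_right hQ (relIndex_pos _ _).ne'

theorem kI_eq_one : kI X t s = 1 ↔ X ⊓ 𝐂[t] ≤ 𝐂[s] := relIndex_eq_one

omit [Finite G] in
theorem V4.mul_left (h : V4 X t s ρ) (hx : x ∈ X ⊓ 𝐂[t] ⊓ 𝐂[s]) : V4 X t s (x * ρ) :=
  { h with
    ρ_mem := mul_mem hx.1.1 h.ρ_mem
    ρt := by rw [← conj_conj_elt, h.ρt, mem_cent1_iff_conj.1 hx.2]
    ρs := by rw [← conj_conj_elt, h.ρs, ← conj_mul, mem_cent1_iff_conj.1 hx.1.2,
      mem_cent1_iff_conj.1 hx.2] }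
where conj_conj_elt {a b c : G} : a * (b * c * b⁻¹) * a⁻¹ = a * b * c * (a * b)⁻¹ := by group

theorem V4.isProd (h : V4 L t s ρ) (hL : L ⊴ X) (h8 : ¬ 8 ∣ ♯X) :
    IsProd L (X ⊓ 𝐂[t] ⊓ 𝐂[s]) X := by
  have h1 : X ⊓ 𝐂[t] ⊓ 𝐂[s] ≤ X := inf_le_left.trans inf_le_left
  have h2 := IsProd.of_norm (A := L) (.inr (h1.trans hL.norm))
  rwa [le_antisymm (sup_le hL.le h1) ((h.pair.syl.frattini hL).sup_eq.ge.trans (sup_le le_sup_left
    ((V4.norm_le { h with t_mem := hL.le h.t_mem, ρ_mem := hL.le h.ρ_mem, not_dvd := h8 }).trans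
      (sup_le le_sup_right (le_sup_of_le_left (zpowers_le.2 h.ρ_mem))))))] at h2

theorem V4.not_le_cent (h : V4 X t s ρ) (ha : a ∈ S4 t s) (h1 : a ≠ 1) : ¬ X ≤ 𝐂[a] := fun e => by
  obtain ⟨g, hg, rfl⟩ := h.exists_conj_of_mem ha h1
  rw [cent1_conj, le_conj_iff_inv_conj_le, conj_eq_of_mem (inv_mem (zpowers_le.2 h.ρ_mem hg))] at e
  exact h.pair.ne ((mem_cent1_iff_conj.1 (e h.ρ_mem)).symm.trans h.ρt)

theorem V4.perfect (h : V4 J t s ρ) (hO : O J = ⊥) (hc : J ⊓ 𝐂[t] ⊓ 𝐂[s] ≤ S4 t s)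
    (hk : kI J t s ≠ 1) : der J = J := by
  rcases (h.pair.mono' h.le_der (der_le J)).sdprod_or with e | ⟨ρ', e⟩
  · refine absurd (kI_eq_one.2 fun g hg => h.pair.mem_cent_of_norm hg.1 ?_ hg.2) hk
    rw [e.right_eq_iff.2 (eq_bot_iff.2 ((Opi_le_of_normal _ (der_normal J)).trans hO.le))]
    exact (der_normal J).norm hg.1
  · exact le_antisymm (der_le J) ((e.isProd (der_normal J) h.not_dvd).sup_eq.ge.trans
      (sup_le le_rfl (hc.trans h.le_der)))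

theorem relIndex_le_five (cO : CharO.{u}) (h : V4 L t s ρ) (hp : der L = L) (hM : M ≤ L)
    (hc : L ⊓ 𝐂[t] ≤ M) (h' : V4 M t s ρ') : M.relIndex L ≤ 5 := by
  have h1 := relIndex_mul_nI hM t
  have h2 := kI_eq (s := s) hM (inf_le_left.trans hc)
  have h3 := ((cO G L t s ρ h).2 hp).2
  have h4 := (cO G M t s ρ' h').1
  rw [relIndex_eq_one.2 hc] at h1 h2
  have h5 : 0 < kI M t s ^ 2 := pow_pos (relIndex_pos _ _) 2
  rw [h2, one_mul] at h3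
  nlinarith

theorem arith_sixty {c n : ℕ} (h1 : 4 * c * n ∣ 120) (h2 : ¬ 8 ∣ 4 * c * n) (h3 : 6 ≤ n) :
    4 * c * n = 60 ∧ 4 * c = 4 := by
  have h6 : c * n ∣ 30 := Nat.dvd_of_mul_dvd_mul_left (by decide : 0 < 4) (by rwa [← mul_assoc])
  have h7 := Nat.le_of_dvd (by decide) h6
  have h8 := Nat.le_of_dvd (by decide) ((dvd_mul_left n c).trans h6)
  have h9 : c ≤ 5 := by nlinarith
  interval_cases c <;> interval_cases n <;> simp_all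

theorem card_eq_sixty (cO : CharO.{u}) (h : V4 L t s ρ) (hp : der L = L) (hd : ♯L ∣ 120) :
    ♯L = 60 ∧ ♯(L ⊓ 𝐂[t]) = 4 := by
  have h1 := card_inf_mul_relIndex 𝐂[t] L
  obtain ⟨c, h2⟩ := h.pair.card ▸ card_dvd h.pair.cent.le
  have h3 := ((cO G L t s ρ h).2 hp).1
  have h4 : 0 < kI L t s ^ 2 := pow_pos (relIndex_pos _ _) 2
  have h5 := h.not_dvd
  rw [inf_comm, h2] at h1
  rw [← h1] at hd h5 ⊢
  rw [h2]
  exact arith_sixty hd h5 (by rw [nI] at h3; omega)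

/-- a proper overgroup of `C(t)` with one class of involutions forces `C(t) = S` -/
theorem card_cent_eq (cO : CharO.{u}) (h : V4 L t s ρ) (hs : Smp L) (hp : der L = L) (hM : M < L)
    (hc : L ⊓ 𝐂[t] ≤ M) (h' : V4 M t s ρ') : ♯(L ⊓ 𝐂[t]) = 4 :=
  (card_eq_sixty cO h hp (card_dvd_of_relIndex (fun D h1 h2 => (hs D h1).resolve_right
    fun e => hM.not_ge (e ▸ h2)) (relIndex_le_five cO h hp hM.le hc h'))).2

namespace Good

theorem inf_eq_bot (hg : Good L) (h : Pair L t s) (hQ : Q ≤ L ⊓ 𝐂[t]) (ho : Odd ♯Q) :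
    Q ⊓ 𝐂[s] = ⊥ := eq_bot_iff.2 fun x hx => by_contra fun h1 =>
  h.ne (hg.ui x (hQ hx.1).1 (odd_of_mem ho hx.1) h1 t ⟨h.t_mem, mem_cent1_comm.1 (hQ hx.1).2⟩ s
    ⟨h.s_mem, mem_cent1_comm.1 hx.2⟩ h.t_ne h.t_sq h.s_ne h.s_sq)

theorem eq_one (hg : Good L) (h : Pair L t s) (hx : x ∈ L ⊓ 𝐂[t] ⊓ 𝐂[s]) (ho : Odd (orderOf x)) :
    x = 1 :=
  mem_bot.1 (hg.inf_eq_bot h (zpowers_le.2 hx.1) (by rwa [Nat.card_zpowers]) ▸
    (⟨mem_zpowers x, hx.2⟩ : x ∈ zpowers x ⊓ 𝐂[s]))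

theorem cent_le (hg : Good L) (h : Pair L t s) : L ⊓ 𝐂[t] ⊓ 𝐂[s] ≤ S4 t s := by
  simpa [hg.inf_eq_bot h (Opi_le _ _) (odd_O _)] using h.cent_le

theorem mem_cent (hg : Good L) (ha : a ∈ L) (h1 : a ≠ 1) (h2 : a * a = 1) (hx : x ∈ L ⊓ 𝐂[a])
    (ho : Odd (orderOf x)) (hx1 : x ≠ 1) (hgL : g ∈ L) (hc : g⁻¹ * x * g ∈ 𝐂[a]) : g ∈ 𝐂[a] :=
  mem_cent1_iff_conj.2 (hg.ui x hx.1 ho hx1 _ ⟨L.mul_mem (L.mul_mem hgL ha) (L.inv_mem hgL),
    mem_cent1_comm.1 (by rwa [cent1_conj, mem_conj])⟩ a ⟨ha, mem_cent1_comm.1 hx.2⟩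
    (conj_ne_one.2 h1) (conj_sq h2 g) h1 h2)

theorem norm_le (hg : Good L) (ha : a ∈ L) (h1 : a ≠ 1) (h2 : a * a = 1) (hQ : Q ≤ L ⊓ 𝐂[a])
    (ho : Odd ♯Q) (h0 : Q ≠ ⊥) : L ⊓ 𝐍(Q) ≤ 𝐂[a] := fun g hg' => by
  obtain ⟨x, hx, hx1⟩ := exists_mem_ne_one h0
  exact hg.mem_cent ha h1 h2 (hQ hx) (odd_of_mem ho hx) hx1 hg'.1 (hQ (conj_mem_of_norm' hg'.2 hx)).2

theorem exists_le_cent (hg : Good L) (h : Pair L t s) (hP : P ≤ L) (hn : Nil P) (ho : Odd ♯P)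
    (h0 : P ≠ ⊥) (hS : S4 t s ≤ 𝐍(P)) : ∃ a ∈ S4 t s, a ≠ 1 ∧ P ≤ 𝐂[a] := by
  by_contra! h1
  refine Zc_ne_bot hn h0 (eq_bot_iff.2 (coprime_abelian_gen_cent1 h.ab (h.isEp.not_isCyclic le_rfl)
    (le_norm_Zc hS) (h.coprime (odd_of_le ho (Zc_le P))) fun a ha a1 x hx => by_contra fun x1 =>
      h1 a ha a1 fun g hg' => ?_))
  refine hg.mem_cent (h.le ha) a1 (by simpa [sq] using h.isEp.abelem.2 a ha) ⟨hP hx.1.1, hx.2⟩
    (odd_of_mem ho hx.1.1) x1 (hP hg') ?_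
  rw [mul_assoc, ← (mem_Zc.1 hx.1).2 g hg', inv_mul_cancel_left]
  exact hx.2

theorem O_eq_bot (hg : Good L) (hJ : J ≤ L) (h' : Pair L t s) (h : V4 J t s ρ) : O J = ⊥ := by
  by_contra h0
  have h1 := (Fit_le _).trans ((Opi_le _ _).trans hJ : O J ≤ L)
  have hn := (Opi_normal _ J : O J ⊴ J).Fit.norm
  have ho := odd_of_le (odd_O J) (Fit_le _)
  have h2 := Fit_ne_bot (sol_of_odd (odd_O J)) h0
  obtain ⟨a, ha, a1, h3⟩ := hg.exists_le_cent h' h1 (Fit_nil _) ho h2 (h.pair.le.trans hn)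
  exact h.not_le_cent ha a1 ((le_inf hJ hn).trans (hg.norm_le (h'.le ha) a1
    (by simpa [sq] using h'.isEp.abelem.2 a ha) (le_inf h1 h3) ho h2))

end Good

/-- `X` is an almost simple group with socle `L` -/
structure Red (X L : Subgroup G) (t s ρ : G) : Prop where
  not_dvd : ¬ 8 ∣ ♯X
  normal : L ⊴ X
  good : Good L
  v4 : V4 L t s ρ
  cent : X ⊓ 𝐂(L) = ⊥

theorem Pair.red (h : Pair X t s) (ih : IH.{u} n) (hn : ♯X < n) (hO : O X = ⊥) :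
    X ≤ 𝐍(S4 t s) ∨ ∃ L ρ, Red X L t s ρ := by
  have k0 : ∀ L, L ⊴ X → O L = ⊥ := fun L hL => eq_bot_iff.2 ((Opi_le_of_normal _ hL).trans hO.le)
  have k1 : ∀ L, L ⊴ X → Pair L t s → L = S4 t s ∨ ∃ ρ, V4 L t s ρ := fun L hL hp =>
    hp.sdprod_or.imp_left fun e => (e.right_eq_iff.2 (k0 L hL)).symm
  have k2 : ∀ L ρ, L ⊴ X → V4 L t s ρ → ∀ D, D ⊴ L → D ≠ ⊥ → S4 t s ≤ D := fun L ρ hL hv D hD h0 =>
    hv.le_of_normal hD fun e => h0 (eq_bot_iff.2 (k0 L hL ▸ le_O hD e))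
  rcases k1 X (.refl X) h with e | ⟨ρ, hv⟩
  · exact .inl (e.le.trans (le_norm_self _))
  obtain ⟨L, hL, hLX⟩ := exists_minNormalBy (fun e => h.t_ne (mem_bot.1 (e ▸ h.t_mem))) (le_norm_self X)
  have hLn : L ⊴ X := ⟨hLX, hL.norm⟩
  have hp := h.mono' (k2 X ρ (.refl X) hv L hLn hL.ne_bot) hLX
  rcases k1 L hLn hp with e | ⟨ρ', hv'⟩
  · exact .inl (e ▸ hL.norm)
  by_cases ha : Ab L
  · exact absurd (ha.le_cent.trans (cent_le_cent1 hp.t_mem)) (hv'.not_le_cent (t_mem_S4 t s) h.t_ne)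
  refine .inr ⟨L, ρ', h.not_dvd, hLn, ih G L ((card_le hLX).trans_lt hn) (fun D hD => ?_) ha
    hp.not_dvd, hv', by_contra fun e => hv'.not_le_cent (t_mem_S4 t s) h.t_ne
      (le_cent1_iff.2 (k2 X ρ (.refl X) hv _ hLn.cent e (t_mem_S4 t s)).2)⟩
  refine or_iff_not_imp_left.2 fun h0 => ?_
  obtain ⟨E, hE, hED⟩ := exists_minNormalBy h0 hD.norm
  have hEn : E ⊴ L := ⟨hED.trans hD.le, hE.norm⟩
  refine le_antisymm hD.le ((hL.eq_of_ne_bot hEn.le (fun g hg => ?_) hE.ne_bot).ge.trans hED)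
  have h1 : (g⁻¹ •ᶜ E) ⊴ L := hLn.conj_eq (inv_mem hg) ▸ hEn.conj g⁻¹
  refine mem_norm_of_conj_le (conj_le_iff_le_inv_conj.2 (hE.le_of_inf_ne_bot h1.norm fun e => ?_))
  exact h.t_ne (mem_bot.1 (e ▸ le_inf (k2 L ρ' hLn hv' E hEn hE.ne_bot)
    (k2 L ρ' hLn hv' _ h1 (mt conj_eq_bot_iff.1 hE.ne_bot)) (t_mem_S4 t s)))

theorem Red.eq_one_of_cent (cO : CharO.{u}) (h : Red X L t s ρ) (hw : w ∈ X) (ho : Odd (orderOf w))
    (h1 : L ⊓ 𝐂[t] ≤ 𝐂[w]) (h2 : ρ ∈ 𝐂[w]) : w = 1 := by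
  have hp := h.v4.pair
  by_cases h3 : L ≤ 𝐂[w]
  · exact mem_bot.1 (h.cent ▸ (⟨hw, le_cent1_iff.1 h3⟩ : w ∈ X ⊓ 𝐂(L)))
  have h4 : zpowers w ≤ 𝐍(L) := zpowers_le.2 (h.normal.norm hw)
  have h5 : L ⊔ zpowers w ≤ X := sup_le h.normal.le (zpowers_le.2 hw)
  have h6 : ♯(L ⊔ zpowers w) ∣ 120 := by
    refine card_dvd_of_relIndex (M := 𝐂[w]) (fun D hD hc => ?_) ?_
    · have := (h.good.smp _ (hD.inf_right le_sup_left)).resolve_right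
        fun e => h3 (e.ge.trans (inf_le_left.trans hc))
      exact eq_bot_iff.2 (h.cent ▸ le_inf (hD.le.trans h5) (le_cent_of_inf_eq_bot
        ((hD.le.trans h5).trans h.normal.norm) (le_sup_left.trans hD.norm) this))
    · rw [relIndex_eq_of_isProd (IsProd.of_norm (.inr h4)) (zpowers_le.2 (mem_cent1_self w)),
        ← inf_relIndex_left]
      exact relIndex_le_five cO h.v4 h.good.perfect inf_le_left (le_inf inf_le_left h1)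
        (h.v4.mono ⟨hp.t_mem, h1 hp.cent.t_mem⟩ ⟨h.v4.ρ_mem, h2⟩ inf_le_left)
  have h7 := (card_eq_sixty cO h.v4 h.good.perfect ((card_dvd le_sup_left).trans h6)).1
  have h8 : L = L ⊔ zpowers w := eq_of_le_of_card_le le_sup_left (by
    have h9 : ¬ 8 ∣ ♯(L ⊔ zpowers w) := fun e => h.not_dvd (e.trans (card_dvd h5))
    obtain ⟨c, hc⟩ := h6
    have : c ≠ 1 := fun e => h9 (by rw [e] at hc; omega)
    rcases c with _ | _ | c <;> first | omega | nlinarith)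
  exact h.good.eq_one hp ⟨⟨h8.ge (mem_sup_right (mem_zpowers w)), mem_cent1_comm.1 (h1 hp.cent.t_mem)⟩,
    mem_cent1_comm.1 (h1 hp.cent.s_mem)⟩ ho

theorem Red.eq_one_of_mem_Op [hp : Fact p.Prime] (cO : CharO.{u}) (h : Red X L t s ρ) (h2 : p ≠ 2)
    (hw : w ∈ Op p (X ⊓ 𝐂[t])) (hs : w ∈ 𝐂[s]) (h1 : w ^ p = 1) : w = 1 := by
  by_contra h0
  have hv := h.v4.pair
  have hwo := orderOf_eq_prime h1 h0
  have ho : Odd (orderOf w) := hwo ▸ hp.out.odd_of_ne_two h2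
  have hw' := Op_le _ _ hw
  have hc : zpowers w ≤ 𝐂(S4 t s) := cent_S4 t s ▸ zpowers_le.2 ⟨hw'.2, hs⟩
  obtain ⟨y, hy, hy'⟩ := coprime_cent_lift (le_norm_of_le_cent hc) (hv.coprime (by
    rwa [Nat.card_zpowers])).symm (.inl (sol_of_ab hv.ab)) h.v4.mem_norm fun a ha => h.good.cent_le hv
      (by rw [inf_assoc, ← cent_S4]; exact ⟨commutator_le_left' ((zpowers_le.2 hw'.1).trans
        h.normal.norm) (commutator_mem_commutator h.v4.ρ_mem ha), commutator_le_right'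
          (norm_le_norm_cent _) (commutator_mem_commutator h.v4.mem_norm (hc ha))⟩)
  rw [cent_zpowers] at hy'
  have hv' := h.v4.mul_left ⟨hv.cent.le hy, hv.le_cent' hy⟩
  have hJ := hv'.mono (Y := L ⊓ 𝐂[w]) ⟨hv.t_mem, mem_cent1_comm.1 hw'.2⟩ ⟨hv'.ρ_mem, hy'⟩ inf_le_left
  by_cases h3 : L ⊓ 𝐂[t] ≤ L ⊓ 𝐂[w]
  · exact h0 (Red.eq_one_of_cent cO { h with v4 := hv' } hw'.1 ho (h3.trans inf_le_right) hy')
  obtain ⟨P, hP⟩ : ∃ P, P = Op p (X ⊓ 𝐂[t]) ⊓ L := ⟨_, rfl⟩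
  have hPo : Odd ♯(Op p (X ⊓ 𝐂[t])) := odd_of_isPGroup h2 (Op_isPGroup _ _)
  have hR : P ⊔ zpowers w ≤ Op p (X ⊓ 𝐂[t]) := sup_le (hP ▸ inf_le_left) (zpowers_le.2 hw)
  have hLt : L ⊓ 𝐂[t] ≤ X ⊓ 𝐂[t] := inf_le_inf_right _ h.normal.le
  have hn : L ⊓ 𝐂[t] ≤ 𝐍(Ohm p (P ⊔ zpowers w)) := le_norm_Ohm p (commutator_le_left_iff.1
    (le_sup_of_le_left ((le_inf ((commutator_mono hR hLt).trans (Op_normal _ _).commutator_le)
      ((commutator_mono (hR.trans ((Op_le _ _).trans inf_le_left)) inf_le_left).trans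
        (commutator_le_right' h.normal.norm))).trans hP.ge)))
  have hab : Ab (Ohm p (P ⊔ zpowers w)) := by
    by_cases e : IsCyclic ↥(P ⊔ zpowers w)
    · exact ab_of_le (ab_of_isCyclic e) (Ohm_le _ _)
    obtain ⟨x, hx⟩ := exists_zpowers_eq (h.good.cyc t hv.t_mem hv.t_ne hv.t_sq P (hP ▸ le_inf
      inf_le_right (inf_le_left.trans ((Op_le _ _).trans inf_le_right))) (odd_of_le hPo (hP ▸ inf_le_left)))
    refine (Ohm1_extremal_odd ((Op_isPGroup _ _).to_le hR) (odd_of_le hPo hR) e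
      (mem_sup_left (hx ▸ mem_zpowers x)) ?_).ab
    rw [hx, relIndex_sup_eq' (.inr (hP ▸ zpowers_le.2 (mem_norm_inf (le_norm_self _ hw)
      (h.normal.norm hw'.1)))), ← hwo, ← Nat.card_zpowers, ← card_inf_mul_relIndex P, inf_comm,
      inf_eq_bot_of_prime (by rw [Nat.card_zpowers, hwo]; exact hp.out) fun e => h0 (h.good.eq_one hv
        ⟨⟨(hP.le (e (mem_zpowers w))).2, hw'.2⟩, hs⟩ ho), card_bot, one_mul]
  have hwΩ := mem_Ohm (mem_sup_right (mem_zpowers w) : w ∈ P ⊔ zpowers w) h1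
  have hΩ := (Ohm_le p _).trans hR
  have hQ : Ohm p (P ⊔ zpowers w) ⊓ L ≤ L ⊓ 𝐂[w] ⊓ 𝐂[t] := le_inf (le_inf inf_le_right
    (inf_le_left.trans (hab.le_cent.trans (cent_le_cent1 hwΩ))))
    (inf_le_left.trans (hΩ.trans ((Op_le _ _).trans inf_le_right)))
  have hQo := odd_of_le hPo (inf_le_left.trans hΩ : _ ⊓ L ≤ _)
  have key : ∀ g ∈ L ⊓ 𝐂[t], g * w * g⁻¹ * w⁻¹ ∈ Ohm p (P ⊔ zpowers w) ⊓ L := fun g hg =>
    ⟨Subgroup.mul_mem _ (conj_mem_of_norm (hn hg) hwΩ) (inv_mem hwΩ), commutator_le_left'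
      ((zpowers_le.2 hw'.1).trans h.normal.norm) (commutator_mem_commutator hg.1 (mem_zpowers w))⟩
  have h4 : (L ⊓ 𝐂[w]).relIndex (L ⊓ 𝐂[t]) ≤ kI (L ⊓ 𝐂[w]) t s := by
    refine le_trans ?_ (card_le_kI hQ (h.good.inf_eq_bot hv
      (hQ.trans (inf_le_inf_right _ inf_le_left)) hQo))
    rw [← inf_relIndex_right, inf_comm L, inf_assoc, ← inf_assoc L, inf_idem, inf_relIndex_right,
      ← ncard_conj]
    refine Set.ncard_le_ncard_of_injOn (· * w⁻¹) ?_ (mul_left_injective _).injOn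
    rintro _ ⟨g, hg, rfl⟩
    exact key g hg
  refine h3 (count inf_le_left hJ.t_mem ((h.good.cent_le hv).trans hJ.pair.le) (fun g hg hgJ x hx e => ?_)
    ((cO G L t s ρ h.v4).2 h.good.perfect).2 ((cO G _ t s _ hJ).2 (hJ.perfect (h.good.O_eq_bot
      inf_le_left hv hJ) (le_trans (inf_le_inf_right _ (inf_le_inf_right _ inf_le_left))
        (h.good.cent_le hv)) fun e => h3 (relIndex_eq_one.1 ?_))).1 h4)
  · have h5 := mul_mem (mul_mem hx hJ.t_mem) (inv_mem hx)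
    refine h.good.ui _ (key g hg).2 (odd_of_mem hQo (key g hg)) (fun e => hgJ ⟨hg.1,
      mem_cent1_iff_conj.2 (mul_inv_eq_one.1 e)⟩) _ ⟨h5.1, mem_cent1_comm.1 (mul_mem ?_
        (inv_mem (mem_cent1_comm.1 h5.2)))⟩ t ⟨hv.t_mem, mem_cent1_comm.1 (hQ (key g hg)).2⟩
        (conj_ne_one.2 hv.t_ne) (conj_sq hv.t_sq x) hv.t_ne hv.t_sq
    rw [mem_cent1_comm, cent1_conj, mem_conj]
    exact e.2
  · have := relIndex_pos (L ⊓ 𝐂[w]) (L ⊓ 𝐂[t])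
    omega

end Cfsg.Agent.GW
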