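import Cfsg.Agent.Lib.GW.Char2

/-!
# Groups with Sylow 2-subgroups of order 4: the order formulas
-/

set_option autoImplicit false

namespace Cfsg.Agent.GW

open Subgroup Cfsg.Agent.OO Cfsg.Agent.Blk Cfsg.Agent.R1
open scoped ComplexConjugate Pointwise commutatorElement

universe u

variable {G : Type u} [Group G] [Finite G] {X N U : Subgroup G} {φ ψ χ β γ β₀ β₁ β₂ : G → ℂ}
  {t s ρ a b g u y z : G}

local notation "𝓗" => X ⊓ centralizer (Singleton.singleton t)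
local notation "𝓤" => O (X ⊓ centralizer (Singleton.singleton t))

theorem eq_cf1_of_perfect (hX : ⁅X, X⁆ = X) (hχ : IsIrr X χ) (h1 : χ t = 1 ∨ χ t = -1)
    (h2 : χ t * χ 1 = 1) : χ = cf1 X := by
  obtain ⟨n, -, hn⟩ := hχ.exists_one
  refine hχ.le_cfker_iff.1 (hX.ge.trans (lin_char_der1 (hχ.isLinChar ?_)))
  rcases h1 with e | e <;> rw [e] at h2
  · rwa [one_mul] at h2
  · rw [hn] at h2
    have : (-1 : ℤ) * n = 1 := by exact_mod_cast h2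
    omega

theorem exists_lin (hN : N ⊴ U) (hs : Sol U) (hne : N ≠ U) :
    ∃ β, IsLinChar U β ∧ N ≤ cfker U β ∧ β ≠ cf1 U := by
  obtain ⟨M, h1, h2, h3⟩ := exists_prime_relIndex_of_sol hN (sol_quo hs N) hne
  obtain ⟨x, hx, h4⟩ := SetLike.not_le_iff_exists.1 fun e => h3.ne_one (relIndex_eq_one.2 e)
  obtain ⟨β, h5, h6, h7⟩ := exists_lin_char_cfker h2 (der_le_of_relIndex_prime h2 h3) h4
  exact ⟨β, h5, h1.trans h6, fun e => h7 (by rwa [e, cfker_cf1])⟩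

theorem Pair.lin_mem_CF (h : Pair X t s) (hβ : IsLinChar 𝓤 β) (hk : ⁅𝓤, zpowers s⁆ ≤ cfker 𝓤 β) :
    β ∈ CF 𝓗 :=
  mem_CF_of_inertia (suppOn_mono h.sd.left_le hβ.mem_CF.1) (inertia_eq_of_le (h.sd.sup_eq.ge.trans
    (sup_le (sub_inertia h.sd.left_le hβ.mem_CF) (S4_le.2
    ⟨(mem_inertia_lin hβ h.cinv.mem (h.sd.normal.norm h.cinv.mem)).2 fun x hx => by
      rw [← mem_cent1.1 (h.sd.left_le hx).2]; simp [one_mem],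
    (mem_inertia_lin hβ h.cent.s_mem (h.sd.normal.norm h.cent.s_mem)).2 fun x hx =>
      hk (Subgroup.commutator_comm_le _ _ (commutator_mem_commutator (mem_zpowers s) hx))⟩))))

namespace V4

theorem bounds (h : V4 X t s ρ) : 3 * kI X t s ^ 2 ≤ nI X t ∧ (⁅X, X⁆ = X →
    40 * kI X t s ^ 2 ≤ 7 * nI X t ∧ nI X t ≤ 15 * kI X t s ^ 2 ∧ (nI X t < 15 * kI X t s ^ 2 ∨
      ∃ χ, IsIrr X χ ∧ χ 1 = 3 ∧ ∀ u ∈ 𝓤, χ (t * u) = -1)) := by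
  have p := h.pair
  obtain ⟨T, y, h1, h2, h3, h4, h5⟩ := h.col_stable (isLinChar_cf1 _)
    (cf1_mem_CF_of_normal p.sd.normal) fun b hb => by rw [cf1E hb.1, cf1E (h.conj_mem_B hb).1]
  have hn : (0 : ℚ) < nI X t := by exact_mod_cast Nat.pos_of_ne_zero index_ne_zero_of_finite
  refine ⟨?_, fun hX => ?_⟩
  · have := sum_inv_le h1 (fun χ hχ => (h3 χ hχ).2.1) h4
    exact_mod_cast (by nlinarith : (3 * kI X t s ^ 2 : ℚ) ≤ nI X t)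
  have h6 : cf1 X ∈ T := h2 _ (isIrr_cf1 X) (by
    rw [cfdot_congr (φ' := cf1 𝓤) (fun x hx => by
      rw [tr_apply, cf1E hx, cf1E (mul_mem h.t_mem (p.sd.left_le hx).1)]) fun _ _ => rfl, cfdot_cf1]
    exact one_ne_zero)
  obtain ⟨h7, h8, h9⟩ := sum_inv_bounds h1 h6 (by
    have := (h3 _ h6).2.2.1
    rw [cf1E h.t_mem, cf1_one] at this
    exact_mod_cast this) (fun χ hχ => ⟨(h3 χ hχ).2.1, fun c e => c (eq_cf1_of_perfect hX (h3 χ hχ).1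
      (h3 χ hχ).2.2.2.1 (by rw [← (h3 χ hχ).2.2.1, e, Int.cast_one]))⟩) h4
  refine ⟨by exact_mod_cast (by nlinarith : (40 * kI X t s ^ 2 : ℚ) ≤ 7 * nI X t),
    by exact_mod_cast (by nlinarith : (nI X t : ℚ) ≤ 15 * kI X t s ^ 2), or_iff_not_imp_right.2 fun c =>
      (fun h10 => by exact_mod_cast (by nlinarith : (nI X t : ℚ) < 15 * kI X t s ^ 2))
        (h9 fun χ hχ e => c ?_)⟩
  obtain ⟨c1, -, c2, c3, c4⟩ := h3 χ hχ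
  obtain ⟨n, -, hn⟩ := c1.exists_one
  rw [e] at c2
  rcases c3 with c3 | c3 <;> rw [c3] at c2 c4
  · rw [hn] at c2
    have : (-3 : ℤ) = 1 * n := by exact_mod_cast c2
    omega
  · exact ⟨χ, c1, by push_cast at c2; linear_combination c2, fun u hu => by rw [c4 u hu, cf1E hu, mul_one]⟩

theorem col_orth (h : V4 X t s ρ) (hβ : IsLinChar 𝓤 β) (hβ' : β ∈ CF 𝓗) (hγ : IsLinChar 𝓤 γ)
    (hγ' : γ ∈ CF 𝓗) (hne : β ≠ γ) : ∑ χ ∈ Irr X, ⟪tr t χ, β⟫[𝓤] * ⟪tr t χ, γ⟫[𝓤] = 0 := by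
  have p := h.pair
  have h1 := p.colf_vchar hβ' (irr_vchar hβ.isIrr)
  have h2 := p.colf_dot ⟨hβ', hβ.mem_CF.1⟩ ⟨hγ', hγ.mem_CF.1⟩
  rw [cfdot_irr_ne hβ.isIrr hγ.isIrr hne, mul_zero, cfdot_sum_irr (vchar_mem_CF h1)] at h2
  refine (Finset.sum_congr rfl fun χ hχ => ?_).trans h2
  rw [conj_cfdot, cfdot_vchar_comm h1 (irr_vchar (mem_Irr.1 hχ)),
    p.cfdot_colf ⟨hβ', hβ.mem_CF.1⟩ (mem_Irr.1 hχ).mem_CF,
    p.cfdot_colf ⟨hγ', hγ.mem_CF.1⟩ (mem_Irr.1 hχ).mem_CF]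

end V4

/-- three linear characters of `U` whose restrictions to `B` are permuted by `ρ` -/
structure Tri (X : Subgroup G) (t s ρ : G) (β₀ β₁ β₂ : G → ℂ) : Prop where
  l0 : IsLinChar (O (X ⊓ 𝐂[t])) β₀ ∧ β₀ ∈ CF (X ⊓ 𝐂[t])
  l1 : IsLinChar (O (X ⊓ 𝐂[t])) β₁ ∧ β₁ ∈ CF (X ⊓ 𝐂[t])
  l2 : IsLinChar (O (X ⊓ 𝐂[t])) β₂ ∧ β₂ ∈ CF (X ⊓ 𝐂[t])
  r0 : ∀ b ∈ O (X ⊓ 𝐂[t]) ⊓ 𝐂[s], β₁ (ρ * b * ρ⁻¹) = β₀ b
  r1 : ∀ b ∈ O (X ⊓ 𝐂[t]) ⊓ 𝐂[s], β₂ (ρ * b * ρ⁻¹) = β₁ b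
  r2 : ∀ b ∈ O (X ⊓ 𝐂[t]) ⊓ 𝐂[s], β₀ (ρ * b * ρ⁻¹) = β₂ b
  n0 : cfRes (O (X ⊓ 𝐂[t]) ⊓ 𝐂[s]) β₀ ≠ cfRes (O (X ⊓ 𝐂[t]) ⊓ 𝐂[s]) β₁
  n1 : cfRes (O (X ⊓ 𝐂[t]) ⊓ 𝐂[s]) β₁ ≠ cfRes (O (X ⊓ 𝐂[t]) ⊓ 𝐂[s]) β₂
  n2 : cfRes (O (X ⊓ 𝐂[t]) ⊓ 𝐂[s]) β₂ ≠ cfRes (O (X ⊓ 𝐂[t]) ⊓ 𝐂[s]) β₀

namespace Tri

omit [Finite G] in
theorem rot (k : Tri X t s ρ β₀ β₁ β₂) : Tri X t s ρ β₁ β₂ β₀ :=
  ⟨k.l1, k.l2, k.l0, k.r1, k.r2, k.r0, k.n1, k.n2, k.n0⟩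

omit [Finite G] in
theorem ne (k : Tri X t s ρ β₀ β₁ β₂) : β₀ ≠ β₁ := fun e => k.n0 (by rw [e])

theorem apply (k : Tri X t s ρ β₀ β₁ β₂) (h : V4 X t s ρ) (hχ : IsIrr X χ) (h0 : ⟪tr t χ, β₀⟫[𝓤] ≠ 0)
    (hu : u ∈ 𝓤) : χ (t * u) =
      ⟪tr t χ, β₀⟫[𝓤] * β₀ u + ⟪tr t χ, β₁⟫[𝓤] * β₁ u + ⟪tr t χ, β₂⟫[𝓤] * β₂ u := by
  classical
  have e : ∀ {M : Type u} [AddCommMonoid M] (f : (G → ℂ) → M),
      ∑ β ∈ {β₀, β₁, β₂}, f β = f β₀ + f β₁ + f β₂ := fun f => by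
    rw [Finset.sum_insert (by simp [k.ne, k.rot.rot.ne.symm]), Finset.sum_pair k.rot.ne, add_assoc]
  have := apply_eq_sum (k := 1) h.t_mem (by rw [pow_one, pow_two, h.t_sq]) h.pair.reg
    (S := {β₀, β₁, β₂}) (by simp [k.l0.1, k.l1.1, k.l2.1]) (fun _ hy _ hg c => h.stable
      (e (fun β => β) ▸ add_mem (add_mem k.l0.2 k.l1.2) k.l2.2) (fun b hb => by
        rw [e fun β => β]; simp only [Pi.add_apply, k.r0 b hb, k.r1 b hb, k.r2 b hb]; ring) hy hg c)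
    hχ (Finset.mem_insert_self _ _) h0 hu
  rwa [Finset.sum_insert (by simp [k.ne, k.rot.rot.ne.symm]), Finset.sum_pair k.rot.ne,
    ← add_assoc] at this

theorem par (k : Tri X t s ρ β₀ β₁ β₂) (h : V4 X t s ρ) (hχ : IsIrr X χ) (h0 : ⟪tr t χ, β₀⟫[𝓤] ≠ 0) :
    ⟪tr t χ, β₁⟫[𝓤] ≠ 0 := fun h1 => by
  have p := h.pair
  have c1 : CInv t (𝓗 ⊓ 𝐂[s]) :=
    ⟨⟨p.cinv.mem, mem_cent1.2 h.comm⟩, inf_le_left.trans inf_le_right, h.t_sq⟩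
  have c2 : CInv s (𝓗 ⊓ 𝐂[s]) := ⟨⟨p.cent.s_mem, mem_cent1_self s⟩, inf_le_right, p.s_sq⟩
  have h2 : 𝓤 ⊓ 𝐂[s] ≤ 𝓗 ⊓ 𝐂[s] := inf_le_inf_right _ p.sd.left_le
  have r := fun {β : G → ℂ} (h : IsLinChar 𝓤 β) => (h.cfRes (inf_le_left (b := 𝐂[s]))).isIrr
  obtain ⟨m, hm⟩ := Cint_cfdot_vchar_irr (cfRes_vchar h2 (c2.tr_vchar (char_vchar (c1.isChar_add
    (hχ.isChar.cfRes (inf_le_left.trans inf_le_left)))))) (r k.l2.1)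
  rw [cfdot_congr (φ' := (2⁻¹ : ℂ) • (⟪tr t χ, β₂⟫[𝓤] • cfRes (𝓤 ⊓ 𝐂[s]) β₀ +
    (⟪tr t χ, β₀⟫[𝓤] + ⟪tr t χ, β₂⟫[𝓤]) • cfRes (𝓤 ⊓ 𝐂[s]) β₁ + ⟪tr t χ, β₀⟫[𝓤] • cfRes (𝓤 ⊓ 𝐂[s]) β₂))
    (fun b hb => ?_) fun _ _ => rfl, cfdotZl, cfdotDl, cfdotDl, cfdotZl, cfdotZl, cfdotZl,
    cfdot_irr_ne (r k.l0.1) (r k.l2.1) k.n2.symm, cfdot_irr_ne (r k.l1.1) (r k.l2.1) k.n1,
    cfdot_irr_self (r k.l2.1)] at hm
  · rcases (h.col k.l0.1 k.l0.2).2.1 χ hχ h0 with e | e <;> rw [e] at hm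
    · have : (1 : ℤ) = 2 * m := by exact_mod_cast (by linear_combination 2 * hm : (1 : ℂ) = 2 * m)
      omega
    · have : (-1 : ℤ) = 2 * m := by exact_mod_cast (by linear_combination 2 * hm : (-1 : ℂ) = 2 * m)
      omega
  have h3 := conj_mem_of_norm' h.mem_norm_B hb
  have h4 : χ (s * b) = χ (t * (ρ⁻¹ * b * ρ)) := by
    rw [← cfunJ hχ.mem_CF h.ρ_mem (t * _), ← h.ρt]; congr 1; group
  have h5 : χ (t * (s * b)) = χ (t * (ρ * b * ρ⁻¹)) := by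
    rw [← cfunJ hχ.mem_CF h.ρ_mem, ← mul_assoc t, ← conj_mul, h.ρts]
  have h6 : ρ * (ρ⁻¹ * b * ρ) * ρ⁻¹ = b := by group
  rw [k.apply h hχ h0 h3.1, ← k.r0 _ h3, ← k.r1 _ h3, ← k.r2 _ h3, h6, h1] at h4
  rw [k.apply h hχ h0 (h.conj_mem_B hb).1, k.r0 b hb, k.r1 b hb, k.r2 b hb, h1] at h5
  simp only [cfResE _ hb, tr_apply, Pi.smul_apply, Pi.add_apply, smul_eq_mul,
    cfResE _ (mul_mem c2.mem (h2 hb)), cfResE _ (mul_mem c1.mem (mul_mem c2.mem (h2 hb))), h4, h5]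
  ring

theorem exists_irr (k : Tri X t s ρ β₀ β₁ β₂) (h : V4 X t s ρ) : ∃ χ, IsIrr X χ ∧
    χ 1 * kI X t s ^ 2 = nI X t ∧ ∀ u ∈ 𝓤, χ (t * u) = β₀ u + β₁ u + β₂ u := by
  classical
  obtain ⟨h1, -, h2⟩ := h.col k.l0.1 k.l0.2
  have h3 := h.order_eq k.l0.1 k.l0.2
  have h4 := h.col_orth k.l0.1 k.l0.2 k.l1.1 k.l1.2 k.ne
  have h5 := h.col_orth k.l0.1 k.l0.2 k.l2.1 k.l2.2 k.rot.rot.ne.symm
  have h6 := h.col_orth k.l1.1 k.l1.2 k.l2.1 k.l2.2 k.rot.ne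
  have h7 := (h.col k.l1.1 k.l1.2).2.2
  have h8 := (h.col k.l2.1 k.l2.2).2.2
  rw [← Finset.sum_filter_of_ne (p := fun χ => ⟪tr t χ, β₀⟫[𝓤] ≠ 0) fun χ _ => left_ne_zero_of_mul]
    at h2 h3 h4 h5
  rw [← Finset.sum_filter_of_ne (p := fun χ => ⟪tr t χ, β₀⟫[𝓤] ≠ 0) fun χ hχ c =>
    k.rot.rot.par h (mem_Irr.1 hχ) (k.rot.par h (mem_Irr.1 hχ) (left_ne_zero_of_mul c))] at h6 h7
  rw [← Finset.sum_filter_of_ne (p := fun χ => ⟪tr t χ, β₀⟫[𝓤] ≠ 0) fun χ hχ c =>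
    k.rot.rot.par h (mem_Irr.1 hχ) (left_ne_zero_of_mul c)] at h8
  set T := (Irr X).filter fun χ => ⟪tr t χ, β₀⟫[𝓤] ≠ 0
  have i : ∀ χ ∈ T, IsIrr X χ := fun χ hχ => mem_Irr.1 (Finset.mem_filter.1 hχ).1
  have j : ∀ χ ∈ T, ⟪tr t χ, β₀⟫[𝓤] ≠ 0 := fun χ hχ => (Finset.mem_filter.1 hχ).2
  have e : ∀ β, IsLinChar 𝓤 β ∧ β ∈ CF 𝓗 → (∀ χ ∈ T, ⟪tr t χ, β⟫[𝓤] ≠ 0) →
      ∀ χ ∈ T, ∃ a : ℤ, (a = 1 ∨ a = -1) ∧ ⟪tr t χ, β⟫[𝓤] = a := fun β hβ c χ hχ => by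
    rcases (h.col hβ.1 hβ.2).2.1 χ (i χ hχ) (c χ hχ) with e | e
    exacts [⟨1, .inl rfl, by simpa using e⟩, ⟨-1, .inr rfl, by simpa using e⟩]
  choose! a ha using e _ k.l0 j
  choose! b hb using e _ k.l1 fun χ hχ => k.par h (i χ hχ) (j χ hχ)
  choose! c hc using e _ k.l2 fun χ hχ => k.rot.par h (i χ hχ) (k.par h (i χ hχ) (j χ hχ))
  choose! f hf using fun χ hχ => (i χ hχ).exists_one
  rw [Finset.sum_congr rfl fun χ hχ => by rw [(ha χ hχ).2, (hf χ hχ).2]] at h2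
  rw [Finset.sum_congr rfl fun χ hχ => by rw [(ha χ hχ).2, (hb χ hχ).2]] at h4
  rw [Finset.sum_congr rfl fun χ hχ => by rw [(ha χ hχ).2, (hc χ hχ).2]] at h5
  rw [Finset.sum_congr rfl fun χ hχ => by rw [(hb χ hχ).2, (hc χ hχ).2]] at h6
  rw [Finset.sum_congr rfl fun χ hχ => by rw [(hb χ hχ).2, (hf χ hχ).2]] at h7
  rw [Finset.sum_congr rfl fun χ hχ => by rw [(hc χ hχ).2, (hf χ hχ).2]] at h8
  obtain ⟨χ, hχ, e1, e2, e3, e4⟩ := hadamard h1 (a := a) (b := b) (c := c) (f := fun χ => f χ)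
    (fun χ hχ => ⟨(ha χ hχ).1, (hb χ hχ).1, (hc χ hχ).1⟩) (by exact_mod_cast h4)
    (by exact_mod_cast h5) (by exact_mod_cast h6) (by exact_mod_cast h2) (by exact_mod_cast h7)
    (by exact_mod_cast h8) fun χ hχ => by exact_mod_cast (hf χ hχ).1
  have h9 : ∀ ψ ∈ T, ∀ u ∈ 𝓤, ψ (t * u) = a ψ * β₀ u + b ψ * β₁ u + c ψ * β₂ u := fun ψ hψ u hu => by
    rw [k.apply h (i ψ hψ) (j ψ hψ) hu, (ha ψ hψ).2, (hb ψ hψ).2, (hc ψ hψ).2]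
  rw [Finset.sum_congr rfl (g := fun ψ => (a ψ * (a ψ + b ψ + c ψ) ^ 2 : ℤ) / (f χ : ℂ)) fun ψ hψ => by
    have := h9 ψ hψ 1 (one_mem _)
    rw [mul_one, k.l0.1.one, k.l1.1.one, k.l2.1.one] at this
    rw [this, (ha ψ hψ).2, (hf ψ hψ).2, show f ψ = f χ by exact_mod_cast e3 ψ hψ]
    push_cast; ring, ← Finset.sum_div, ← Int.cast_sum, e4, ← mul_div_assoc,
    div_eq_iff (by exact_mod_cast (hf χ hχ).1.ne')] at h3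
  rcases (ha χ hχ).1 with e5 | e5 <;> rw [e5] at h3
  · exact ⟨χ, i χ hχ, by rw [(hf χ hχ).2]; push_cast at h3; linear_combination -h3 / 8,
      fun u hu => by rw [h9 χ hχ u hu, e1, e2, e5]; simp⟩
  · have : (nI X t : ℤ) * (8 * -1) = 8 * kI X t s ^ 2 * f χ := by exact_mod_cast h3
    have : 0 < nI X t := Nat.pos_of_ne_zero index_ne_zero_of_finite
    have : (0 : ℤ) ≤ 8 * kI X t s ^ 2 * f χ := by positivity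
    omega

end Tri

namespace V4

variable [IsSimpleGroup G] (h : V4 X t s ρ) (hX : X = ⊤) (hm : IsCoatom 𝐂[t])
include h hX

theorem perfect' : ⁅X, X⁆ = X := by
  subst hX
  exact ((normalIn_top.1 (der_normal ⊤)).eq_bot_or_eq_top).resolve_left fun e =>
    h.t_ne (mem_bot.1 (e ▸ h.le_der (t_mem_S4 t s)))

omit h in
theorem cfker_eq_bot (hχ : IsIrr X χ) (h1 : χ ≠ cf1 X) : cfker X χ = ⊥ := by
  subst hX
  exact ((normalIn_top.1 (cfker_normal hχ.mem_CF)).eq_bot_or_eq_top).resolve_right fun e =>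
    h1 (hχ.le_cfker_iff.1 e.ge)

include hm

omit [Finite G] in
theorem eq_bot_of_norm (h1 : 𝓗 ≤ 𝐍(N)) (h2 : ρ ∈ 𝐍(N)) (h3 : N ≠ ⊤) : N = ⊥ := by
  rw [hX, top_inf_eq] at h1
  exact (normalizer_eq_top_iff.1 (hm.2 _ (lt_of_le_of_ne h1 fun e => h.pair.ne
    ((mem_cent1_iff_conj.1 (e ▸ h2)).symm.trans h.ρt)))).eq_bot_or_eq_top.resolve_right h3

theorem lt : nI X t < 15 * kI X t s ^ 2 := by
  have p := h.pair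
  refine (h.bounds.2 (h.perfect' hX)).2.2.resolve_right fun ⟨χ, hχ, h1, h2⟩ => ?_
  have h3 : IsLinChar 𝓗 _ := ⟨p.cinv.isChar_add (hχ.isChar.cfRes inf_le_left), by
    have := h2 1 (one_mem _)
    rw [mul_one] at this
    simp only [Pi.smul_apply, Pi.add_apply, tr_apply, mul_one, cfRes1, cfResE _ p.cinv.mem, h1, this]
    norm_num⟩
  have h4 : ⁅𝓤, zpowers s⁆ ≤ cfker X χ := fun x hx => by
    have c1 := commutator_le_left' (zpowers_le.2 (p.sd.normal.norm p.cent.s_mem)) hx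
    have c2 := p.sd.left_le c1
    have c3 := (mem_cfker_lin h3).1 (lin_char_der1 h3
      (commutator_mono p.sd.left_le (zpowers_le.2 p.cent.s_mem) hx))
    simp only [Pi.smul_apply, Pi.add_apply, tr_apply, cfResE _ c2,
      cfResE _ (mul_mem p.cinv.mem c2), h2 x c1, smul_eq_mul] at c3
    exact (cfkerEchar hχ.isChar).2 ⟨c2.1, by rw [h1]; linear_combination 2 * c3⟩
  rw [cfker_eq_bot hX hχ fun e => by norm_num [e, cf1_one] at h1, le_bot_iff, OO.commutator_eq_bot_iff,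
    cent_zpowers] at h4
  have h5 : 𝓗 ≤ 𝐂(S4 t s) :=
    cent_S4 t s ▸ le_inf inf_le_right (p.sd.sup_eq.ge.trans (sup_le h4 p.le_cent'))
  exact h.t_ne (mem_bot.1 (h.eq_bot_of_norm hX hm (h5.trans le_normalizer)
    (norm_le_norm_cent _ h.mem_norm) (fun e => hm.1 (top_le_iff.1 (e.ge.trans
      ((cent_S4 t s).trans_le inf_le_left)))) ▸ h5 p.cinv.mem))

theorem eq_cf1_of_stable (hβ : IsLinChar 𝓤 β) (hβ' : β ∈ CF 𝓗)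
    (hρ : ∀ b ∈ 𝓤 ⊓ 𝐂[s], β (ρ * b * ρ⁻¹) = β b) : β = cf1 𝓤 := by
  by_contra h0
  obtain ⟨T, y, h1, -, h3, h4, h5⟩ := h.col_stable hβ hβ' hρ
  have h6 := sum_inv_le' h1 (fun χ hχ => ⟨(h3 χ hχ).2.1, fun e => h0 ?_⟩) h4
  · have h7 : (nI X t : ℚ) < 15 * kI X t s ^ 2 := by exact_mod_cast h.lt hX hm
    have hn : (0 : ℚ) ≤ nI X t := by positivity
    nlinarith
  obtain ⟨c1, -, c2, c3, c4⟩ := h3 χ hχ
  obtain rfl := eq_cf1_of_perfect (h.perfect' hX) c1 c3 (by rw [← c2, e, Int.cast_one])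
  exact cfun_ext hβ.mem_CF (cf1_mem_CF _) fun u hu => by
    rw [cf1E hu]; simpa [hX, cf1E (mem_top _), eq_comm] using c4 u hu

theorem eq_of_commutator_le (hN : N ⊴ 𝓤) (h1 : ⁅𝓤, zpowers s⁆ ≤ N) (h2 : ∀ b ∈ 𝓤 ⊓ 𝐂[s], ⁅b, ρ⁆ ∈ N) :
    N = 𝓤 := by
  by_contra hne
  obtain ⟨β, h3, h4, h5⟩ := exists_lin hN (sol_of_odd (odd_O _)) hne
  exact h5 (h.eq_cf1_of_stable hX hm h3 (h.pair.lin_mem_CF h3 (h1.trans h4)) fun b hb => by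
    rw [← cfkerMl (h4 (h2 b hb)), commutatorElement_def]; congr 1; group)

theorem inf_eq_bot (hab : Ab ⁅𝓤, zpowers s⁆) : 𝓤 ⊓ 𝐂[s] = ⊥ := by
  by_contra h0
  have p := h.pair
  have hs := zpowers_le.2 (p.sd.normal.norm p.cent.s_mem)
  have hc := coprime_zp (odd_O 𝓗) p.s_sq
  have hK : ⁅𝓤, zpowers s⁆ ⊴ 𝓤 := ⟨commutator_le_left' hs, le_norm_commutator_left _ _⟩
  have h1 : ⁅𝓤, zpowers s⁆ ⊓ 𝐂[s] = ⊥ := by
    have := coprime_abel_cent_TI (le_norm_commutator_right _ _)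
      (coprime_zp (odd_of_le (odd_O 𝓗) hK.1) p.s_sq) hab
    rwa [coprime_commGid hs hc (.inl (sol_of_odd (odd_O _))), cent_zpowers] at this
  have h2 : IsSdprod ⁅𝓤, zpowers s⁆ (𝓤 ⊓ 𝐂[s]) 𝓤 := .of_normal hK inf_le_left
    (cent_zpowers s ▸ (coprime_cent_prod hs hc (.inl (sol_of_odd (odd_O _)))).ge)
    (eq_bot_iff.2 (h1 ▸ inf_le_inf_left _ inf_le_right))
  have next : ∀ β, IsLinChar 𝓤 β ∧ ⁅𝓤, zpowers s⁆ ≤ cfker 𝓤 β ∧ β ≠ cf1 𝓤 →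
      ∃ γ, (IsLinChar 𝓤 γ ∧ ⁅𝓤, zpowers s⁆ ≤ cfker 𝓤 γ ∧ γ ≠ cf1 𝓤) ∧
        ∀ b ∈ 𝓤 ⊓ 𝐂[s], γ (ρ * b * ρ⁻¹) = β b := fun β ⟨c1, c2, c3⟩ => by
    have c4 := (c1.cfRes inf_le_left).cfConjg h.mem_norm_B
    refine ⟨_, ⟨c4.cfSdprod h2, le_cfker_cfSdprod h2 _, fun e => c3 ?_⟩, fun b hb => by
      rw [cfSdprodEr h2.inf_eq _ (h.conj_mem_B hb), cfConjgEJ, cfResE _ hb]⟩
    rw [← cfSdprod_cf1 h2] at e ⊢
    have := cfSdprod_inj h2.inf_eq c4.mem_CF (cf1_mem_CF _) e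
    rw [← cfConjg_cf1 h.mem_norm_B] at this
    rw [← cfConjg_inj ρ this, cfSdprod_cfRes h2 c1.mem_CF c2]
  have ne : ∀ β γ, IsLinChar 𝓤 γ ∧ ⁅𝓤, zpowers s⁆ ≤ cfker 𝓤 γ ∧ γ ≠ cf1 𝓤 →
      (∀ b ∈ 𝓤 ⊓ 𝐂[s], γ (ρ * b * ρ⁻¹) = β b) → cfRes (𝓤 ⊓ 𝐂[s]) β ≠ cfRes (𝓤 ⊓ 𝐂[s]) γ :=
    fun β γ c1 c2 e => c1.2.2 (h.eq_cf1_of_stable hX hm c1.1 (p.lin_mem_CF c1.1 c1.2.1) fun b hb => by
      rw [c2 b hb, ← cfResE β hb, e, cfResE _ hb])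
  obtain ⟨β₀, l0⟩ := exists_lin hK (sol_of_odd (odd_O _)) (mt h2.left_eq_iff.1 h0)
  obtain ⟨β₁, l1, r0⟩ := next _ l0
  obtain ⟨β₂, l2, r1⟩ := next _ l1
  have r2 : ∀ b ∈ 𝓤 ⊓ 𝐂[s], β₀ (ρ * b * ρ⁻¹) = β₂ b := fun b hb => by
    have c1 := conj_mem_of_norm' h.mem_norm_B hb
    have c2 := conj_mem_of_norm' h.mem_norm_B c1
    have c3 : ρ * (ρ * ρ) ∈ 𝓗 := ⟨hX ▸ mem_top _, mem_cent1_iff_conj.2 (by
      rw [show ρ * (ρ * ρ) * t * (ρ * (ρ * ρ))⁻¹ = ρ * (ρ * (ρ * t * ρ⁻¹) * ρ⁻¹) * ρ⁻¹ by group,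
        h.ρt, h.ρs, h.ρts])⟩
    have c4 := r0 _ c2
    rw [← cfunJ (p.lin_mem_CF l0.1 l0.2.1) c3, show ρ * (ρ⁻¹ * (ρ⁻¹ * b * ρ) * ρ) * ρ⁻¹ = ρ⁻¹ * b * ρ by
      group, ← r1 _ c1] at c4
    convert c4.symm using 2 <;> group
  obtain ⟨χ, hχ, h3, h4⟩ := Tri.exists_irr ⟨⟨l0.1, p.lin_mem_CF l0.1 l0.2.1⟩,
    ⟨l1.1, p.lin_mem_CF l1.1 l1.2.1⟩, ⟨l2.1, p.lin_mem_CF l2.1 l2.2.1⟩, r0, r1, r2, ne _ _ l1 r0,
    ne _ _ l2 r1, ne _ _ l0 r2⟩ h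
  have h5 : ∀ x ∈ ⁅𝓤, zpowers s⁆, χ (t * x) = 3 := fun x hx => by
    rw [h4 x (hK.1 hx), (mem_cfker_lin l0.1).1 (l0.2.1 hx), (mem_cfker_lin l1.1).1 (l1.2.1 hx),
      (mem_cfker_lin l2.1).1 (l2.2.1 hx)]
    norm_num
  have h6 : χ t = 3 := by simpa using h5 1 (one_mem _)
  have h7 := le_cfker_of_small p.sd.normal (odd_O _) hK p.cent.s_mem
    (fun x hx => conj_eq_inv p.s_sq (le_norm_commutator_right _ _ (mem_zpowers s)) h1 hx)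
    h2.commutator_le (commutator_mono hK.1 inf_le_left)
    (p.cinv.isChar_sub (hχ.isChar.cfRes inf_le_left)) (by
      obtain ⟨n, -, hn⟩ := hχ.exists_one
      have c1 := h.lt hX hm
      rw [hn] at h3
      rw [← (by exact_mod_cast h3 : n * kI X t s ^ 2 = nI X t)] at c1
      have c2 : (n : ℝ) < 15 := by exact_mod_cast lt_of_mul_lt_mul_right c1 (Nat.zero_le _)
      simp [cfRes1, cfResE _ p.cinv.mem, hn, h6]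
      linarith)
  have h8 : ⁅⁅𝓤, zpowers s⁆, 𝓤 ⊓ 𝐂[s]⁆ ≤ cfker X χ := fun x hx => by
    have c1 := cfker1 (h7 hx)
    have c2 := (h7 hx).1
    simp only [Pi.smul_apply, Pi.sub_apply, tr_apply, cfResE _ c2, cfRes1, mul_one, h6, smul_eq_mul,
      cfResE _ (mul_mem p.cinv.mem c2), h5 x (h2.commutator_le hx), cfResE _ p.cinv.mem] at c1
    exact (cfkerEchar hχ.isChar).2 ⟨c2.1, by linear_combination 2 * c1⟩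
  rw [cfker_eq_bot hX hχ fun e => by norm_num [e, cf1E h.t_mem] at h6, le_bot_iff,
    OO.commutator_eq_bot_iff] at h8
  exact h0 (h.eq_bot_of_norm hX hm (p.sd.sup_eq.ge.trans (sup_le (h2.sup_eq.ge.trans
    (sup_le (le_norm_of_le_cent h8) le_normalizer)) (le_norm_inf (p.sd.right_le.trans p.sd.normal.norm)
      (p.le_cent'.trans le_normalizer)))) h.mem_norm_B fun e => p.t_not_mem (e.ge (mem_top t)).1)

end V4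

theorem charO : CharO.{u} := fun _ _ _ _ _ _ _ h =>
  ⟨h.bounds.1, fun hX => ⟨(h.bounds.2 hX).1, (h.bounds.2 hX).2.1⟩⟩

theorem charA : CharA.{u} := fun _ _ _ t _ _ _ h hm N => by
  simpa using h.eq_of_commutator_le rfl hm (N := N)

theorem charB : CharB.{u} := fun _ _ _ t _ _ _ h hm => by
  simpa using h.inf_eq_bot rfl hm

end Cfsg.Agent.GW
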