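import Cfsg.Agent.Lib.GW.Local4
import Cfsg.Agent.Lib.GW.Char3
import Cfsg.Agent.Lib.ODD.Main
import Cfsg.Agent.Lib.R1.Hyp2

/-!
# Simple groups with Sylow 2-subgroups of order 4
-/

set_option autoImplicit false

namespace Cfsg.Agent.GW

open Subgroup Cfsg.Agent.OO Cfsg.Agent.Coprime
open scoped commutatorElement Pointwise

universe u

variable {G : Type u} [Group G] [Finite G] {P X : Subgroup G} {t s ρ : G}

theorem exists_pair (h8 : ¬ 8 ∣ ♯X) (hP : Syl 2 P X) (hc : ¬ IsCyclic P) : ∃ t s, Pair X t s := by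
  have h1 : ∀ x ∈ P, x * x = 1 := fun x hx => by
    obtain ⟨n, hn⟩ := IsPGroup.iff_card.1 (hP.isPGroup.to_le (zpowers_le.2 hx))
    obtain ⟨m, hm⟩ := IsPGroup.iff_card.1 hP.isPGroup
    have h2 := card_lt (lt_of_le_of_ne (zpowers_le.2 hx) fun e => hc (e ▸ inferInstance))
    have h3 : m < 3 := lt_of_not_ge fun e => h8 ((pow_dvd_pow 2 e).trans (hm ▸ card_dvd hP.le))
    rw [hn, hm, Nat.pow_lt_pow_iff_right (by decide)] at h2
    rw [← sq, ← orderOf_dvd_iff_pow_eq_one, ← Nat.card_zpowers, hn]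
    exact (pow_dvd_pow 2 (by omega : n ≤ 1)).trans (pow_one 2).dvd
  obtain ⟨t, ht, t1⟩ := exists_mem_ne_one fun e : P = ⊥ => hc (e ▸ inferInstance)
  obtain ⟨s, hs, s1⟩ := SetLike.not_le_iff_exists.1 fun e : P ≤ zpowers t =>
    hc (isCyclic_of_le' inferInstance e)
  refine ⟨t, s, hP.le ht, hP.le hs, t1, fun e => s1 (e ▸ one_mem _), fun e => s1 (e ▸ mem_zpowers t),
    h1 t ht, h1 s hs, ?_, h8⟩
  rw [Commute, SemiconjBy, ← inv_eq (h1 _ (mul_mem ht hs)), mul_inv_rev, inv_eq (h1 t ht),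
    inv_eq (h1 s hs)]

theorem exists_v4 [IsSimpleGroup G] (hn : ¬ IsMulCommutative G) (h8 : ¬ 8 ∣ ♯(⊤ : Subgroup G)) :
    O (⊤ : Subgroup G) = ⊥ ∧ ∃ t s ρ : G, V4 ⊤ t s ρ := by
  have h0 : ¬ Ab (⊤ : Subgroup G) := fun e => hn ⟨⟨fun a b => ab_iff.1 e a trivial b trivial⟩⟩
  have h1 : O (⊤ : Subgroup G) = ⊥ := (smp_top _ (Opi_normal _ _)).resolve_right fun e =>
    (der_lt (sol_of_odd (e ▸ odd_O ⊤)) fun e' : (⊤ : Subgroup G) = ⊥ => h0 (e' ▸ ab_bot)).ne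
      (smp_top.perfect h0)
  obtain ⟨P, hP⟩ := exists_syl 2 (⊤ : Subgroup G)
  obtain ⟨t, s, h⟩ := exists_pair h8 hP fun e => h0
    ((cyclic_pdiv_normal_complement hP e fun q hq _ => hq.two_le).right_eq_iff.2 h1 ▸ ab_of_isCyclic e)
  exact ⟨h1, t, s, h.sdprod_or.resolve_left fun e => h0 (e.right_eq_iff.2 h1 ▸ h.ab)⟩

theorem step [hs : IsSimpleGroup G] (hn : ¬ IsMulCommutative G) (h8 : ¬ 8 ∣ ♯(⊤ : Subgroup G))
    (ih : IH.{u} ♯(⊤ : Subgroup G)) : ∃ (F : Type) (_ : Field F) (_ : Fintype F), 5 ≤ Fintype.card F ∧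
      (Fintype.card F % 8 = 3 ∨ Fintype.card F % 8 = 5) ∧
      Nonempty (G ≃* Matrix.ProjectiveSpecialLinearGroup (Fin 2) F) := by
  obtain ⟨hO, t, s, ρ, h⟩ := exists_v4 hn h8
  have hm : ¬ 𝐂[t] ≤ 𝐂[s] → Min t s ρ := fun e => ⟨hs, h, ih, charO, e⟩
  have hP := h.pair.mono' h.pair.le_cent le_top
  have h0 : ∀ X : Subgroup G, X ≤ S4 t s → X ≠ ⊤ := fun X h1 e =>
    h.not_le_cent (t_mem_S4 t s) h.t_ne (e.ge.trans (h1.trans hP.le))
  have h1 : O 𝐂[t] ⊓ 𝐂[s] = ⊥ := by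
    by_cases e : 𝐂[t] ≤ 𝐂[s]
    · have h2 := card_cent_eq charO h smp_top (smp_top.perfect fun e => h.not_le_cent (t_mem_S4 t s)
        h.t_ne (e.le_cent.trans (cent_le_cent1 (mem_top t)))) (smp_top.norm_ne_top
          (fun e => h.t_ne (mem_bot.1 (e ▸ t_mem_S4 t s))) (h0 _ le_rfl)).lt_top
        (le_norm_of_le_cent (cent_S4 t s ▸ le_inf inf_le_right (inf_le_right.trans e)))
        (h.mono (le_norm_self _ (t_mem_S4 t s)) h.mem_norm le_top)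
      rw [top_inf_eq, ← hP.card] at h2
      rw [eq_bot_iff, ← inf_eq_bot_of_coprime_card (hP.coprime (odd_O 𝐂[t]))]
      exact le_inf inf_le_left (inf_le_left.trans ((Opi_le _ _).trans
        (eq_of_le_of_card_le hP.le h2.le).ge))
    · exact (hm e).inf_eq_bot charA charB
  have h2 := hP.sdprod_of_cent le_rfl
  obtain ⟨U, hU⟩ : ∃ U, U = O 𝐂[t] := ⟨_, rfl⟩
  have hUo : Odd ♯U := hU ▸ odd_O _
  have hUn : U ⊴ 𝐂[t] := hU ▸ Opi_normal _ _
  rw [← hU] at h1 h2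
  have h3 := fun x (hx : x ∈ U) => conj_eq_inv hP.s_sq (hUn.norm hP.s_mem) h1 hx
  have h4 : zpowers t ≤ 𝐍(U) := zpowers_le.2 (hUn.norm hP.t_mem)
  have h5 : U ⊔ zpowers t ≤ 𝐂[t] := sup_le hUn.le (zpowers_le.2 hP.t_mem)
  have h6 : ∀ x ∈ U ⊔ zpowers t, x ∈ U ∨ ∃ u ∈ U, u * t = x := fun x hx => by
    obtain ⟨u, hu, z, hz, rfl⟩ := (mem_sup_norm_left h4).1 hx
    rcases (mem_zp hP.t_sq).1 hz with rfl | rfl
    exacts [.inl (by rwa [mul_one]), .inr ⟨u, hu, rfl⟩]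
  have h7 : ∀ x ∈ U ⊔ zpowers t, x ≠ 1 → x * x = 1 → x = t := fun x hx x1 x2 => by
    obtain e | ⟨u, hu, rfl⟩ := h6 x hx
    · exact absurd e (not_mem_of_odd hUo x1 x2)
    rw [(show Commute t u from (mem_cent1.1 (hUn.le hu)).symm).mul_mul_mul_comm, hP.t_sq,
      mul_one] at x2
    rw [eq_one_of_odd_of_sq (odd_of_mem hUo hu) x2, one_mul]
  obtain ⟨F, _, _, -, k1, k2, k3⟩ := R1.bswOdd G (U ⊔ zpowers t) t s (mem_sup_right (mem_zpowers t))
    hP.t_ne hP.t_sq (fun e => hP.ne (h7 s e hP.s_ne hP.s_sq).symm) hP.s_sq (fun x hx => by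
      obtain e | ⟨u, hu, rfl⟩ := h6 x hx
      · exact h3 x e
      rw [← conj_mul, h3 u hu, mem_cent1_iff_conj.1 hP.s_mem, mul_inv_rev, inv_eq hP.t_sq,
        mem_cent1.1 (inv_mem (hUn.le hu))])
    (fun g => ⟨fun e => by
      obtain ⟨u, hu, z, hz, rfl⟩ := (mem_sup_norm_left (hP.le.trans hUn.norm)).1
        (h2.sup_eq.ge (mem_cent1.2 e))
      have e1 : u ∈ U ⊔ zpowers t := mem_sup_left hu
      have e2 := mul_mem e1 (mem_sup_right (mem_zpowers t))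
      rcases hP.mem_S4.1 hz with rfl | rfl | rfl | rfl
      · exact .inl (by rwa [mul_one])
      · exact .inl e2
      · exact .inr (by rwa [mul_assoc, hP.s_sq, mul_one])
      · exact .inr (by rwa [mul_assoc, mul_assoc, hP.s_sq, mul_one]), fun e =>
      mem_cent1.1 (e.elim (h5 ·) fun e => (mul_mem_cancel_right hP.s_mem).1 (h5 e))⟩)
    (fun x hx x1 g hg => by
      obtain ⟨p, hp, hd⟩ := Nat.exists_prime_and_dvd (mt orderOf_eq_one_iff.1 x1)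
      have := Fact.mk hp
      obtain ⟨y, hy, e⟩ := cauchy hp (Nat.card_zpowers x ▸ hd)
      have y1 : y ≠ 1 := fun e' => hp.one_lt.ne (by rw [← e, e', orderOf_one])
      have e1 := zpowers_le.2 hx hy
      have e2 : g * y * g⁻¹ ∈ U ⊔ zpowers t :=
        zpowers_le.2 hg (conj_zpowers g x ▸ conj_mem_conj hy)
      by_cases p2 : p = 2
      · have y2 : y * y = 1 := by rw [← sq, ← p2, ← e, pow_orderOf_eq_one]
        have e3 := h7 _ e2 (conj_ne_one.2 y1) (conj_sq y2 g)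
        rw [h7 y e1 y1 y2] at e3
        exact mem_cent1.1 (mem_cent1_iff_conj.2 e3)
      have e3 : y ∈ U := hU ▸ (top_inf_eq 𝐂[t] ▸ h.pair.mem_O_cent ⟨trivial, h5 e1⟩
        (e ▸ hp.odd_of_ne_two p2))
      have e4 : zpowers y ⊴ 𝐂[t] := ⟨zpowers_le.2 (h5 e1), h2.sup_eq.ge.trans (sup_le (le_norm_of_ab
        (ab_of_inf_eq_bot hP.s_sq (hUn.norm hP.s_mem) h1) (zpowers_le.2 e3)) (S4_le.2
          ⟨cent_le_norm _ (cent_zpowers y ▸ mem_cent1_comm.1 (h5 e1)), mem_norm_of_conj_le (by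
            rw [conj_zpowers, h3 y e3, zpowers_inv])⟩))⟩
      have e5 := (hm fun e' => y1 (mem_bot.1 (h1.le ⟨e3, e' (h5 e1)⟩))).eq_of_cent e4
        (by rw [Nat.card_zpowers, e]) (eq_bot_iff.2 (h1 ▸ inf_le_inf_right _ (zpowers_le.2 e3)))
        (mem_zpowers y) y1 (a := g⁻¹ * t * g⁻¹⁻¹) (mem_cent1_comm.1 (by
          rw [cent1_conj, mem_conj, inv_inv]; exact h5 e2)) (conj_ne_one.2 hP.t_ne) (conj_sq hP.t_sq _)
      exact mem_cent1.1 (inv_mem_iff.1 (mem_cent1_iff_conj.2 e5)))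
    (fun a b a1 a2 b1 b2 => by
      obtain ⟨g, -, rfl⟩ := h.exists_conj trivial a1 a2
      obtain ⟨g', -, rfl⟩ := h.exists_conj trivial b1 b2
      exact (isConj_iff.2 ⟨g, rfl⟩).symm.trans (isConj_iff.2 ⟨g', rfl⟩))
    (Op'_top.symm.trans hO) ((Op_top 2).symm.trans ((smp_top _ (Op_normal 2 ⊤)).resolve_right
      (h0 _ (Op_le_syl h.pair.syl))))
  refine ⟨F, _, _, k1, ?_, k3⟩
  rw [card_sup_of_inf_eq_bot (.inr h4) (inf_eq_bot_of_coprime_card (coprime_zp hUo hP.t_sq)),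
    Nat.card_zpowers, orderOf_eq_two hP.t_sq hP.t_ne] at k2
  obtain ⟨j, hj⟩ := hUo
  omega

end Cfsg.Agent.GW

namespace Cfsg.Agent.R1

open Cfsg.Agent.GW Cfsg.Agent.OO

universe u

/-- the simple groups with Sylow 2-subgroups of order 4 -/
theorem gw4 : GW4.{u} := by
  intro G _ _ h1 h2 h3
  induction hn : Nat.card G using Nat.strong_induction_on generalizing G with
  | _ n ih =>
  refine step h2 (by rwa [Subgroup.card_top]) fun G' _ _ L k1 k2 k3 k4 => ?_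
  obtain ⟨F, _, _, -, k5, ⟨e⟩⟩ := ih _ (by rwa [Subgroup.card_top, hn] at k1) L
    (k2.isSimpleGroup fun e => k3 (e ▸ ab_bot)) k3 k4 rfl
  exact good_of_equiv (Nat.odd_iff.2 (by omega)) e k2 k3

end Cfsg.Agent.R1
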