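import Cfsg.Agent.Lib.GW.Lift

/-!
# Subgroups with a component
-/

set_option autoImplicit false

namespace Cfsg.Agent.GW

open Subgroup Cfsg.Agent.OO Cfsg.Agent.Coprime
open scoped commutatorElement Pointwise

universe u

variable {G : Type u} [Group G] [Finite G] {Q N L : Subgroup G} {t s ρ a b x g v : G} {p : ℕ}

/-- the part of `O(C_N(t))` inverted by `s` -/
def Kc (N : Subgroup G) (t s : G) : Subgroup G := ⁅O (N ⊓ 𝐂[t]), zpowers s⁆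

theorem Pair.mem_norm_O (h : Pair N t s) : s ∈ 𝐍(O (N ⊓ 𝐂[t])) := O_norm _ h.cent.s_mem

theorem Pair.Kc_le (h : Pair N t s) : Kc N t s ≤ O (N ⊓ 𝐂[t]) :=
  commutator_le_left' (zpowers_le.2 h.mem_norm_O)

theorem Pair.Kc_le' (h : Pair N t s) : Kc N t s ≤ N ⊓ 𝐂[t] := h.Kc_le.trans (Opi_le _ _)

theorem Pair.odd_Kc (h : Pair N t s) : Odd ♯(Kc N t s) := odd_of_le (odd_O _) h.Kc_le

omit [Finite G] in
theorem le_norm_Kc : N ⊓ 𝐂[t] ⊓ 𝐂[s] ≤ 𝐍(Kc N t s) :=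
  le_norm_commutator (inf_le_left.trans (Opi_normal _ _).norm)
    (le_norm_of_le_cent (cent_zpowers s ▸ inf_le_right))

theorem Pair.le_Kc (h : Pair N t s) (hQ : Q ≤ N ⊓ 𝐂[t]) (ho : Odd ♯Q) (hn : s ∈ 𝐍(Q))
    (h0 : Q ⊓ 𝐂[s] = ⊥) : Q ≤ Kc N t s :=
  (commutator_eq_of_inf_eq_bot h.s_sq hn ho h0).ge.trans (commutator_mono (h.le_O_cent hQ ho) le_rfl)

namespace Comp

variable (h : Comp N L t s ρ)
include h

omit [Finite G] in
theorem v4N : V4 N t s ρ :=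
  { h.v4 with t_mem := h.normal.le h.v4.t_mem, ρ_mem := h.normal.le h.v4.ρ_mem, not_dvd := h.not_dvd }

omit [Finite G] in
theorem norm : L ≤ 𝐍(O N) := le_norm_of_le_cent h.cent

omit [Finite G] in
theorem O_le_cent (hx : x ∈ L) : O N ≤ 𝐂[x] := le_cent1_iff.2 (h.cent hx)

omit [Finite G] in
theorem conj (hg : g ∈ L) : Comp N L (g * t * g⁻¹) (g * s * g⁻¹) (g * ρ * g⁻¹) :=
  { h with v4 := conj_eq_of_mem hg ▸ h.v4.conj g }

theorem pair_quo : Pair (L ⁒ O N) (coset (O N) t) (coset (O N) s) := h.v4.pair.quo h.norm (odd_O N)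

theorem mem_O (hx : x ∈ L ⊓ 𝐂[t] ⊓ 𝐂[s]) (ho : Odd (orderOf x)) : x ∈ O N :=
  (coset_eq_one_iff (h.norm hx.1.1)).1 (h.good.eq_one h.pair_quo ⟨⟨coset_mem_quo _ hx.1.1,
    coset_mem_cent1 (h.norm h.v4.t_mem) hx.1.2⟩, coset_mem_cent1 (h.norm h.v4.pair.s_mem) hx.2⟩
    (ho.of_dvd_nat (orderOf_coset_dvd _ x)))

theorem mem_cent (hx : x ∈ L ⊓ 𝐂[t]) (ho : Odd (orderOf x)) (h1 : x ∉ O N) (hg : g ∈ L)
    (hc : g⁻¹ * x * g ∈ 𝐂[t]) : g ∈ 𝐂[t] := by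
  have ht := h.norm h.v4.t_mem
  have h2 := h.good.mem_cent h.pair_quo.t_mem h.pair_quo.t_ne h.pair_quo.t_sq
    ⟨coset_mem_quo _ hx.1, coset_mem_cent1 ht hx.2⟩ (ho.of_dvd_nat (orderOf_coset_dvd _ x))
    (fun e => h1 ((coset_eq_one_iff (h.norm hx.1)).1 e)) (coset_mem_quo _ hg) (by
      rw [← coset_inv, ← coset_mul (inv_mem (h.norm hg)) (h.norm hx.1),
        ← coset_mul (mul_mem (inv_mem (h.norm hg)) (h.norm hx.1)) (h.norm hg)]
      exact coset_mem_cent1 ht hc)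
  have h3 := (coset_commute_iff (h.norm hg) ht).1 (mem_cent1.1 h2)
  refine mem_cent1.2 (commutatorElement_eq_one_iff_mul_comm.1 (eq_one_of_odd_of_sq
    (odd_of_mem (odd_O N) h3) ?_))
  have h4 : Commute ⁅g, t⁆ t := mem_cent1.1 (h.O_le_cent h.v4.t_mem h3)
  have h5 := conj_sq h.v4.t_sq g
  rwa [show g * t * g⁻¹ = ⁅g, t⁆ * t by rw [commutatorElement_def]; group,
    h4.symm.mul_mul_mul_comm, h.v4.t_sq, mul_one] at h5

theorem Kc_le : Kc N t s ≤ L :=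
  (commutator_mono le_rfl (zpowers_le.2 h.v4.pair.s_mem)).trans
    (commutator_le_right' (((Opi_le _ _).trans inf_le_left).trans h.normal.norm))

theorem isCyclic_Kc_quo : IsCyclic (Kc N t s ⁒ O N : Subgroup _) :=
  h.good.cyc _ h.pair_quo.t_mem h.pair_quo.t_ne h.pair_quo.t_sq _ (le_inf (quo_mono _ h.Kc_le)
    ((quo_mono _ (h.v4N.pair.Kc_le'.trans inf_le_right)).trans (quo_cent1_le (h.norm h.v4.t_mem))))
    (odd_quo h.v4N.pair.odd_Kc _)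

theorem Kc_inf : Kc N t s ⊓ 𝐂[s] = ⊥ := by
  have hp := h.v4N.pair
  obtain ⟨x, hx, h1⟩ := (isCyclic_quo_iff (h.Kc_le.trans h.norm)).1 h.isCyclic_Kc_quo
  have h2 : Ab (Kc N t s) := ab_of_Zc_sup_zpowers (A := O N ⊓ Kc N t s) (le_inf inf_le_right
    (inf_le_left.trans (le_cent_symm (h.Kc_le.trans h.cent)))) (by
      rw [sup_comm, ← sup_inf_of_le_left (.inl (zpowers_le.2 (h.norm (h.Kc_le hx))))
        (zpowers_le.2 hx)]
      exact le_inf h1 le_rfl) hx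
  have h3 := coprime_abel_cent_TI (H := Kc N t s) (le_norm_commutator_right _ _)
    (coprime_zp hp.odd_Kc hp.s_sq) h2
  rwa [show ⁅Kc N t s, zpowers s⁆ = Kc N t s from coprime_commGid (zpowers_le.2 hp.mem_norm_O)
    (coprime_zp (odd_O _) hp.s_sq) (.inl (sol_of_odd (odd_O _))), cent_zpowers] at h3

theorem not_mem_O (hx : x ∈ Kc N t s) (h1 : x ≠ 1) : x ∉ O N := fun e =>
  h1 (mem_bot.1 (h.Kc_inf ▸ (⟨hx, h.O_le_cent h.v4.pair.s_mem e⟩ : x ∈ Kc N t s ⊓ 𝐂[s])))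

theorem isCyclic_Kc : IsCyclic (Kc N t s) := by
  have := h.isCyclic_Kc_quo
  refine isCyclic_of_injective (quoOnto (h.Kc_le.trans h.norm)) ((MonoidHom.ker_eq_bot_iff _).1 ?_)
  rw [ker_quoOnto, eq_bot_iff]
  exact fun x hx => by_contra fun e => h.not_mem_O x.2 (fun e' => e (Subtype.ext e')) hx

theorem card_Kc_le : ♯(Kc N t s) ≤ kI L t s :=
  card_le_kI (le_inf h.Kc_le (h.v4N.pair.Kc_le'.trans inf_le_right)) h.Kc_inf

theorem le_sup (hQ : Q ≤ L ⊓ 𝐂[t]) (ho : Odd ♯Q) : Q ≤ Kc N t s ⊔ L ⊓ O N := by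
  have hp := h.v4.pair
  refine (hp.le_O_cent hQ ho).trans ?_
  rw [← coprime_cent_prod (zpowers_le.2 hp.mem_norm_O) (coprime_zp (odd_O _) hp.s_sq)
    (.inl (sol_of_odd (odd_O _))), cent_zpowers]
  exact sup_le_sup (commutator_mono (h.v4N.pair.le_O_cent ((Opi_le _ _).trans
    (inf_le_inf_right _ h.normal.le)) (odd_O _)) le_rfl) fun x hx => ⟨(Opi_le _ _ hx.1).1,
      h.mem_O ⟨Opi_le _ _ hx.1, hx.2⟩ (odd_of_mem (odd_O _) hx.1)⟩

theorem not_dvd_center [hp : Fact p.Prime] (hd : p ∣ ♯(Kc N t s)) : ¬ p ∣ ♯(L ⊓ O N) := fun e => by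
  obtain ⟨z, hz, hzp⟩ := cauchy hp.out e
  obtain ⟨x, hx, hxp⟩ := cauchy hp.out hd
  obtain ⟨P, hP⟩ := exists_syl p (L ⊓ 𝐂[t])
  have hx1 : x ≠ 1 := fun e => hp.out.one_lt.ne (by rw [← hxp, e, orderOf_one])
  have hxo := odd_of_mem h.v4N.pair.odd_Kc hx
  have hab : Ab (Kc N t s ⊔ L ⊓ O N) := ab_sup (ab_of_isCyclic h.isCyclic_Kc)
    (ab_iff_le_cent.2 (le_cent_mono h.cent inf_le_left inf_le_right))
    (le_cent_mono h.cent h.Kc_le inf_le_right)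
  have h1 := h.le_sup hP.le (odd_of_isPGroup (fun e => by
    rw [hxp, e] at hxo; exact absurd hxo (by decide)) hP.isPGroup)
  have hxL : x ∈ L ⊓ 𝐂[t] := ⟨h.Kc_le hx, (h.v4N.pair.Kc_le' hx).2⟩
  have h2 : x ∈ P := hP.mem_of_mem_norm hxL (le_norm_of_ab hab h1 (mem_sup_left hx))
    (by rw [PiElt, hxp]; exact (isPiNum_prime hp.out).2 rfl)
  have h3 : Syl p P L := IsSylowIn.of_syl_norm (hP.le.trans inf_le_left) (hP.mono (le_inf
    (hP.le.trans inf_le_left) (le_norm_self P)) fun g hg => ⟨hg.1, h.mem_cent hxL hxo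
      (h.not_mem_O hx hx1) hg.1 (hP.le (conj_mem_of_norm' hg.2 h2)).2⟩)
  have h4 := eq_one_of_mem_Zc (ab_of_le hab h1) ⟨hz.1, le_cent_symm h.cent hz.2⟩
    (h.perfect.ge hz.1) (hzp ▸ (Nat.Prime.coprime_iff_not_dvd hp.out).2 h3.not_dvd)
  exact hp.out.one_lt.ne (by rw [← hzp, h4, orderOf_one])

theorem le_Kc [hp : Fact p.Prime] (hd : p ∣ ♯(Kc N t s)) (hQ : Q ≤ L ⊓ 𝐂[t]) (hQp : IsPGroup p Q) :
    Q ≤ Kc N t s := by
  have h1 : L ⊓ O N ≤ 𝐍(Kc N t s) :=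
    le_norm_of_le_cent (le_cent_symm (le_cent_mono h.cent h.Kc_le inf_le_right))
  refine (piGrp_singleton hQp).le_of_relIndex (h.le_sup hQ (odd_of_isPGroup (fun e =>
    h.v4N.pair.odd_Kc.not_two_dvd_nat (e ▸ hd)) hQp)) (sup_le (le_norm_self _) h1) ?_
  rw [relIndex_sup_eq' (.inr h1)]
  exact ((piGrp_compl_singleton hp.out).2 (h.not_dvd_center hd)).relIndex _

theorem isProd : IsProd L (N ⊓ 𝐂[t] ⊓ 𝐂[s]) N := h.v4.isProd h.normal h.not_dvd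

theorem nI_eq : nI N t = nI L t := relIndex_eq_of_isProd h.isProd (inf_le_left.trans inf_le_right)

theorem kI_eq : kI N t s = kI L t s :=
  relIndex_eq_of_isProd (h.isProd.inf_of_right_le (inf_le_left.trans inf_le_right)) inf_le_right

theorem bound (cO : CharO.{u}) : 40 * kI N t s ^ 2 ≤ 7 * nI N t := by
  rw [h.nI_eq, h.kI_eq]
  exact ((cO G L t s ρ h.v4).2 h.perfect).1

theorem ncard_le [hp : Fact p.Prime] (hd : ¬ p ∣ ♯(L ⊓ O N)) (h2 : p ≠ 2) (hv : v ∈ L ⊓ 𝐂[t])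
    (hvp : orderOf v = p) :
    {b | b ∈ L ∧ orderOf b = p ∧ Odd ♯(zpowers v ⊔ zpowers b)}.ncard ≤ (p - 1) * (8 * kI L t s + 3) := by
  have k1 : ∀ b ∈ L, orderOf b = p → orderOf (coset (O N) b) = p := fun b hb e =>
    orderOf_eq_prime (by rw [← coset_pow (h.norm hb), ← e, pow_orderOf_eq_one, coset_one]) fun e' =>
      hd (e ▸ OO.orderOf_dvd_card (⟨hb, (coset_eq_one_iff (h.norm hb)).1 e'⟩ : b ∈ L ⊓ O N))
  refine (Set.ncard_le_ncard_of_injOn (coset (O N)) ?_ ?_).trans ((h.good.yb _ _ h.pair_quo _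
    ⟨coset_mem_quo _ hv.1, coset_mem_cent1 (h.norm h.v4.t_mem) hv.2⟩ p hp.out h2
    (k1 v hv.1 hvp)).trans (Nat.mul_le_mul_left _ ?_))
  · rintro b ⟨b1, b2, b3⟩
    refine ⟨coset_mem_quo _ b1, k1 b b1 b2, ?_⟩
    rw [← quo_zpowers (h.norm hv.1), ← quo_zpowers (h.norm b1),
      ← quo_sup (zpowers_le.2 (h.norm hv.1)) (zpowers_le.2 (h.norm b1))]
    exact odd_quo b3 _
  · rintro b ⟨b1, b2, -⟩ c ⟨c1, c2, -⟩ e
    have h3 := (coset_eq_iff (h.norm b1) (h.norm c1)).1 e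
    have h4 : Commute b⁻¹ c := by
      have := (show Commute (b⁻¹ * c) b from mem_cent1.1 (h.O_le_cent b1 h3)).symm.inv_left
      simpa using ((Commute.refl b).inv_left.mul_right this)
    refine inv_mul_eq_one.1 (by_contra fun e' => hd ?_)
    rw [← orderOf_eq_prime (p := p) (by rw [h4.mul_pow, inv_pow, ← b2, pow_orderOf_eq_one, b2, ← c2,
      pow_orderOf_eq_one, inv_one, one_mul]) e']
    exact OO.orderOf_dvd_card (⟨L.mul_mem (inv_mem b1) c1, h3⟩ : _ ∈ L ⊓ O N)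
  · have h3 := card_mul_relIndex (quo_mono (O N) (inf_le_left : L ⊓ 𝐂[t] ⊓ 𝐂[s] ≤ _))
    have h4 := Nat.le_of_dvd (relIndex_pos _ _) (relIndex_quo_dvd (inf_le_left : L ⊓ 𝐂[t] ⊓ 𝐂[s] ≤ _)
      (inf_le_left.trans h.norm))
    have h5 : ♯((L ⊓ 𝐂[t] ⊓ 𝐂[s]) ⁒ O N) ≤ 4 := h.pair_quo.card ▸ card_le (le_trans (by
      rw [← quo_cent1_of_odd h.norm (odd_O N) h.v4.t_mem h.v4.t_sq]
      exact le_inf (quo_mono _ inf_le_left) ((quo_mono _ inf_le_right).trans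
        (quo_cent1_le (h.norm h.v4.pair.s_mem)))) (h.good.cent_le h.pair_quo))
    rw [inf_relIndex_left] at h4
    rw [← quo_cent1_of_odd h.norm (odd_O N) h.v4.t_mem h.v4.t_sq, ← h3]
    have := Nat.mul_le_mul h5 h4
    rw [kI]
    omega

end Comp

end Cfsg.Agent.GW
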