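import Cfsg.Agent.Lib.GW.Red
import Cfsg.Agent.Lib.Sig.Act

/-!
# Consequences of the induction hypothesis for subgroups containing a Sylow 2-subgroup
-/

set_option autoImplicit false

namespace Cfsg.Agent.GW

open Subgroup Cfsg.Agent.OO Cfsg.Agent.Coprime
open scoped commutatorElement Pointwise

universe u

variable {G : Type u} [Group G] [Finite G] {X Y P Q N L M U R : Subgroup G} {t s ρ a b x g w z : G}
  {n p : ℕ}

open scoped IsMulCommutative in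
theorem eq_one_of_mem_Zc (ha : Ab R) (hz : z ∈ Zc L) (hc : z ∈ der L)
    (hcop : (orderOf z).Coprime (R.relIndex L)) : z = 1 := by
  have : IsMulCommutative R := ha
  have hz' : (⟨z, hz.1⟩ : L) ∈ center L := mem_center_iff.2 fun g => Subtype.ext ((mem_Zc.1 hz).2 g g.2)
  have h1 := MonoidHom.transfer_eq_pow (MonoidHom.id (R.subgroupOf L)) ⟨z, hz.1⟩ fun k g _ => by
    rw [mul_assoc, ← mem_center_iff.1 (pow_mem hz' k) g, inv_mul_cancel_left]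
  obtain ⟨y, hy, rfl⟩ := der_eq_map L ▸ hc
  have h2 := Abelianization.commutator_subset_ker (MonoidHom.transfer (MonoidHom.id (R.subgroupOf L))) hy
  rw [MonoidHom.mem_ker] at h2
  have h3 : (y : G) ^ R.relIndex L = 1 := congrArg (·.1.1) (h1.symm.trans h2)
  exact orderOf_eq_one_iff.1 (hcop.eq_one_of_dvd (orderOf_dvd_of_pow_eq_one h3))

omit [Finite G] in
theorem card_inf_cent_conj (hg : g ∈ L) (t : G) : ♯(L ⊓ 𝐂[g * t * g⁻¹]) = ♯(L ⊓ 𝐂[t]) := by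
  rw [cent1_conj, ← card_conj g (L ⊓ 𝐂[t]), conj_inf, conj_eq_of_mem hg]

theorem not_mem_of_odd (ho : Odd ♯N) (h1 : a ≠ 1) (h2 : a * a = 1) : a ∉ N := fun e =>
  h1 (eq_one_of_odd_of_sq (odd_of_mem ho e) h2)

theorem coset_sq (ha : a ∈ 𝐍(N)) (h : a * a = 1) : coset N a * coset N a = 1 := by
  rw [← coset_mul ha ha, h, coset_one]

theorem coset_ne_one (ho : Odd ♯N) (ha : a ∈ 𝐍(N)) (h1 : a ≠ 1) (h2 : a * a = 1) : coset N a ≠ 1 :=
  fun e => not_mem_of_odd ho h1 h2 ((coset_eq_one_iff ha).1 e)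

theorem coset_mem_cent1 (hx : x ∈ 𝐍(N)) (h : g ∈ 𝐂[x]) : coset N g ∈ 𝐂[coset N x] :=
  quo_cent1_le hx (coset_mem_quo N h)

theorem O_quo (X : Subgroup G) : O (X ⁒ O X) = ⊥ := Opi_quo_Opi _ X

theorem O_norm (X : Subgroup G) : X ≤ 𝐍(O X) := (Opi_normal _ X).norm

theorem S4_quo (ht : t ∈ 𝐍(N)) (hs : s ∈ 𝐍(N)) : S4 t s ⁒ N = S4 (coset N t) (coset N s) := by
  rw [S4, quo_sup (zpowers_le.2 ht) (zpowers_le.2 hs), quo_zpowers ht, quo_zpowers hs, S4]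

theorem quo_cent1_of_odd (hX : X ≤ 𝐍(N)) (ho : Odd ♯N) (ht : t ∈ X) (h : t * t = 1) :
    (X ⊓ 𝐂[t]) ⁒ N = X ⁒ N ⊓ 𝐂[coset N t] := by
  rw [← cent_zpowers, quo_inf_cent_of_norm (zpowers_le.2 (hX ht)) (le_norm_of_le (zpowers_le.2 ht))
    (coprime_zp (odd_of_le ho inf_le_left) h) (.inr (sol_of_ab (ab_of_isCyclic inferInstance))),
    quo_zpowers (hX ht), cent_zpowers]

/-- L2 -/
theorem le_Op_of_inv [Fact p.Prime] (hU : Odd ♯U) (h1 : s ≠ 1) (h2 : s * s = 1) (hn : s ∈ 𝐍(U))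
    (hQ : Q ≤ U) (hp : IsPGroup p Q) (hn' : s ∈ 𝐍(Q)) (h : Q ⊓ 𝐂[s] = ⊥) (hc : U ⊓ 𝐂[s] ≤ 𝐍(Q)) :
    Q ≤ Op p U :=
  Sig.le_Op_of_commutator Nat.prime_two (by rw [Nat.card_zpowers, orderOf_eq_two h2 h1])
    (sol_of_odd hU) hU.not_two_dvd_nat (zpowers_le.2 hn) hQ hp le_rfl (zpowers_le.2 hn')
    (commutator_eq_of_inf_eq_bot h2 hn' (odd_of_le hU hQ) h) (fun _ _ => ab_of_inf_eq_bot h2 hn' h)
    (by rwa [cent_zpowers])

theorem le_Fit_of_inv (hU : Odd ♯U) (h1 : s ≠ 1) (h2 : s * s = 1) (hn : s ∈ 𝐍(U))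
    (hQ : Q ≤ U) (hn' : s ∈ 𝐍(Q)) (h : Q ⊓ 𝐂[s] = ⊥) (hc : U ⊓ 𝐂[s] ≤ 𝐍(Q)) : Q ≤ Fit U := by
  rw [← Fit_eq_self (nil_of_ab (ab_of_inf_eq_bot h2 hn' h))]
  exact Fit_le_of_forall fun p _ => (le_Op_of_inv hU h1 h2 hn ((Op_le _ _).trans hQ) (Op_isPGroup _ _)
    (norm_le_norm_Op p Q hn') (eq_bot_iff.2 (h ▸ inf_le_inf_right _ (Op_le _ _)))
    (le_norm_Op p hc)).trans (Op_le_Fit p U)

namespace Pair

theorem quo (h : Pair X t s) (hN : X ≤ 𝐍(N)) (ho : Odd ♯N) : Pair (X ⁒ N) (coset N t) (coset N s) :=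
  ⟨coset_mem_quo N h.t_mem, coset_mem_quo N h.s_mem, coset_ne_one ho (hN h.t_mem) h.t_ne h.t_sq,
    coset_ne_one ho (hN h.s_mem) h.s_ne h.s_sq, fun e => not_mem_of_odd ho h.mul_ne_one h.mul_sq
      (by simpa [inv_eq h.t_sq] using (coset_eq_iff (hN h.t_mem) (hN h.s_mem)).1 e),
    coset_sq (hN h.t_mem) h.t_sq, coset_sq (hN h.s_mem) h.s_sq,
    mem_cent1.1 (coset_mem_cent1 (hN h.s_mem) (mem_cent1.2 h.comm)),
    fun e => h.not_dvd (e.trans (card_quo_dvd X N))⟩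

theorem red_quo (h : Pair X t s) (ih : IH.{u} n) (hn : ♯X < n) :
    X ⁒ O X ≤ 𝐍(S4 (coset (O X) t) (coset (O X) s)) ∨
      ∃ L ρ, Red (X ⁒ O X) L (coset (O X) t) (coset (O X) s) ρ :=
  (h.quo (O_norm X) (odd_O X)).red ih ((card_quo_le _ _).trans_lt hn) (O_quo X)

theorem le_cent_of_red [Fact p.Prime] (h : Pair X t s)
    (hr : X ≤ 𝐍(S4 t s) ∨ ∃ L ρ, Red X L t s ρ) (hP : P ≤ X) (hp : IsPGroup p P)
    (hc : X ⊓ 𝐂[t] ≤ 𝐍(P)) : P ≤ 𝐂[t] := by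
  have hS := h.cent.le.trans hc
  by_cases h2 : p = 2
  · subst h2
    exact (h.syl.le_of_norm hP hp (.inl hS)).trans h.le_cent
  have ho := odd_of_isPGroup h2 hp
  have ht : zpowers t ≤ 𝐍(P) := zpowers_le.2 (hS (t_mem_S4 t s))
  have h1 := commutator_le_left' ht
  rw [← cent_zpowers, le_cent_comm]
  refine coprime_commGG1P ht (coprime_zp ho h.t_sq) (.inl (sol_of_odd ho))
    (OO.commutator_eq_bot_iff.2 ?_)
  rw [cent_zpowers]
  obtain e | ⟨L, ρ, e⟩ := hr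
  · refine le_trans (le_inf h1 ((commutator_mono le_rfl le_sup_left).trans
      (commutator_le_right' (hP.trans e)))) (inf_le_right.trans h.le_cent)
  have hv := e.v4.pair
  refine (le_inf h1 ((commutator_mono le_rfl (zpowers_le.2 hv.t_mem)).trans
    (commutator_le_right' (hP.trans e.normal.norm)))).trans ?_
  by_cases h0 : P ⊓ L = ⊥
  · exact h0.le.trans bot_le
  have ho' := odd_of_le ho (inf_le_left : P ⊓ L ≤ P)
  have h3 : L ⊓ 𝐂[t] ≤ 𝐍(P ⊓ L) := le_norm_inf ((inf_le_inf_right _ e.normal.le).trans hc)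
    (le_norm_of_le inf_le_left)
  obtain ⟨a, ha, a1, h4⟩ := e.good.exists_le_cent hv inf_le_right
    (nil_of_isPGroup (hp.to_le inf_le_left)) ho' h0 (hv.cent.le.trans h3)
  obtain ⟨g, hg, rfl⟩ := e.v4.exists_conj_of_mem ha a1
  have h5 := eq_of_le_of_card_le (le_inf inf_le_left ((le_inf inf_le_left h3).trans (e.good.norm_le
    (hv.le ha) a1 (conj_sq h.t_sq g) (le_inf inf_le_right h4) ho' h0))) 
      (card_inf_cent_conj (zpowers_le.2 e.v4.ρ_mem hg) t).le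
  exact ((le_inf inf_le_right h4).trans h5.ge).trans inf_le_right

/-- KA -/
theorem commutator_le_O [Fact p.Prime] (h : Pair X t s) (ih : IH.{u} n) (hn : ♯X < n) (hP : P ≤ X)
    (hp : IsPGroup p P) (hc : X ⊓ 𝐂[t] ≤ 𝐍(P)) : ⁅P, zpowers t⁆ ≤ O X := by
  rw [← quo_le_cent_iff (hP.trans (O_norm X)) (zpowers_le.2 (O_norm X h.t_mem)),
    quo_zpowers (O_norm X h.t_mem), cent_zpowers]
  refine (h.quo (O_norm X) (odd_O X)).le_cent_of_red (h.red_quo ih hn) (quo_mono _ hP)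
    (isPGroup_quo hp _) ?_
  rw [← quo_cent1_of_odd (O_norm X) (odd_O X) h.t_mem h.t_sq]
  exact quo_le_norm _ hc

/-- L1 -/
theorem le_Op [Fact p.Prime] (h : Pair X t s) (ih : IH.{u} n) (hn : ♯X < n) (hP : P ≤ X)
    (hp : IsPGroup p P) (hc : X ⊓ 𝐂[t] ≤ 𝐍(P)) (hY : Y ≤ P) (ht : t ∈ 𝐍(Y))
    (hYt : ⁅Y, zpowers t⁆ = Y) : Y ≤ Op p X := by
  have h1 : Y ≤ O X := hYt.ge.trans ((commutator_mono hY le_rfl).trans (h.commutator_le_O ih hn hP hp hc))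
  refine (Sig.le_Op_of_commutator (Q := P ⊓ O X) Nat.prime_two (by
    rw [Nat.card_zpowers, orderOf_eq_two h.t_sq h.t_ne]) (sol_of_odd (odd_O X))
    (odd_O X).not_two_dvd_nat (zpowers_le.2 (O_norm X h.t_mem)) inf_le_right (hp.to_le inf_le_left)
    (le_inf hY h1) (zpowers_le.2 ht) hYt (fun e _ => h.ab_of_two Y (hY.trans hP) (e ▸ hp.to_le hY))
    ?_).trans (Op_le_of_normal p (Opi_normal _ X))
  rw [cent_zpowers]
  exact le_norm_inf ((inf_le_inf_right _ (Opi_le _ _)).trans hc) (le_norm_of_le inf_le_left)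

/-- KB -/
theorem isCyclic_quo (h : Pair X t s) (ih : IH.{u} n) (hn : ♯X < n) (hQ : Q ≤ X ⊓ 𝐂[t])
    (ho : Odd ♯Q) (hc : ⁅Q, zpowers s⁆ = Q) : IsCyclic (Q ⁒ O X : Subgroup _) := by
  have h1 := (hQ.trans inf_le_left).trans (O_norm X)
  have h2 := quo_commutator h1 (zpowers_le.2 (O_norm X h.s_mem))
  have h3 := quo_mono (O X) hQ
  have h4 := h.quo (O_norm X) (odd_O X)
  rw [hc, quo_zpowers (O_norm X h.s_mem)] at h2
  rw [quo_cent1_of_odd (O_norm X) (odd_O X) h.t_mem h.t_sq] at h3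
  obtain e | ⟨L, ρ, e⟩ := h.red_quo ih hn
  · have : _ ≤ S4 _ _ := h2.le.trans ((commutator_mono le_rfl le_sup_right).trans
      (commutator_le_right' ((h3.trans inf_le_left).trans e)))
    rw [← inf_eq_left.2 this, inf_eq_bot_of_coprime_card (h4.coprime (odd_quo ho _))]
    infer_instance
  · exact e.good.cyc _ e.v4.t_mem h4.t_ne h4.t_sq _ (le_inf (h2.le.trans ((commutator_mono le_rfl
      (zpowers_le.2 e.v4.pair.s_mem)).trans (commutator_le_right'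
        ((h3.trans inf_le_left).trans e.normal.norm)))) (h3.trans inf_le_right)) (odd_quo ho _)

theorem isCyclic (h : Pair X t s) (ih : IH.{u} n) (hn : ♯X < n) (hQ : Q ≤ X ⊓ 𝐂[t])
    (ho : Odd ♯Q) (hc : ⁅Q, zpowers s⁆ = Q) (h0 : O X ⊓ Q = ⊥) : IsCyclic Q := by
  have := h.isCyclic_quo ih hn hQ ho hc
  have h1 := (hQ.trans inf_le_left).trans (O_norm X)
  exact isCyclic_of_injective (quoOnto h1) ((MonoidHom.ker_eq_bot_iff _).1 (by
    rw [ker_quoOnto, ← inf_subgroupOf_right, h0, bot_subgroupOf]))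

/-- KC -/
theorem mem_O [hp : Fact p.Prime] (h : Pair X t s) (cO : CharO.{u}) (ih : IH.{u} n) (hn : ♯X < n)
    (h2 : p ≠ 2) (hw : w ∈ Op p (X ⊓ 𝐂[t])) (hs : w ∈ 𝐂[s]) (h1 : w ^ p = 1) : w ∈ O X := by
  have hX := O_norm X (Op_le _ _ hw).1
  have h3 := quo_Op_le p _ (O X) (coset_mem_quo _ hw)
  have h4 := coset_mem_cent1 (O_norm X h.s_mem) hs
  have h5 := h.quo (O_norm X) (odd_O X)
  rw [quo_cent1_of_odd (O_norm X) (odd_O X) h.t_mem h.t_sq] at h3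
  rw [← coset_eq_one_iff hX]
  obtain e | ⟨L, ρ, e⟩ := h.red_quo ih hn
  · have h6 := (h5.symm.cent.symm).mem_O_cent (x := coset (O X) w) ⟨⟨(Op_le _ _ h3).1, h4⟩,
      (Op_le _ _ h3).2⟩ (odd_of_mem (odd_of_isPGroup h2 (Op_isPGroup _ _)) h3)
    rw [inf_assoc, inf_comm 𝐂[_], ← cent_S4] at h6
    exact mem_bot.1 (O_quo X ▸ Opi_le_of_normal _ (normalIn_inf_cent e) h6)
  · exact e.eq_one_of_mem_Op cO h2 h3 h4 (by rw [← coset_pow hX, h1, coset_one])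

end Pair

/-- `L` is the component of `N` -/
structure Comp (N L : Subgroup G) (t s ρ : G) : Prop where
  not_dvd : ¬ 8 ∣ ♯N
  normal : L ⊴ N
  v4 : V4 L t s ρ
  cent : L ≤ 𝐂(O N)
  perfect : der L = L
  good : Good (L ⁒ O N)

theorem V4.exists_comp (h : V4 N t s ρ) (ih : IH.{u} n) (hn : ♯N < n) (hc : O N ≤ 𝐂[t])
    (hS : ¬ N ≤ 𝐍(S4 t s)) : ∃ L ρ', Comp N L t s ρ' := by
  have hp := h.pair
  have hO : O N ⊴ N := Opi_normal _ N
  have h1 : S4 t s ≤ N ⊓ 𝐂(O N) := h.le_of_normal hO.cent fun e =>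
    not_mem_of_odd e h.t_ne h.t_sq ⟨h.t_mem, le_cent1_iff.1 hc⟩
  have h2 := hp.le.trans hO.norm
  obtain e | ⟨L', ρ', e⟩ := hp.red_quo ih hn
  · rw [← S4_quo (hO.norm hp.t_mem) (hO.norm hp.s_mem)] at e
    exact absurd ((le_norm_sup_of_quo hO.norm h2 e).trans ((hp.syl.mono le_sup_left
      (sup_le hp.le hO.le)).norm_le_norm_of_normal (sup_le (le_norm_self _)
        (le_norm_of_le_cent (le_cent_symm (h1.trans inf_le_right)))))) hS
  obtain ⟨L₀, k1, k2, rfl⟩ := exists_quo_eq_normal hO e.normal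
  obtain ⟨L, hL⟩ : ∃ L, L = L₀ ⊓ (N ⊓ 𝐂(O N)) := ⟨_, rfl⟩
  have k3 : L ⊴ N := hL ▸ k2.inf hO.cent
  have k4 : L ≤ 𝐂(O N) := hL.le.trans (inf_le_right.trans inf_le_right)
  have k5 : L ⁒ O N = L₀ ⁒ O N := (e.good.smp _ ((k3.mono (hL.le.trans inf_le_left) k2.le).quo
    _)).resolve_left (quo_ne_bot (k3.le.trans hO.norm) fun e' => not_mem_of_odd (odd_O N) h.t_ne h.t_sq
      (e' (hL ▸ ⟨(coset_mem_quo_iff (hO.norm h.t_mem) k1).1 e.v4.t_mem, h1 (t_mem_S4 t s)⟩)))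
  have k6 : der L ⁒ O N = L₀ ⁒ O N := by rw [quo_der (k3.le.trans hO.norm), k5, e.good.perfect]
  have k7 : der (der L) = der L := by
    have := (quo_le_quo_iff_le_sup (k3.le.trans hO.norm) (k3.der.le.trans hO.norm)).1 (k5.trans k6.symm).le
    have e1 : IsCprod (der L) (O N ⊓ L) L := ⟨by
      rw [← sup_inf_of_le_left (.inl (k3.der.le.trans hO.norm)) (der_le L), inf_eq_right.2 this],
      inf_le_left.trans (le_cent_symm ((der_le L).trans k4))⟩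
    have e2 := e1.der_eq
    rw [ab_iff_der.1 (ab_iff_le_cent.2 (inf_le_right.trans (k4.trans (cent_anti inf_le_left)))),
      sup_bot_eq] at e2
    exact e2.symm
  have k8 : ¬ Odd ♯(der L) := fun e' => e.v4.t_ne (mem_bot.1 ((quo_eq_bot (le_O k3.der e') ▸ k6).ge
    e.v4.t_mem))
  obtain ⟨ρ'', k9⟩ := (hp.mono' (h.le_of_normal k3.der k8) k3.der.le).sdprod_or.resolve_left fun e' =>
    k8 (odd_of_le (odd_O _) (k7.ge.trans (e'.der_le_of_ab hp.ab)))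
  exact ⟨_, ρ'', h.not_dvd, k3.der, k9, (der_le L).trans k4, k7, k6 ▸ e.good⟩

end Cfsg.Agent.GW
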