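import Cfsg.Agent.Lib.Blk.Second
import Cfsg.Agent.Lib.R1.BS8a
import Cfsg.Agent.Lib.OO.PF1

/-!
# Character theoretic tools for groups with dihedral Sylow 2-subgroups
-/

set_option autoImplicit false

namespace Cfsg.Agent.GW

open Subgroup Cfsg.Agent.OO Cfsg.Agent.Blk Cfsg.Agent.R1
open scoped ComplexConjugate

universe u

variable {G : Type u} [Group G] [Finite G] {X H K U : Subgroup G} {φ ψ χ θ α β : G → ℂ}
  {u x y z : G}

/-- `z` is an element of order at most 2 in the center of `H` -/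
structure CInv (z : G) (H : Subgroup G) : Prop where
  mem : z ∈ H
  le : H ≤ 𝐂[z]
  sq : z * z = 1

namespace CInv

variable (h : CInv z H)
include h

omit [Finite G] in
theorem zzg (g : G) : z * (z * g) = g := by rw [← mul_assoc, h.sq, one_mul]

theorem sign (hχ : IsIrr H χ) : tr z χ = χ ∨ tr z χ = -χ := by
  obtain ⟨c, hc⟩ := hχ.exists_scalar h.mem fun y hy => by
    rw [← mem_cent1.1 (h.le hy)]; simp [one_mem]
  have h1 := hc (z * 1)
  rw [h.zzg, hc, ← mul_assoc, eq_comm, mul_eq_right₀ (irr1_neq0 hχ), mul_self_eq_one_iff] at h1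
  rcases h1 with rfl | rfl
  · exact Or.inl (funext fun y => by simp [hc])
  · exact Or.inr (funext fun y => by simp [hc])

theorem tr_mem (hφ : φ ∈ CF H) : tr z φ ∈ CF H :=
  ⟨fun y hy => cfun0 hφ fun e => hy ((H.mul_mem_cancel_left h.mem).1 e), fun k hk y => by
    rw [tr_apply, tr_apply, ← cfunJ hφ hk (z * y), ← mul_assoc, ← mul_assoc,
      ← mem_cent1.1 (h.le hk), mul_assoc k]⟩

theorem cfdot_tr (φ ψ : G → ℂ) : ⟪tr z φ, ψ⟫[H] = ⟪φ, tr z ψ⟫[H] := by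
  rw [cfdotE, cfdotE, ← sum_elts_mul_left h.mem]
  simp [h.zzg]

theorem isChar_add (hφ : IsChar H φ) : IsChar H ((2⁻¹ : ℂ) • (φ + tr z φ)) :=
  isChar_of_cfdot (Submodule.smul_mem _ _ (add_mem hφ.mem_CF (h.tr_mem hφ.mem_CF))) fun ξ hξ => by
    rw [cfdotZl, cfdotDl, h.cfdot_tr]
    rcases h.sign hξ with e | e <;> rw [e]
    · convert Cnat_cfdot_char hφ hξ.isChar using 1; ring
    · simpa [cfdotNr] using isCnat_zero

theorem isChar_sub (hφ : IsChar H φ) : IsChar H ((2⁻¹ : ℂ) • (φ - tr z φ)) :=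
  isChar_of_cfdot (Submodule.smul_mem _ _ (sub_mem hφ.mem_CF (h.tr_mem hφ.mem_CF))) fun ξ hξ => by
    rw [cfdotZl, cfdotBl, h.cfdot_tr]
    rcases h.sign hξ with e | e <;> rw [e]
    · simpa using isCnat_zero
    · convert Cnat_cfdot_char hφ hξ.isChar using 1; rw [cfdotNr]; ring

theorem tr_vchar (hφ : φ ∈ ZIrr H) : tr z φ ∈ ZIrr H :=
  vchar_of_cfdot (h.tr_mem (vchar_mem_CF hφ)) fun ξ hξ => by
    rw [h.cfdot_tr]
    rcases h.sign hξ with e | e <;> rw [e]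
    · exact Cint_cfdot_vchar_irr hφ hξ
    · rw [cfdotNr]; exact (Cint_cfdot_vchar_irr hφ hξ).neg

end CInv

/-- products of conjugates of two elements -/
theorem sum_prod_conj (hH : H ≤ X) (hα : α ∈ suppOn (H : Set G)) (hx : x ∈ X) (hy : y ∈ X) :
    ∑ i ∈ elts (X : Set G), ∑ j ∈ elts (X : Set G), α (i * x * i⁻¹ * (j * y * j⁻¹)) =
      ♯H * ♯X * ∑ χ ∈ Irr X, ⟪α, χ⟫[H] * (χ x * χ y / χ 1) := by
  have h1 : ∑ i ∈ elts (X : Set G), cfInd X H α (i * x * i⁻¹ * y) =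
      ♯X * ∑ χ ∈ Irr X, ⟪α, χ⟫[H] * (χ x * χ y / χ 1) := by
    rw [Finset.sum_congr rfl fun i _ => cfun_apply_sum_cfdot (cfInd_mem_CF X H α) _, Finset.sum_comm,
      Finset.mul_sum]
    refine Finset.sum_congr rfl fun χ hχ => ?_
    have := irr1_neq0 (mem_Irr.1 hχ)
    rw [← Finset.mul_sum, cfdot_cfInd_left hH hα (mem_Irr.1 hχ).mem_CF,
      eq_div_of_mul_eq this ((mul_comm _ _).trans (sum_conj_mul (mem_Irr.1 hχ) hx y))]
    ring
  rw [mul_assoc, ← h1, Finset.mul_sum, eq_comm, Finset.sum_congr rfl fun i hi => by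
    rw [cfIndE' H α (mul_mem (mul_mem (mul_mem (mem_elts.1 hi) hx) (inv_mem (mem_elts.1 hi))) hy),
      mul_inv_cancel_left₀ (cardC_ne_zero H)], Finset.sum_comm, eq_comm, Finset.sum_comm]
  refine Finset.sum_congr rfl fun j hj => ?_
  rw [← sum_elts_mul_left (mem_elts.1 hj)]
  exact Finset.sum_congr rfl fun i _ => congrArg α (by group)

open Classical in
/-- the number of conjugates of `x` which are `H`-conjugate to `y` -/
theorem sum_conj_ite (hH : H ≤ X) {g : G} (hg : g ∈ X) (e : g * x * g⁻¹ = y) :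
    ∑ i ∈ elts (X : Set G), (if ∃ h ∈ H, h * (i * x * i⁻¹) * h⁻¹ = y then (1 : ℂ) else 0) =
      (𝐂[y]).relIndex H * ♯(X ⊓ 𝐂[y]) := by
  have h1 : ∀ a : G, (♯(H ⊓ 𝐂[y]) : ℂ) * (if ∃ h ∈ H, h * a * h⁻¹ = y then (1 : ℂ) else 0) =
      ∑ h ∈ elts (H : Set G), if h * a * h⁻¹ = y then (1 : ℂ) else 0 := fun a => by
    rw [Finset.sum_boole, card_filter_conj_eq]
    split_ifs <;> simp
  refine mul_left_cancel₀ (cardC_ne_zero (H ⊓ 𝐂[y])) ?_
  rw [Finset.mul_sum, Finset.sum_congr rfl fun i _ => h1 _, Finset.sum_comm, ← mul_assoc,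
    ← inf_relIndex_left, card_mul_relIndexC inf_le_left, ← nsmul_eq_mul, ← sum_elts_const]
  refine Finset.sum_congr rfl fun h hh => ?_
  rw [← sum_elts_mul_left (inv_mem (hH (mem_elts.1 hh)))]
  have := card_filter_conj_eq X x y
  rw [if_pos ⟨g, hg, e⟩] at this
  rw [← this, ← Finset.sum_boole]
  exact Finset.sum_congr rfl fun i _ => if_congr (by rw [iff_eq_eq]; congr 1; group) rfl rfl

open Classical in
theorem norm_four (hθ : θ ∈ ZIrr X) (h4 : ⟪θ, θ⟫[X] = 4) (h0 : θ 1 = 0) :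
    ((Irr X).filter fun χ => ⟪χ, θ⟫[X] ≠ 0).card = 4 ∧
      ∀ χ, IsIrr X χ → ⟪χ, θ⟫[X] ≠ 0 → ⟪χ, θ⟫[X] = 1 ∨ ⟪χ, θ⟫[X] = -1 := by
  have h1 : ∑ χ ∈ Irr X, ‖⟪θ, χ⟫[X]‖ ^ 2 = 4 := by
    rw [← cfnorm_sum_irr (vchar_mem_CF hθ)]; exact cfnorm_eq_of_cfdot (by simpa using h4)
  have h2 : ∀ χ, IsIrr X χ → ⟪χ, θ⟫[X] ≠ 0 → ⟪χ, θ⟫[X] = 1 ∨ ⟪χ, θ⟫[X] = -1 := fun χ hχ h => by
    rw [cfdot_vchar_comm (irr_vchar hχ) hθ] at h ⊢
    refine (Cint_cfdot_vchar_irr hθ hχ).eq_one_or_neg_one h (lt_of_not_ge fun h3 => h ?_)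
    rw [← Finset.add_sum_erase _ _ (mem_Irr.2 hχ)] at h1
    have h5 := (Finset.sum_eq_zero_iff_of_nonneg fun _ _ => sq_nonneg _).1 (le_antisymm (by linarith)
      (Finset.sum_nonneg (s := (Irr X).erase χ) fun ψ _ => sq_nonneg ‖⟪θ, ψ⟫[X]‖))
    rw [cfun_apply_sum_cfdot (vchar_mem_CF hθ), ← Finset.add_sum_erase _ _ (mem_Irr.2 hχ),
      Finset.sum_eq_zero fun ψ hψ => by rw [show ⟪θ, ψ⟫[X] = 0 by simpa using h5 ψ hψ, zero_mul],
      add_zero] at h0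
    exact (mul_eq_zero.1 h0).resolve_right (irr1_neq0 hχ)
  refine ⟨?_, h2⟩
  rw [← Finset.sum_filter_of_ne (p := fun χ => ⟪χ, θ⟫[X] ≠ 0) fun χ _ h e => h (by
    simp [cfdot_symm0 e]), Finset.sum_congr rfl (g := fun _ => 1) fun χ hχ => by
      obtain ⟨hχ, h⟩ := Finset.mem_filter.1 hχ
      rw [cfdotC]
      rcases h2 χ (mem_Irr.1 hχ) h with e | e <;> simp [e]] at h1
  exact_mod_cast (by simpa using h1 : ((Finset.card _ : ℕ) : ℝ) = 4)

/-- separation of the columns of generalized decomposition numbers -/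
theorem apply_eq_sum {p k : ℕ} [hp : Fact p.Prime] (hu : u ∈ X) (hk : u ^ p ^ k = 1)
    (hU : ∀ g, g ∈ Reg p (X ⊓ 𝐂[u]) ↔ g ∈ U) {S : Finset (G → ℂ)} (hS : ∀ β ∈ S, IsLinChar U β)
    (hst : ∀ y ∈ U, ∀ g ∈ X, g * y * g⁻¹ ∈ U → (∑ β ∈ S, β) (g * y * g⁻¹) = (∑ β ∈ S, β) y)
    (hχ : IsIrr X χ) (hβ : β ∈ S) (h : ⟪tr u χ, β⟫[U] ≠ 0) (hy : y ∈ U) :
    χ (u * y) = ∑ β ∈ S, ⟪tr u χ, β⟫[U] * β y := by
  classical
  have hUX : U ≤ X ⊓ 𝐂[u] := fun g hg => ((hU g).2 hg).1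
  let f : G → ℂ := fun x => if h : ∃ g ∈ X, g * x * g⁻¹ ∈ U then
    conj ((∑ β ∈ S, β) (h.choose * x * h.choose⁻¹)) else 0
  have h1 : ∀ x g, g ∈ X → g * x * g⁻¹ ∈ U → f x = conj ((∑ β ∈ S, β) (g * x * g⁻¹)) :=
    fun x g hg e => by
      have h : ∃ g ∈ X, g * x * g⁻¹ ∈ U := ⟨g, hg, e⟩
      have h2 : h.choose * g⁻¹ * (g * x * g⁻¹) * (h.choose * g⁻¹)⁻¹ = h.choose * x * h.choose⁻¹ := by
        group
      rw [← hst _ e _ (mul_mem h.choose_spec.1 (inv_mem hg)) (h2 ▸ h.choose_spec.2), h2]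
      exact dif_pos h
  have h2 : ∀ x, (¬ ∃ g ∈ X, g * x * g⁻¹ ∈ U) → f x = 0 := fun x h => dif_neg h
  have hf : f ∈ CF X := ⟨fun x hx => h2 x fun ⟨g, hg, e⟩ => hx (by
    simpa [mul_mem_cancel_left, mul_mem_cancel_right, hg] using (hUX e).1), fun g hg x => by
      by_cases h : ∃ g ∈ X, g * x * g⁻¹ ∈ U
      · obtain ⟨a, ha, e⟩ := h
        have h3 : a * g⁻¹ * (g * x * g⁻¹) * (a * g⁻¹)⁻¹ = a * x * a⁻¹ := by group
        rw [h1 x a ha e, h1 _ _ (mul_mem ha (inv_mem hg)) (h3 ▸ e), h3]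
      · rw [h2 x h, h2 _ fun ⟨a, ha, e⟩ => h ⟨a * g, mul_mem ha hg, by simpa [mul_assoc] using e⟩]⟩
  have hZ : ∑ β ∈ S, β ∈ ZIrr U := sum_mem fun β hβ => irr_vchar (hS β hβ).isIrr
  have hi : ∀ x, PInt p (f x) := fun x => by
    by_cases h : ∃ g ∈ X, g * x * g⁻¹ ∈ U
    · obtain ⟨a, ha, e⟩ := h
      exact h1 x a ha e ▸ pInt_of_isIntegral (Aint_conj (Aint_vchar hZ _))
    · exact h2 x h ▸ pInt_zero
  have hs : ∀ x, p ∣ orderOf x → f x = 0 := fun x hx =>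
    h2 x fun ⟨a, _, e⟩ => ((hU _).2 e).2 (by rwa [orderOf_conj])
  have h3 : ∀ ψ : G → ℂ, ∑ x ∈ elts (U : Set G), f x * ψ x = ♯U * ⟪ψ, ∑ β ∈ S, β⟫[U] := fun ψ => by
    rw [cfdotE, mul_inv_cancel_left₀ (cardC_ne_zero U)]
    exact Finset.sum_congr rfl fun x hx => by
      rw [h1 x 1 X.one_mem (by simpa using hx), mul_comm]; simp
  have hO := orthonormal_of_irr fun β hβ => (hS β hβ).isIrr
  have h4 := pSm_central_of_cfdot_ne_zero hu hk hU hχ (hS β hβ).isIrr h hf hi hs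
  rw [h3, cfdotC, hO.cfdot_sum_subset le_rfl hβ, if_pos hβ, (hS β hβ).one] at h4
  have h5 : cfRes U (tr u χ) ∈ CF U := mem_CF_of (cfRes_mem_suppOn _) fun g hg x hx => by
    rw [cfResE _ hx, cfResE _ (mul_mem (mul_mem hg hx) (inv_mem hg)), tr_apply, tr_apply,
      ← cfunJ hχ.mem_CF (hUX hg).1 (u * x), ← mul_assoc, ← mul_assoc,
      ← mem_cent1.1 (hUX hg).2, mul_assoc g]
  rw [← tr_apply χ y, ← cfResE (tr u χ) hy, cfun_apply_sum_cfdot h5,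
    ← Finset.sum_subset fun β hβ => mem_Irr.2 (hS β hβ).isIrr]
  · simp only [cfdot_cfRes_left]
  intro ψ hψ hψS
  rw [cfdot_cfRes_left, mul_eq_zero]
  refine Or.inl (not_not.1 fun h6 => ?_)
  have h7 := pSm_central_of_cfdot_ne_zero hu hk hU hχ (mem_Irr.1 hψ) h6 hf hi hs
  rw [h3, cfdot_sumr, Finset.sum_eq_zero fun β hβ => cfdot_irr_ne (mem_Irr.1 hψ) (hS β hβ).isIrr
    fun e => hψS (e ▸ hβ)] at h7
  obtain ⟨x, hx, e⟩ := cauchy hp.out (pSm_natCast.1 (by simpa using h4.trans h7.sub_comm))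
  exact ((hU x).2 hx).2 e.symm.dvd

/-- a character of degree less than `6` of a group with a normal subgroup `U` of odd order and a
normal subgroup `K ≤ U` inverted by some element -/
theorem le_cfker_of_small {N : Subgroup G} {s : G} (hU : U ⊴ H) (ho : Odd ♯U) (hK : K ⊴ U)
    (hs : s ∈ H) (hi : ∀ x ∈ K, s * x * s⁻¹ = x⁻¹) (h1 : N ≤ K) (h2 : N ≤ der U) (hθ : IsChar H θ)
    (h6 : (θ 1).re < 6) : N ≤ cfker H θ := by
  have h3 := hθ.cfRes hU.1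
  refine (le_cfker_of_constt h3.mem_CF (h1.trans hK.1) fun ψ hψ h4 => ?_).trans
    ((cfker_Res_char hθ hU.1).trans_le inf_le_right)
  obtain ⟨n, -, hn⟩ := hψ.exists_one
  obtain ⟨m, rfl⟩ := ho.of_dvd_nat (dvd_irr1_cardG hψ hn)
  rcases m.eq_zero_or_pos with rfl | hm
  · exact h2.trans (lin_char_der1 (hψ.isLinChar (by simpa using hn)))
  have h5 : cfConjg s ψ = ψ := by
    by_contra h5
    have := char1_ge_constt (h3.sub_of_constt hψ h4) (hψ.cfConjg (hU.2 hs)) (by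
      rwa [cfdotBl, cfdot_irr_ne hψ (hψ.cfConjg (hU.2 hs)) (Ne.symm h5), sub_zero,
        ← cfConjg_cfRes_of_mem hθ.mem_CF hs (hU.2 hs), cfdot_cfConjg (hU.2 hs)])
    rw [cfConjg1, Pi.sub_apply, cfRes1, Complex.sub_re, hn, Complex.natCast_re] at this
    have : (1 : ℝ) ≤ m := by exact_mod_cast hm
    push_cast at *
    linarith
  obtain ⟨μ, hμ, h7⟩ := constt_cfRes_irr hψ hK.1
  have h8 : star (cfRes K ψ) = cfRes K ψ := by
    rw [← cfRes_star]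
    exact cfRes_ext fun x hx => by rw [cfConjCE, ← char_inv hψ.isChar, ← hi x hx, ← h5, cfConjgEJ, h5]
  have h9 := cfclass_Ind' K (cfclass_of_constt_Res hK hψ hμ hμ.star h7 (by
    rwa [← h8, cfdot_conjC, map_ne_zero]))
  refine h1.trans ((constt0_Res_cfker hK hψ).1 (by_contra (p := μ = cf1 K) (fun h10 => ?_) ▸ h7 :))
  have := odd_induced_orthogonal hK ho hμ h10
  rw [← cfInd_star, h9, cfnorm_Ind_irr hK hμ] at this
  exact relIndexC_ne_zero _ _ this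

end Cfsg.Agent.GW
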