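import Mathlib

/-!
# Numerical lemmas for the order formulas of groups with Sylow 2-subgroups of order 4
-/

set_option autoImplicit false

namespace Cfsg.Agent.GW

theorem inv_pos_le {y : ℤ} (n : ℕ) (hn : 0 < n) (h : n ≤ y) :
    n ≤ y ∧ 0 < (y : ℚ)⁻¹ ∧ (y : ℚ)⁻¹ ≤ 1 / n := by
  have h1 : (0 : ℚ) < n := by exact_mod_cast hn
  have h2 : (n : ℚ) ≤ y := by exact_mod_cast h
  exact ⟨h, inv_pos.2 (h1.trans_le h2), by rw [one_div]; exact inv_anti₀ h1 h2⟩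

theorem inv_neg_ge {y : ℤ} (n : ℕ) (hn : 0 < n) (h : y ≤ -n) :
    y ≤ -n ∧ (y : ℚ)⁻¹ < 0 ∧ -(1 / n) ≤ (y : ℚ)⁻¹ := by
  obtain ⟨-, h1, h2⟩ := inv_pos_le (y := -y) n hn (by omega)
  rw [Int.cast_neg, inv_neg] at h1 h2
  exact ⟨h, by linarith, by linarith⟩

theorem sum_inv_le {ι : Type*} {T : Finset ι} (hT : T.card = 4) {y : ι → ℤ}
    (h : ∀ i ∈ T, y i % 4 = 1) (h0 : ∑ i ∈ T, y i = 0) : ∑ i ∈ T, (y i : ℚ)⁻¹ ≤ 8 / 3 := by
  classical
  obtain ⟨a, b, c, d, h3, h4, h5, h6, h7, h8, rfl⟩ := Finset.card_eq_four.1 hT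
  rw [Finset.sum_insert (by simp [*]), Finset.sum_insert (by simp [*]), Finset.sum_pair h8] at h0 ⊢
  have k : ∀ i ∈ ({a, b, c, d} : Finset ι), y i = 1 ∨ _ ∨ _ := fun i hi => by
    have := h i hi
    rcases (by omega : y i = 1 ∨ (5 : ℕ) ≤ y i ∨ y i ≤ -(3 : ℕ)) with e | e | e
    exacts [.inl e, .inr (.inl (inv_pos_le 5 (by omega) e)), .inr (.inr (inv_neg_ge 3 (by omega) e))]
  have ka := k a (by simp); have kb := k b (by simp); have kc := k c (by simp)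
  have kd := k d (by simp)
  generalize y a = A, y b = B, y c = C, y d = D at *
  rcases ka with rfl | ⟨_, _, _⟩ | ⟨_, _, _⟩ <;> rcases kb with rfl | ⟨_, _, _⟩ | ⟨_, _, _⟩ <;>
    rcases kc with rfl | ⟨_, _, _⟩ | ⟨_, _, _⟩ <;> rcases kd with rfl | ⟨_, _, _⟩ | ⟨_, _, _⟩ <;>
    first
    | omega
    | (push_cast at *; linarith)
    | (obtain rfl : A = -3 := by omega); norm_num
    | (obtain rfl : B = -3 := by omega); norm_num
    | (obtain rfl : C = -3 := by omega); norm_num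
    | (obtain rfl : D = -3 := by omega); norm_num

theorem sum_inv_le' {ι : Type*} {T : Finset ι} (hT : T.card = 4) {y : ι → ℤ}
    (h : ∀ i ∈ T, y i % 4 = 1 ∧ y i ≠ 1) (h0 : ∑ i ∈ T, y i = 0) :
    ∑ i ∈ T, (y i : ℚ)⁻¹ ≤ 8 / 15 := by
  classical
  obtain ⟨a, b, c, d, h3, h4, h5, h6, h7, h8, rfl⟩ := Finset.card_eq_four.1 hT
  rw [Finset.sum_insert (by simp [*]), Finset.sum_insert (by simp [*]), Finset.sum_pair h8] at h0 ⊢
  have k : ∀ i ∈ ({a, b, c, d} : Finset ι), y i = 5 ∨ _ ∨ _ := fun i hi => by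
    have := h i hi
    rcases (by omega : y i = 5 ∨ (9 : ℕ) ≤ y i ∨ y i ≤ -(3 : ℕ)) with e | e | e
    exacts [.inl e, .inr (.inl (inv_pos_le 9 (by omega) e)), .inr (.inr (inv_neg_ge 3 (by omega) e))]
  have ka := k a (by simp); have kb := k b (by simp); have kc := k c (by simp)
  have kd := k d (by simp)
  generalize y a = A, y b = B, y c = C, y d = D at *
  rcases ka with rfl | ⟨_, _, _⟩ | ⟨_, _, _⟩ <;> rcases kb with rfl | ⟨_, _, _⟩ | ⟨_, _, _⟩ <;>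
    rcases kc with rfl | ⟨_, _, _⟩ | ⟨_, _, _⟩ <;> rcases kd with rfl | ⟨_, _, _⟩ | ⟨_, _, _⟩ <;>
    first
    | omega
    | (push_cast at *; linarith)
    | (obtain rfl : A = -15 := by omega); norm_num
    | (obtain rfl : B = -15 := by omega); norm_num
    | (obtain rfl : C = -15 := by omega); norm_num
    | (obtain rfl : D = -15 := by omega); norm_num

theorem sum_inv_bounds {ι : Type*} {T : Finset ι} (hT : T.card = 4) {y : ι → ℤ} {i₀ : ι}
    (hi : i₀ ∈ T) (h1 : y i₀ = 1) (h : ∀ i ∈ T, y i % 4 = 1 ∧ (i ≠ i₀ → y i ≠ 1))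
    (h0 : ∑ i ∈ T, y i = 0) : ∑ i ∈ T, (y i : ℚ)⁻¹ ≤ 7 / 5 ∧ 8 / 15 ≤ ∑ i ∈ T, (y i : ℚ)⁻¹ ∧
      ((∀ i ∈ T, y i ≠ -3) → 8 / 15 < ∑ i ∈ T, (y i : ℚ)⁻¹) := by
  classical
  rw [← Finset.add_sum_erase _ _ hi, h1] at h0 ⊢
  obtain ⟨a, b, c, h3, h4, h5, e⟩ := Finset.card_eq_three.1
    ((Finset.card_erase_of_mem hi).trans (by rw [hT]))
  have k : ∀ i ∈ T.erase i₀, i ∈ T ∧ (y i = -3 ∨ y i = -7 ∨ _ ∨ _) := fun i hi => by
    have := h i (Finset.mem_of_mem_erase hi)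
    have := this.2 (Finset.ne_of_mem_erase hi)
    refine ⟨Finset.mem_of_mem_erase hi, ?_⟩
    rcases (by omega : y i = -3 ∨ y i = -7 ∨ (5 : ℕ) ≤ y i ∨ y i ≤ -(11 : ℕ)) with e | e | e | e
    exacts [.inl e, .inr (.inl e), .inr (.inr (.inl (inv_pos_le 5 (by omega) e))),
      .inr (.inr (.inr (inv_neg_ge 11 (by omega) e)))]
  rw [e] at k h0 ⊢
  rw [Finset.sum_insert (by simp [*]), Finset.sum_pair h5] at h0 ⊢
  obtain ⟨ma, ka⟩ := k a (by simp); obtain ⟨mb, kb⟩ := k b (by simp)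
  obtain ⟨mc, kc⟩ := k c (by simp)
  suffices (_ ∧ _) ∧ (y a ≠ -3 → y b ≠ -3 → y c ≠ -3 → _) from
    ⟨this.1.1, this.1.2, fun h => this.2 (h a ma) (h b mb) (h c mc)⟩
  generalize y a = A, y b = B, y c = C at *
  rcases ka with rfl | rfl | ⟨_, _, _⟩ | ⟨_, _, _⟩ <;>
    rcases kb with rfl | rfl | ⟨_, _, _⟩ | ⟨_, _, _⟩ <;>
    rcases kc with rfl | rfl | ⟨_, _, _⟩ | ⟨_, _, _⟩ <;>
    first
    | omega
    | (push_cast at *; refine ⟨⟨?_, ?_⟩, fun _ _ _ => ?_⟩ <;> linarith)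
    | (obtain rfl | rfl : A = 5 ∨ A = 9 := by omega) <;> first | omega | norm_num
    | (obtain rfl | rfl : B = 5 ∨ B = 9 := by omega) <;> first | omega | norm_num
    | (obtain rfl | rfl : C = 5 ∨ C = 9 := by omega) <;> first | omega | norm_num

/-- three orthogonal sign vectors of length four -/
theorem hadamard {ι : Type*} {T : Finset ι} (hT : T.card = 4) {a b c f : ι → ℤ}
    (h : ∀ i ∈ T, (a i = 1 ∨ a i = -1) ∧ (b i = 1 ∨ b i = -1) ∧ (c i = 1 ∨ c i = -1))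
    (hab : ∑ i ∈ T, a i * b i = 0) (hac : ∑ i ∈ T, a i * c i = 0) (hbc : ∑ i ∈ T, b i * c i = 0)
    (ha : ∑ i ∈ T, a i * f i = 0) (hb : ∑ i ∈ T, b i * f i = 0) (hc : ∑ i ∈ T, c i * f i = 0)
    (hf : ∀ i ∈ T, 0 < f i) : ∃ i ∈ T, b i = a i ∧ c i = a i ∧ (∀ j ∈ T, f j = f i) ∧
      ∑ j ∈ T, a j * (a j + b j + c j) ^ 2 = 8 * a i := by
  have h1 : ∀ x y : ℤ, (x = 1 ∨ x = -1) → (y = 1 ∨ y = -1) →
      ∑ j ∈ T, (1 + x * (a j * b j)) * (1 + y * (a j * c j)) = 4 := fun x y _ _ => by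
    rw [Finset.sum_congr rfl (g := fun j => 1 + x * (a j * b j) + y * (a j * c j) +
      x * y * (b j * c j)) fun j hj => by rcases (h j hj).1 with e | e <;> rw [e] <;> ring]
    simp [Finset.sum_add_distrib, ← Finset.mul_sum, hab, hac, hbc, hT]
  have h2 : ∀ i ∈ T, 4 * f i = a i * b i * c i * ∑ j ∈ T, a j * b j * c j * f j := fun i hi => by
    classical
    have h3 := h1 (a i * b i) (a i * c i)
      (by rcases h i hi with ⟨e | e, e' | e', -⟩ <;> simp [e, e'])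
      (by rcases h i hi with ⟨e | e, -, e' | e'⟩ <;> simp [e, e'])
    rw [← Finset.add_sum_erase _ _ hi] at h3
    have h4 := (Finset.sum_eq_zero_iff_of_nonneg fun j hj => by
      rcases h i hi with ⟨e1 | e1, e2 | e2, e3 | e3⟩ <;>
        rcases h j (Finset.mem_of_mem_erase hj) with ⟨e4 | e4, e5 | e5, e6 | e6⟩ <;>
        simp [e1, e2, e3, e4, e5, e6]).1 ((add_eq_left.1 (h3.trans (by
          rcases h i hi with ⟨e1 | e1, e2 | e2, e3 | e3⟩ <;> simp [e1, e2, e3]))))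
    have h5 : ∑ j ∈ T, (1 + a i * b i * (a j * b j)) * (1 + a i * c i * (a j * c j)) * (a j * f j) =
        4 * (a i * f i) := by
      rw [← Finset.add_sum_erase _ _ hi, Finset.sum_eq_zero fun j hj => by rw [h4 j hj, zero_mul]]
      rcases h i hi with ⟨e1 | e1, e2 | e2, e3 | e3⟩ <;> simp [e1, e2, e3]
    rw [Finset.sum_congr rfl (g := fun j => a j * f j + a i * b i * (b j * f j) +
      a i * c i * (c j * f j) + a i * b i * (a i * c i) * (a j * b j * c j * f j)) fun j hj => by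
        rcases (h j hj).1 with e | e <;> rw [e] <;> ring] at h5
    simp only [Finset.sum_add_distrib, ← Finset.mul_sum, ha, hb, hc] at h5
    rcases (h i hi).1 with e | e <;> rw [e] at h5 ⊢ <;> linarith
  obtain ⟨i, hi, h3⟩ := Finset.exists_ne_zero_of_sum_ne_zero ((h1 1 1 (.inl rfl) (.inl rfl)).trans_ne
    four_ne_zero)
  have h4 : b i = a i ∧ c i = a i := by
    rcases h i hi with ⟨e1 | e1, e2 | e2, e3 | e3⟩ <;> simp [e1, e2, e3] at h3 ⊢
  have h5 : ∀ j ∈ T, f j = f i ∧ a j * b j * c j = a i := fun j hj => by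
    have h6 := h2 i hi
    have h7 := h2 j hj
    have := hf i hi
    have := hf j hj
    rw [h4.1, h4.2] at h6
    generalize ∑ j ∈ T, a j * b j * c j * f j = E at *
    rcases (h i hi).1 with e1 | e1 <;> rcases h j hj with ⟨e4 | e4, e5 | e5, e6 | e6⟩ <;>
      simp only [e1, e4, e5, e6] at h6 h7 ⊢ <;> omega
  have h6 : ∀ g : ι → ℤ, ∑ j ∈ T, g j * f j = 0 → ∑ j ∈ T, g j = 0 := fun g hg => by
    rwa [Finset.sum_congr rfl fun j hj => by rw [(h5 j hj).1], ← Finset.sum_mul,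
      mul_eq_zero_iff_right (hf i hi).ne'] at hg
  refine ⟨i, hi, h4.1, h4.2, fun j hj => (h5 j hj).1, ?_⟩
  rw [Finset.sum_congr rfl (g := fun j => 3 * a j + 2 * b j + 2 * c j + 2 * a i) fun j hj => by
    rw [← (h5 j hj).2]
    rcases h j hj with ⟨e4 | e4, e5 | e5, e6 | e6⟩ <;> simp [e4, e5, e6]]
  simp only [Finset.sum_add_distrib, ← Finset.mul_sum, h6 a ha, h6 b hb, h6 c hc, Finset.sum_const,
    hT]
  ring

end Cfsg.Agent.GW
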