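import Cfsg.Agent.Lib.GW.Basic
import Cfsg.Agent.Lib.GW.Char1
import Cfsg.Agent.Lib.GW.CharNum

/-!
# Groups with Sylow 2-subgroups of order 4: columns of decomposition numbers
-/

set_option autoImplicit false

namespace Cfsg.Agent.GW

open Subgroup Cfsg.Agent.OO Cfsg.Agent.Blk Cfsg.Agent.R1
open scoped ComplexConjugate Pointwise

universe u

variable {G : Type u} [Group G] [Finite G] {X : Subgroup G} {φ ψ χ β γ : G → ℂ}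
  {t s ρ a b g u y z : G}

local notation "𝓗" => X ⊓ centralizer (Singleton.singleton t)
local notation "𝓤" => O (X ⊓ centralizer (Singleton.singleton t))

/-- the virtual character whose multiplicities are the decomposition numbers for `β` -/
noncomputable def colf (X : Subgroup G) (t : G) (β : G → ℂ) : G → ℂ :=
  cfInd X (X ⊓ 𝐂[t]) ((4 : ℂ) • tr t β)

omit [Finite G] in
theorem conj_mem_of_mem (hg : g ∈ X) (ha : a ∈ X) : g * a * g⁻¹ ∈ X :=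
  mul_mem (mul_mem hg ha) (inv_mem hg)

namespace Pair

variable (h : Pair X t s)
include h

theorem sd : IsSdprod 𝓤 (S4 t s) 𝓗 := h.cent.sdprod_of_cent inf_le_right

theorem reg (g : G) : g ∈ Reg 2 𝓗 ↔ g ∈ 𝓤 :=
  ⟨fun e => h.mem_O_cent e.1 (Nat.odd_iff.2 (Nat.two_dvd_ne_zero.1 e.2)), fun e =>
    ⟨Opi_le _ _ e, Nat.two_dvd_ne_zero.2 (Nat.odd_iff.1 (odd_of_mem (odd_O _) e))⟩⟩

omit [Finite G] in
theorem cinv : CInv t 𝓗 := ⟨h.cent.t_mem, inf_le_right, h.t_sq⟩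

theorem pow_card (ha : t * a ∈ 𝓤) : a ^ ♯𝓤 = t := by
  obtain ⟨m, hm⟩ := odd_O 𝓗
  have h1 : Commute t (t * a) := (mem_cent1.1 (h.sd.left_le ha).2).symm
  rw [← h.cinv.zzg a, h1.mul_pow, orderOf_dvd_iff_pow_eq_one.1 (orderOf_dvd_card ha), hm, pow_succ,
    pow_mul, pow_two, h.t_sq, one_pow, one_mul, mul_one]

theorem ti : NormedTI {a | t * a ∈ 𝓤} X 𝓗 :=
  ⟨⟨t, by simp [h.t_sq]⟩, inf_le_left, fun g hg a ha => by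
    have := h.sd.normal.conj_mem hg ha
    rwa [← mul_assoc, mem_cent1.1 hg.2, mul_assoc t, mul_assoc t] at this, fun g hg a ha ha' =>
    ⟨hg, mem_cent1_iff_conj.2 (by
      have := h.pow_card ha'
      rwa [conj_pow, h.pow_card ha] at this)⟩⟩

theorem tr_on (hβ : β ∈ CFon 𝓗 𝓤) : (4 : ℂ) • tr t β ∈ CFon 𝓗 {a | t * a ∈ 𝓤} :=
  Submodule.smul_mem _ _ ⟨h.cinv.tr_mem hβ.1, fun _ ha => hβ.2 _ ha⟩

theorem cfdot_tr (hβ : β ∈ suppOn (𝓤 : Set G)) (φ : G → ℂ) :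
    ⟪(4 : ℂ) • tr t β, φ⟫[𝓗] = ⟪β, tr t φ⟫[𝓤] := by
  rw [cfdotZl, h.cinv.cfdot_tr, ← cfdot_of_suppOn h.sd.left_le hβ, h.sd.relIndex_left, h.card]
  rfl

theorem cfdot_colf (hβ : β ∈ CFon 𝓗 𝓤) (hχ : χ ∈ CF X) : ⟪χ, colf X t β⟫[X] = ⟪tr t χ, β⟫[𝓤] := by
  rw [colf, cfdot_cfInd_right inf_le_left hχ (h.tr_on hβ).1.1, cfdotC, h.cfdot_tr hβ.2, conj_cfdot]

theorem colf_vchar (hβ : β ∈ CF 𝓗) (hZ : β ∈ ZIrr 𝓤) : colf X t β ∈ ZIrr X :=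
  cfInd_vchar inf_le_left (vchar_of_cfdot (h.tr_on ⟨hβ, (vchar_mem_CF hZ).1⟩).1 fun ξ hξ => by
    rw [h.cfdot_tr (vchar_mem_CF hZ).1, ← cfdot_cfRes_right]
    exact Cint_cfdot_vchar hZ (cfRes_vchar h.sd.left_le (h.cinv.tr_vchar (irr_vchar hξ))))

theorem colf_dot (hβ : β ∈ CFon 𝓗 𝓤) (hγ : γ ∈ CFon 𝓗 𝓤) :
    ⟪colf X t β, colf X t γ⟫[X] = 4 * ⟪β, γ⟫[𝓤] := by
  rw [colf, colf, normedTI_isometry h.ti (h.tr_on hβ) (h.tr_on hγ), h.cfdot_tr hβ.2, map_smul, cfdotZr]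
  congr 1
  · exact Complex.conj_ofNat 4
  · exact congrArg _ (funext fun y => by simp [h.cinv.zzg])

theorem t_not_mem : t ∉ 𝓤 := fun e =>
  h.t_ne (eq_one_of_odd_of_sq (odd_of_mem (odd_O _) e) h.t_sq)

theorem colf_one (hβ : β ∈ suppOn (𝓤 : Set G)) : colf X t β 1 = 0 := by
  rw [colf, cfInd1 inf_le_left]; simp [hβ t h.t_not_mem]

theorem exists_mul (hβ : IsLinChar 𝓤 β) (hβ' : β ∈ CF 𝓗) (hy : y ∈ S4 t s) (hz : z ∈ S4 t s)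
    (ha : ∃ g ∈ 𝓗, g * a * g⁻¹ = y) (hb : ∃ g ∈ 𝓗, g * b * g⁻¹ = z) :
    ∃ w ∈ 𝓤, β w = 1 ∧ t * (a * b) = w * (t * (y * z)) := by
  have h1 : ∀ a y, y ∈ S4 t s → (∃ g ∈ 𝓗, g * a * g⁻¹ = y) → ∃ u ∈ 𝓤, a = u * y * u⁻¹ := by
    rintro a y hy ⟨g, hg, e⟩
    obtain ⟨u, hu, σ, hσ, e'⟩ := h.sd.mem_iff.1 (inv_mem hg)
    refine ⟨u, hu, ?_⟩
    rw [← mem_cent1_iff_conj.1 (mem_cent1.2 (ab_iff.1 h.ab _ hσ _ hy)), ← e, eq_inv_of_mul_eq_one_left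
      (show u * (σ * g) = 1 by rw [← mul_assoc, e', inv_mul_cancel])]
    group
  obtain ⟨u, hu, rfl⟩ := h1 a y hy ha
  obtain ⟨v, hv, rfl⟩ := h1 b z hz hb
  have h2 := h.sd.right_le hy
  have h3 := h.sd.right_le (mul_mem hy hz)
  have h4 := h.sd.normal.conj_mem h2 (mul_mem (inv_mem hu) hv)
  have h5 := h.sd.normal.conj_mem h3 (inv_mem hv)
  have h6 := mul_mem (mul_mem hu h4) h5
  refine ⟨_, h6, ?_, ?_⟩
  · rw [lin_charM hβ (mul_mem hu h4) h5, lin_charM hβ hu h4, cfunJ hβ' h2, cfunJ hβ' h3,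
      ← lin_charM hβ hu (mul_mem (inv_mem hu) hv), mul_inv_cancel_left,
      ← lin_charM hβ hv (inv_mem hv), mul_inv_cancel, hβ.one]
  · rw [← mul_assoc _ t, mem_cent1.1 (h.sd.left_le h6).2]; group

open Classical in
theorem apply_mul (hβ : IsLinChar 𝓤 β) (hβ' : β ∈ CF 𝓗) (ha : a ∈ X) (ha1 : a ≠ 1) (ha2 : a * a = 1)
    (hb1 : b ≠ 1) (hb2 : b * b = 1) : β (t * (a * b)) =
      (if ∃ g ∈ 𝓗, g * a * g⁻¹ = s then 1 else 0) * (if ∃ g ∈ 𝓗, g * b * g⁻¹ = t * s then 1 else 0) +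
      (if ∃ g ∈ 𝓗, g * a * g⁻¹ = t * s then 1 else 0) *
        (if ∃ g ∈ 𝓗, g * b * g⁻¹ = s then 1 else 0) := by
  have m1 := t_mem_S4 t s
  have m2 := s_mem_S4 t s
  have m3 := mul_mem m1 m2
  have e1 : t * (s * (t * s)) = 1 := by rw [← mul_assoc, h.mul_sq]
  have e2 : t * (t * s * s) = 1 := by rw [mul_assoc t s, h.s_sq, mul_one, h.t_sq]
  have h1 : ∀ c, c * c = 1 → (∃ g ∈ 𝓗, g * c * g⁻¹ = s) → ¬ ∃ g ∈ 𝓗, g * c * g⁻¹ = t * s :=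
    fun c hc p q => by
      obtain ⟨w, hw, -, e⟩ := h.exists_mul hβ hβ' m2 m3 p q
      rw [hc, e1, mul_one, mul_one] at e
      exact h.t_not_mem (e ▸ hw)
  by_cases p : (∃ g ∈ 𝓗, g * a * g⁻¹ = s) ∧ ∃ g ∈ 𝓗, g * b * g⁻¹ = t * s
  · obtain ⟨w, -, hw, e⟩ := h.exists_mul hβ hβ' m2 m3 p.1 p.2
    rw [e, e1, mul_one, hw, if_pos p.1, if_pos p.2, if_neg (h1 a ha2 p.1)]; simp
  by_cases q : (∃ g ∈ 𝓗, g * a * g⁻¹ = t * s) ∧ ∃ g ∈ 𝓗, g * b * g⁻¹ = s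
  · obtain ⟨w, -, hw, e⟩ := h.exists_mul hβ hβ' m3 m2 q.1 q.2
    rw [e, e2, mul_one, hw, if_pos q.1, if_pos q.2, if_neg (h1 b hb2 q.2)]; simp
  rw [ite_zero_mul_ite_zero, ite_zero_mul_ite_zero, if_neg p, if_neg q, add_zero]
  refine cfun0 hβ.mem_CF fun hU => ?_
  have h2 : a ∈ 𝓗 := h.ti.mem_of_conj a ha _ hU (by
    have := inv_mem hU
    rw [mul_inv_rev, mul_inv_rev, inv_eq ha2, inv_eq hb2, inv_eq h.t_sq, mem_cent1.1 (by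
      simpa [mul_mem_cancel_right, mem_cent1_self, inv_eq ha2, inv_eq hb2] using
        (𝐂[t]).inv_mem (h.sd.left_le hU).2)] at this
    simpa [← mul_assoc, ha2, inv_eq ha2, mul_assoc t a a] using this)
  have h3 : b ∈ 𝓗 :=
    (mul_mem_cancel_left h2).1 ((mul_mem_cancel_left h.cinv.mem).1 (h.sd.left_le hU))
  obtain ⟨g, hg, p1⟩ := h.cent.exists_conj_mem h2 ha2
  obtain ⟨k, hk, p2⟩ := h.cent.exists_conj_mem h3 hb2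
  obtain ⟨w, hw, -, e⟩ := h.exists_mul hβ hβ' p1 p2 ⟨g, hg, rfl⟩ ⟨k, hk, rfl⟩
  have h4 := mem_bot.1 (h.sd.inf_eq.le ⟨(mul_mem_cancel_left hw).1 (e ▸ hU), mul_mem m1 (mul_mem p1 p2)⟩)
  rcases (h.mem_S4.1 p1).resolve_left (conj_ne_one.2 ha1) with c | c | c <;>
    rcases (h.mem_S4.1 p2).resolve_left (conj_ne_one.2 hb1) with d | d | d <;>
    first
    | exact p ⟨⟨g, hg, c⟩, k, hk, d⟩
    | exact q ⟨⟨g, hg, c⟩, k, hk, d⟩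
    | simp [c, d, h.cinv.zzg, h.t_sq, h.s_sq, h.mul_sq, h.t_ne, h.s_ne, h.mul_ne_one, ← h.comm.eq,
        mul_assoc t s t] at h4

end Pair

namespace V4

variable (h : V4 X t s ρ)
include h

theorem order_eq (hβ : IsLinChar 𝓤 β) (hβ' : β ∈ CF 𝓗) :
    nI X t * ∑ χ ∈ Irr X, ⟪tr t χ, β⟫[𝓤] * (χ t * χ t / χ 1) = 8 * kI X t s ^ 2 := by
  classical
  have p := h.pair
  have h1 := sum_prod_conj inf_le_left (p.tr_on ⟨hβ', hβ.mem_CF.1⟩).1.1 h.t_mem h.t_mem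
  have h2 : ∀ g ∈ X, ♯(X ⊓ 𝐂[g * t * g⁻¹]) = ♯𝓗 := fun g hg => by
    rw [← card_conj g 𝓗, conj_inf, ← cent1_conj, conj_eq_of_mem hg]
  have h3 : ρ⁻¹ * t * ρ⁻¹⁻¹ = t * s := by nth_rewrite 1 [← h.ρts]; group
  have h4 := sum_conj_ite (H := 𝓗) inf_le_left h.ρ_mem h.ρt
  have h5 := sum_conj_ite (H := 𝓗) inf_le_left (inv_mem h.ρ_mem) h3
  rw [← h.ρt, h2 ρ h.ρ_mem, h.ρt] at h4
  rw [← h3, h2 _ (inv_mem h.ρ_mem), h3, show (𝐂[t * s]).relIndex 𝓗 = kI X t s by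
    rw [kI, ← inf_relIndex_left, ← inf_relIndex_left (K := 𝐂[s])]
    congr 1
    ext g
    rw [mem_inf, mem_inf (p' := 𝐂[s]), and_congr_right_iff]
    intro hg
    rw [mem_cent1, mem_cent1, ← mul_assoc, mem_cent1.1 hg.2]
    simp [mul_assoc]] at h5
  simp only [Pi.smul_apply, tr_apply, smul_eq_mul] at h1
  rw [Finset.sum_congr rfl fun i hi => Finset.sum_congr rfl fun j _ => by
    rw [p.apply_mul hβ hβ' (conj_mem_of_mem (mem_elts.1 hi) h.t_mem) (conj_ne_one.2 h.t_ne)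
      (conj_sq h.t_sq i) (conj_ne_one.2 h.t_ne) (conj_sq h.t_sq j)]] at h1
  simp only [← Finset.mul_sum, Finset.sum_add_distrib, ← Finset.sum_mul, h4, h5] at h1
  rw [← card_mul_relIndexC (inf_le_left : 𝓗 ≤ X), inf_relIndex_left,
    Finset.sum_congr rfl fun χ hχ => by
      rw [p.cfdot_tr hβ.mem_CF.1, ← conj_cfdot, ← p.cfdot_colf ⟨hβ', hβ.mem_CF.1⟩ (mem_Irr.1 hχ).mem_CF,
        (Cint_cfdot_vchar (irr_vchar (mem_Irr.1 hχ)) (p.colf_vchar hβ' (irr_vchar hβ.isIrr))).conj_eq,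
        p.cfdot_colf ⟨hβ', hβ.mem_CF.1⟩ (mem_Irr.1 hχ).mem_CF]] at h1
  refine mul_left_cancel₀ (pow_ne_zero 2 (cardC_ne_zero 𝓗)) ?_
  linear_combination -h1

theorem mod_four (hχ : IsChar X χ) : ∃ m : ℕ, χ 1 + 3 * χ t = 4 * m := by
  have p := h.pair
  have c1 : CInv t (S4 t s) := ⟨t_mem_S4 _ _, p.le_cent, h.t_sq⟩
  have c2 : CInv s (S4 t s) := ⟨s_mem_S4 _ _, p.le_cent', p.s_sq⟩
  obtain ⟨m, hm⟩ := Cnat_char1 (c2.isChar_add (c1.isChar_add (hχ.cfRes p.le)))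
  have h1 : χ s = χ t := by rw [← h.ρt, cfunJ hχ.mem_CF h.ρ_mem]
  have h2 : χ (t * s) = χ t := by rw [← h.ρs, cfunJ hχ.mem_CF h.ρ_mem, h1]
  simp only [Pi.smul_apply, Pi.add_apply, tr_apply, mul_one, cfRes1, cfResE χ c1.mem,
    cfResE χ c2.mem, cfResE χ (mul_mem c1.mem c2.mem), smul_eq_mul, h1, h2] at hm
  exact ⟨m, by linear_combination 4 * hm⟩

theorem conj_mem_B (hb : b ∈ 𝓤 ⊓ 𝐂[s]) : ρ * b * ρ⁻¹ ∈ 𝓤 ⊓ 𝐂[s] := by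
  have h1 := h.pair.sd.left_le hb.1
  have h2 : Commute (ρ * b * ρ⁻¹) s := h.ρt ▸ (show Commute b t from mem_cent1.1 h1.2).map (MulAut.conj ρ)
  have h3 : Commute (ρ * b * ρ⁻¹) t := h.ρts ▸ ((show Commute b t from mem_cent1.1 h1.2).mul_right
    (mem_cent1.1 hb.2)).map (MulAut.conj ρ)
  exact ⟨h.pair.mem_O_cent ⟨conj_mem_of_mem h.ρ_mem h1.1, mem_cent1.2 h3⟩
    (by rw [orderOf_conj]; exact odd_of_mem (odd_O _) hb.1), mem_cent1.2 h2⟩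

theorem mem_norm_B : ρ ∈ 𝐍(𝓤 ⊓ 𝐂[s]) := mem_norm_of_conj_mem fun _ => h.conj_mem_B

/-- fusion of the elements of `U` -/
theorem stable (hφ : φ ∈ CF 𝓗) (hρ : ∀ b ∈ 𝓤 ⊓ 𝐂[s], φ (ρ * b * ρ⁻¹) = φ b) (hu : u ∈ 𝓤)
    (hg : g ∈ X) (hv : g * u * g⁻¹ ∈ 𝓤) : φ (g * u * g⁻¹) = φ u := by
  have p := h.pair
  have hu' := p.sd.left_le hu
  have hv' := p.sd.left_le hv
  have h1 : ∀ a : G, a * a = 1 → IsPGroup 2 (zpowers a) := fun a ha =>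
    abelem_isPGroup (abelem_zpowers (by rw [pow_two, ha]))
  obtain ⟨P, hP, h2⟩ := exists_syl_ge (M := X ⊓ 𝐂[g * u * g⁻¹])
    (zpowers_le.2 ⟨h.t_mem, mem_cent1.2 (mem_cent1.1 hv'.2).symm⟩) (h1 t h.t_sq)
  obtain ⟨c, hc, h3⟩ := hP.exists_conj_le (zpowers_le.2 ⟨conj_mem_of_mem hg h.t_mem, mem_cent1.2
    ((show Commute t u from (mem_cent1.1 hu'.2).symm).map (MulAut.conj g))⟩) (h1 _ (conj_sq h.t_sq g))
  obtain ⟨k, hk⟩ : ∃ k, k = c * g := ⟨_, rfl⟩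
  have hkX : k ∈ X := hk ▸ mul_mem hc.1 hg
  have h4 : g * u * g⁻¹ = k * u * k⁻¹ := by rw [← mem_cent1_iff_conj.1 hc.2, hk]; group
  have h5 : Commute (k * t * k⁻¹) t := by
    have := ab_iff.1 (p.ab_of_two P (hP.le.trans inf_le_left) hP.isPGroup) _
      (h3 (conj_mem_conj (mem_zpowers _))) _ (h2 (mem_zpowers t))
    rwa [show c * (g * t * g⁻¹) * c⁻¹ = k * t * k⁻¹ by rw [hk]; group] at this
  rw [h4] at hv' ⊢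
  by_cases h6 : k * t * k⁻¹ = t
  · exact cfunJ hφ ⟨hkX, mem_cent1_iff_conj.2 h6⟩ u
  have h7 : Commute (k⁻¹ * t * k⁻¹⁻¹) t := by
    simpa [mul_assoc] using (h5.map (MulAut.conj k⁻¹)).symm
  obtain ⟨x, hx, e1⟩ := p.exists_pair ⟨conj_mem_of_mem hkX h.t_mem, mem_cent1.2 h5⟩
    (conj_ne_one.2 h.t_ne) (conj_sq h.t_sq k) h6
  obtain ⟨y, hy, e2⟩ := p.exists_pair ⟨conj_mem_of_mem (inv_mem hkX) h.t_mem, mem_cent1.2 h7⟩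
    (conj_ne_one.2 h.t_ne) (conj_sq h.t_sq k⁻¹) fun e => h6 (by nth_rewrite 1 [← e]; group)
  have h8 : x * k * y⁻¹ ∈ 𝐍(S4 t s) := conj_eq_self_iff.1 (by
    nth_rewrite 1 [← e2]
    rw [conj_conj, inv_mul_cancel_right, ← conj_conj, conj_S4, S4_comm, ← e1]
    congr 2; group)
  have h9 : y * u * y⁻¹ ∈ 𝓤 ⊓ 𝐂[s] := ⟨p.sd.normal.conj_mem hy hu, by
    have : y * u * y⁻¹ ∈ 𝐂(S4 t s) := by
      rw [← e2, cent_conj, cent_S4]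
      refine conj_mem_conj ⟨hu'.2, mem_cent1.2 ?_⟩
      simpa [mul_assoc] using ((show Commute _ t from mem_cent1.1 hv'.2).map (MulAut.conj k⁻¹)).eq
    exact (cent_S4 t s ▸ this).2⟩
  have h10 : ∀ a ∈ X, a ∈ 𝐍(𝓤 ⊓ 𝐂[s]) → (∀ b ∈ 𝓤 ⊓ 𝐂[s], φ (a * b * a⁻¹) = φ b) →
      a ∈ inertia X (cfRes (𝓤 ⊓ 𝐂[s]) φ) := fun a ha hn e => mem_inertia_of ha fun b => by
    by_cases hb : b ∈ 𝓤 ⊓ 𝐂[s]
    · rw [cfResE _ hb, cfResE _ (conj_mem_of_norm hn hb), e b hb]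
    · rw [cfRes_of_not_mem _ hb, cfRes_of_not_mem _ (mt (mem_norm_iff.1 hn b).2 hb)]
  have h11 := inertia_valJ ((h.norm_le.trans (sup_le (fun a ha => h10 a ha.1.1
    (mem_norm_inf (p.sd.normal.norm ha.1) (le_normalizer ha.2)) fun b _ => cfunJ hφ ha.1 b)
    (zpowers_le.2 (h10 ρ h.ρ_mem h.mem_norm_B hρ))))
    ⟨mul_mem (mul_mem hx.1 hkX) (X.inv_mem hy.1), h8⟩) (y * u * y⁻¹)
  rw [cfResE _ h9, cfResE _ (conj_mem_of_norm (sup_le (fun a ha =>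
    mem_norm_inf (p.sd.normal.norm ha.1) (le_normalizer ha.2)) (zpowers_le.2 h.mem_norm_B)
    (h.norm_le ⟨mul_mem (mul_mem hx.1 hkX) (X.inv_mem hy.1), h8⟩)) h9), cfunJ hφ hy] at h11
  rw [← h11, ← cfunJ hφ hx]
  congr 1; group

open Classical in
theorem col (hβ : IsLinChar 𝓤 β) (hβ' : β ∈ CF 𝓗) :
    ((Irr X).filter fun χ => ⟪tr t χ, β⟫[𝓤] ≠ 0).card = 4 ∧
    (∀ χ, IsIrr X χ → ⟪tr t χ, β⟫[𝓤] ≠ 0 → ⟪tr t χ, β⟫[𝓤] = 1 ∨ ⟪tr t χ, β⟫[𝓤] = -1) ∧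
    ∑ χ ∈ Irr X, ⟪tr t χ, β⟫[𝓤] * χ 1 = 0 := by
  have p := h.pair
  have h1 : β ∈ CFon 𝓗 𝓤 := ⟨hβ', hβ.mem_CF.1⟩
  have h2 := p.colf_vchar hβ' (irr_vchar hβ.isIrr)
  obtain ⟨h3, h4⟩ := norm_four h2 (by rw [p.colf_dot h1 h1, cfdot_irr_self hβ.isIrr, mul_one])
    (p.colf_one h1.2)
  refine ⟨(congrArg _ (Finset.filter_congr fun χ hχ => ?_)).trans h3, fun χ hχ => ?_, ?_⟩
  · rw [p.cfdot_colf h1 (mem_Irr.1 hχ).mem_CF]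
  · exact p.cfdot_colf h1 hχ.mem_CF ▸ h4 χ hχ
  · rw [← p.colf_one h1.2, cfun_apply_sum_cfdot (vchar_mem_CF h2)]
    exact Finset.sum_congr rfl fun χ hχ => by
      rw [cfdot_vchar_comm h2 (irr_vchar (mem_Irr.1 hχ)), p.cfdot_colf h1 (mem_Irr.1 hχ).mem_CF]

/-- the column of a stable linear character -/
theorem col_stable (hβ : IsLinChar 𝓤 β) (hβ' : β ∈ CF 𝓗)
    (hρ : ∀ b ∈ 𝓤 ⊓ 𝐂[s], β (ρ * b * ρ⁻¹) = β b) : ∃ (T : Finset (G → ℂ)) (y : (G → ℂ) → ℤ),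
      T.card = 4 ∧ (∀ χ, IsIrr X χ → ⟪tr t χ, β⟫[𝓤] ≠ 0 → χ ∈ T) ∧
      (∀ χ ∈ T, IsIrr X χ ∧ y χ % 4 = 1 ∧ y χ = χ t * χ 1 ∧ (χ t = 1 ∨ χ t = -1) ∧
        ∀ u ∈ 𝓤, χ (t * u) = χ t * β u) ∧ ∑ χ ∈ T, y χ = 0 ∧
      nI X t * ∑ χ ∈ T, (y χ : ℚ)⁻¹ = 8 * kI X t s ^ 2 := by
  classical
  obtain ⟨h1, h2, h3⟩ := h.col hβ hβ'
  have h4 := h.order_eq hβ hβ'
  set T := (Irr X).filter fun χ => ⟪tr t χ, β⟫[𝓤] ≠ 0
  have h5 : ∀ χ ∈ T, ∀ u ∈ 𝓤, χ (t * u) = ⟪tr t χ, β⟫[𝓤] * β u := fun χ hχ u hu => by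
    obtain ⟨c1, c2⟩ := Finset.mem_filter.1 hχ
    simpa using apply_eq_sum (k := 1) h.t_mem (by rw [pow_one, pow_two, h.t_sq]) h.pair.reg
      (S := {β}) (by simpa) (fun _ hy _ hg e => by simpa using h.stable hβ' hρ hy hg e)
      (mem_Irr.1 c1) (Finset.mem_singleton_self β) c2 hu
  have h6 : ∀ χ ∈ T, ⟪tr t χ, β⟫[𝓤] = χ t := fun χ hχ => by
    simpa [hβ.one] using (h5 χ hχ 1 (one_mem _)).symm
  have h7 : ∀ χ ∈ T, χ t = 1 ∨ χ t = -1 := fun χ hχ =>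
    h6 χ hχ ▸ h2 χ (mem_Irr.1 (Finset.mem_filter.1 hχ).1) (Finset.mem_filter.1 hχ).2
  have h8 : ∀ χ ∈ T, ∃ y : ℤ, y % 4 = 1 ∧ y = χ t * χ 1 := fun χ hχ => by
    obtain ⟨m, hm⟩ := h.mod_four (mem_Irr.1 (Finset.mem_filter.1 hχ).1).isChar
    rcases h7 χ hχ with e | e <;> rw [e] at hm ⊢
    · exact ⟨4 * m - 3, by omega, by push_cast; linear_combination -hm⟩
    · exact ⟨-4 * m - 3, by omega, by push_cast; linear_combination hm⟩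
  choose! y hy using h8
  rw [← Finset.sum_filter_of_ne (p := fun χ => ⟪tr t χ, β⟫[𝓤] ≠ 0) fun χ _ => left_ne_zero_of_mul]
    at h3 h4
  refine ⟨T, y, h1, fun χ c1 c2 => Finset.mem_filter.2 ⟨mem_Irr.2 c1, c2⟩, fun χ hχ =>
    ⟨mem_Irr.1 (Finset.mem_filter.1 hχ).1, (hy χ hχ).1, (hy χ hχ).2, h7 χ hχ,
      h6 χ hχ ▸ h5 χ hχ⟩, ?_, ?_⟩
  · rw [Finset.sum_congr rfl fun χ hχ => by rw [h6 χ hχ, ← (hy χ hχ).2]] at h3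
    exact_mod_cast h3
  · rw [Finset.sum_congr rfl (g := fun χ => (y χ : ℂ)⁻¹) fun χ hχ => by
      rw [h6 χ hχ, (hy χ hχ).2]
      rcases h7 χ hχ with e | e <;> simp [e]] at h4
    exact Rat.cast_injective (α := ℂ) (by push_cast; exact h4)

end V4

end Cfsg.Agent.GW
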