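import Cfsg.Agent.Lib.OO.Basic

/-!
# Groups with Sylow 2-subgroups of order 4: the character theoretic input
-/

set_option autoImplicit false

namespace Cfsg.Agent.GW

open Subgroup Cfsg.Agent.OO
open scoped commutatorElement

universe u

variable {G : Type u} [Group G]

/-- `{1, t, s, t s}` is a Sylow 2-subgroup of `X` whose involutions are permuted by `ρ ∈ X` -/
structure V4 (X : Subgroup G) (t s ρ : G) : Prop where
  t_mem : t ∈ X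
  ρ_mem : ρ ∈ X
  t_ne : t ≠ 1
  t_sq : t * t = 1
  comm : Commute t s
  ρt : ρ * t * ρ⁻¹ = s
  ρs : ρ * s * ρ⁻¹ = t * s
  not_dvd : ¬ 8 ∣ ♯X

/-- the number of involutions of `X` -/
noncomputable abbrev nI (X : Subgroup G) (t : G) : ℕ := (𝐂[t]).relIndex X

/-- `k = |C_X(t) : C_X(S)|` -/
noncomputable abbrev kI (X : Subgroup G) (t s : G) : ℕ := (𝐂[s]).relIndex (X ⊓ 𝐂[t])

/-- the order formula from the principal block: `3 / 8 ≤ γ`, and `5 / 7 ≤ γ ≤ 15 / 8` for perfect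
groups, where `γ = n / (8 k ^ 2)` -/
def CharO : Prop := ∀ (G : Type u) [Group G] [Finite G] (X : Subgroup G) (t s ρ : G), V4 X t s ρ →
  3 * kI X t s ^ 2 ≤ nI X t ∧
    (⁅X, X⁆ = X → 40 * kI X t s ^ 2 ≤ 7 * nI X t ∧ nI X t ≤ 15 * kI X t s ^ 2)

/-- no nontrivial linear character of `U = O(C(t))` is trivial on `[U, s]` and `ρ`-invariant on
`B = C_U(s)` -/
def CharA : Prop := ∀ (G : Type u) [Group G] [Finite G] (t s ρ : G), IsSimpleGroup G → V4 ⊤ t s ρ →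
  IsCoatom 𝐂[t] → ∀ N : Subgroup G, N ⊴ Op' 2 𝐂[t] → ⁅Op' 2 𝐂[t], zpowers s⁆ ≤ N →
    (∀ b ∈ Op' 2 𝐂[t] ⊓ 𝐂[s], ⁅b, ρ⁆ ∈ N) → N = Op' 2 𝐂[t]

/-- if `[U, s]` is abelian then `C_U(s) = 1` -/
def CharB : Prop := ∀ (G : Type u) [Group G] [Finite G] (t s ρ : G), IsSimpleGroup G → V4 ⊤ t s ρ →
  IsCoatom 𝐂[t] → Ab ⁅Op' 2 𝐂[t], zpowers s⁆ → Op' 2 𝐂[t] ⊓ 𝐂[s] = ⊥

end Cfsg.Agent.GW
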