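import Cfsg.Agent.Lib.Lin.SL2
import Cfsg.Agent.Lib.OO.BG2
import Cfsg.Agent.S4357

/-!
# Odd order subgroups of `SL(2, F)`
-/

set_option autoImplicit false

namespace Cfsg.Agent.GW.SL

open Subgroup Cfsg.Agent.OO Cfsg.Agent.Lin Matrix
open scoped MatrixGroups commutatorElement

variable {F : Type} [Field F] {x y v τ : SL(2, F)} {a c : F} {p : ℕ}

theorem det2 (x : SL(2, F)) : x.1 0 0 * x.1 1 1 - x.1 0 1 * x.1 1 0 = 1 := by
  rw [← det_fin_two, x.det_coe]

theorem coe_eq_neg (hx : x ∈ center SL(2, F)) (h1 : x ≠ 1) : x.1 = -1 := by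
  obtain ⟨r, h, hr⟩ := Matrix.SpecialLinearGroup.mem_center_iff.1 hx
  rcases sq_eq_one_iff.1 (by simpa using h : r ^ 2 = 1) with rfl | rfl
  · exact absurd (Subtype.ext (by simp [← hr])) h1
  · rw [← hr, map_neg, map_one]

/-- the centralizer of an element of order 4 is cyclic -/
theorem isCyclic_cent [Finite F] (h2 : (2 : F) ≠ 0) (hτ : τ.1 * τ.1 = -1) : IsCyclic 𝐂[τ] := by
  have hc : τ.1 ∉ Set.range (scalar (Fin 2)) := fun e => by
    have h1 := SL2.sq_eq_one_of_mem_center (SL2.mem_center_iff_scalar.2 e)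
    have h3 : τ.1 * τ.1 = 1 := by rw [← sq, ← Matrix.SpecialLinearGroup.coe_pow, h1]; rfl
    have := congrFun (congrFun (hτ.symm.trans h3) 0) 0
    simp at this
    exact h2 (by linear_combination -this)
  have ht : τ.1.trace = 0 := by
    by_contra h0
    have h3 := SL2.mul_self τ
    rw [hτ, eq_sub_iff_add_eq, neg_add_cancel, eq_comm, smul_eq_zero] at h3
    exact hc ⟨0, by rw [h3.resolve_left h0, map_zero]⟩
  obtain ⟨i, hi⟩ := IsAlgClosed.exists_pow_nat_eq (-1 : AlgebraicClosure F) two_pos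
  have key : ∀ k l : F, (k • (1 : Matrix (Fin 2) (Fin 2) F) + l • τ.1).trace / 2 = k ∧
      -((k • (1 : Matrix (Fin 2) (Fin 2) F) + l • τ.1) * τ.1).trace / 2 = l := fun k l => by
    simp only [add_mul, smul_mul_assoc, one_mul, hτ, trace_add, trace_smul, ht, trace_neg, trace_one]
    constructor <;> simp <;> field_simp
  have ex : ∀ x : 𝐂[τ], ∃ k l : F, x.1.1 = k • 1 + l • τ.1 := fun x =>
    exists_of_commute_two hc (congrArg Subtype.val (mem_cent1 (g := x.1) (x := τ).1 x.2))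
  let φ : Matrix (Fin 2) (Fin 2) F → AlgebraicClosure F := fun m =>
    algebraMap F _ (m.trace / 2) + algebraMap F _ (-(m * τ.1).trace / 2) * i
  have hφ : ∀ k l : F, φ (k • 1 + l • τ.1) = algebraMap F _ k + algebraMap F _ l * i := fun k l => by
    simp only [φ, (key k l).1, (key k l).2]
  refine isCyclic_of_injective_ringHom (R := AlgebraicClosure F)
    ⟨⟨fun x => φ x.1.1, by simpa using hφ 1 0⟩, fun x y => ?_⟩ ((injective_iff_map_eq_one _).2 ?_)
  · obtain ⟨k, l, hx⟩ := ex x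
    obtain ⟨k', l', hy⟩ := ex y
    have : (x * y).1.1 = (k * k' - l * l') • 1 + (k * l' + l * k') • τ.1 := by
      change x.1.1 * y.1.1 = _
      simp only [hx, hy, add_mul, mul_add, smul_mul_smul_comm, one_mul, mul_one, hτ]
      module
    simp only [this, hx, hy, hφ, map_add, map_sub, map_mul]
    linear_combination (-(algebraMap F _ l * algebraMap F _ l')) * hi
  · intro x h
    obtain ⟨k, l, hx⟩ := ex x
    have h1 := det2 x.1
    have h3 := det2 τ
    rw [trace_fin_two] at ht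
    simp only [MonoidHom.coe_mk, OneHom.coe_mk, hx, hφ] at h
    simp [hx] at h1
    have h4 : k ^ 2 + l ^ 2 = 1 := by linear_combination h1 - l ^ 2 * h3 - k * l * ht
    have h5 := congrArg (algebraMap F (AlgebraicClosure F)) h4
    simp only [map_add, map_pow, map_one] at h5
    have h6 : k = 1 := mul_left_cancel₀ h2 ((algebraMap F (AlgebraicClosure F)).injective (by
      simp only [map_mul, map_one, map_ofNat]
      linear_combination h + h5 - (algebraMap F _ k - algebraMap F _ l * i) * h -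
        algebraMap F _ l ^ 2 * hi))
    obtain rfl : l = 0 := by simpa [h6] using h4
    exact Subtype.ext (Subtype.ext (by simp [hx, h6]))

/-- `y` stabilizes the line through `(a, c)` -/
def St (y : SL(2, F)) (a c : F) : Prop :=
  (y.1 0 0 * a + y.1 0 1 * c) * c = (y.1 1 0 * a + y.1 1 1 * c) * a

theorem exists_St (h : (x.1 * y.1 - y.1 * x.1).det = 0) (hn : ¬ Commute x y) :
    ∃ a c, ¬ (a = 0 ∧ c = 0) ∧ St x a c ∧ St y a c := by
  obtain ⟨D, hD⟩ : ∃ D, D = x.1 * y.1 - y.1 * x.1 := ⟨_, rfl⟩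
  have e : ∀ i j, D i j = x.1 i 0 * y.1 0 j + x.1 i 1 * y.1 1 j -
      (y.1 i 0 * x.1 0 j + y.1 i 1 * x.1 1 j) := fun i j => by simp [hD, mul_apply]
  rw [← hD, det_fin_two] at h
  have h1 : D 1 1 = -D 0 0 := by rw [e, e]; ring
  have h2 : x.1 0 0 * D 0 0 + x.1 0 1 * D 1 0 + x.1 1 0 * D 0 1 - x.1 1 1 * D 0 0 = 0 := by
    simp only [e]; ring
  have h3 : y.1 0 0 * D 0 0 + y.1 0 1 * D 1 0 + y.1 1 0 * D 0 1 - y.1 1 1 * D 0 0 = 0 := by
    simp only [e]; ring
  rw [h1] at h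
  by_cases h0 : D 0 0 = 0 ∧ D 1 0 = 0
  · have h4 : D 0 1 ≠ 0 := fun h4 => hn (Subtype.ext (sub_eq_zero.1 (hD.symm.trans (by
      ext i j; fin_cases i <;> fin_cases j <;> simp [h0.1, h0.2, h1, h4]))))
    simp only [h0.1, h0.2, mul_zero, zero_add, sub_zero, mul_eq_zero, h4, or_false] at h2 h3
    exact ⟨1, 0, by simp, by simp [St, h2], by simp [St, h3]⟩
  · exact ⟨D 0 0, D 1 0, h0, by rw [St]; linear_combination D 1 0 * h2 + x.1 1 0 * h,
      by rw [St]; linear_combination D 1 0 * h3 + y.1 1 0 * h⟩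

theorem St.of_par {a' c' : F} (h : St y a c) (h0 : ¬ (a = 0 ∧ c = 0)) (hp : a * c' = c * a') :
    St y a' c' := by
  rw [St] at h ⊢
  by_cases ha : a = 0
  · have hc : c ≠ 0 := fun e => h0 ⟨ha, e⟩
    refine mul_left_cancel₀ (pow_ne_zero 2 hc) ?_
    linear_combination c' ^ 2 * h - ((y.1 0 0 - y.1 1 1) * c * c' - y.1 1 0 * (a * c' + c * a')) * hp
  · refine mul_left_cancel₀ (pow_ne_zero 2 ha) ?_
    linear_combination a' ^ 2 * h + ((y.1 0 0 - y.1 1 1) * a * a' + y.1 0 1 * (a * c' + c * a')) * hp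

theorem two_lines (hv : v ∉ center SL(2, F)) : ∃ a₁ c₁ a₂ c₂ : F, ¬ (a₁ = 0 ∧ c₁ = 0) ∧
    ¬ (a₂ = 0 ∧ c₂ = 0) ∧ ∀ a c, ¬ (a = 0 ∧ c = 0) → St v a c → a * c₁ = c * a₁ ∨ a * c₂ = c * a₂ := by
  by_cases h : ∃ a c, ¬ (a = 0 ∧ c = 0) ∧ St v a c
  swap
  · exact ⟨1, 0, 1, 0, by simp, by simp, fun a c h1 h2 => absurd ⟨a, c, h1, h2⟩ h⟩
  obtain ⟨a₁, c₁, h0, h⟩ := h
  obtain ⟨α, β, h1, h2, h3⟩ : ∃ α β : F, v.1 1 0 = -α * c₁ ∧ v.1 0 0 - v.1 1 1 = β * c₁ - α * a₁ ∧
      v.1 0 1 = -β * a₁ := by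
    rw [St] at h
    by_cases hc : c₁ = 0
    · have ha : a₁ ≠ 0 := fun e => h0 ⟨e, hc⟩
      refine ⟨-(v.1 0 0 - v.1 1 1) / a₁, -v.1 0 1 / a₁, ?_, ?_, ?_⟩
      · simpa [hc, ha] using h
      · rw [hc]; field_simp; ring
      · field_simp
    · refine ⟨-v.1 1 0 / c₁, (v.1 0 0 - v.1 1 1 - v.1 1 0 / c₁ * a₁) / c₁, ?_, ?_, ?_⟩ <;> field_simp
      · ring
      · linear_combination h
  refine ⟨a₁, c₁, β, -α, h0, fun e => hv (SL2.mem_center_iff_scalar.2 (mem_range_scalar_two_iff.2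
    ⟨by simp [h3, e.1], by simp [h1, neg_eq_zero.1 e.2], sub_eq_zero.1 (by
      simp [h2, e.1, neg_eq_zero.1 e.2])⟩)), fun a c _ e => ?_⟩
  rw [St] at e
  rw [← sub_eq_zero, ← sub_eq_zero (a := a * -α), ← mul_eq_zero]
  linear_combination -e + a * c * h2 - a ^ 2 * h1 + c ^ 2 * h3

theorem pow_upper (h : y.1 1 0 = 0) (n : ℕ) : (y ^ n).1 1 0 = 0 ∧ (y ^ n).1 0 0 = y.1 0 0 ^ n := by
  induction n with
  | zero => simp
  | succ n ih =>
    rw [pow_succ, Matrix.SpecialLinearGroup.coe_mul]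
    simp only [mul_apply, Fin.sum_univ_two, ih.1, ih.2, h, pow_succ]
    simp

variable [Fintype F]

theorem not_mem_center (hp : p.Prime) (h2 : p ≠ 2) (hy : orderOf y = p) : y ∉ center SL(2, F) :=
  fun e => h2 ((Nat.prime_dvd_prime_iff_eq hp Nat.prime_two).1
    (hy ▸ orderOf_dvd_of_pow_eq_one (SL2.sq_eq_one_of_mem_center e)))

theorem ncard_upper (hq : Odd (Fintype.card F)) (hp : p.Prime) (h2 : p ≠ 2)
    (hc : p.Coprime (Fintype.card F)) :
    {y : SL(2, F) | y.1 1 0 = 0 ∧ orderOf y = p}.ncard ≤ (p - 1) * Fintype.card F := by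
  classical
  have h1 : ((Polynomial.nthRootsFinset p (1 : F)).erase 1).card ≤ p - 1 := by
    rw [Finset.card_erase_of_mem ((Polynomial.mem_nthRootsFinset hp.pos 1).2 (one_pow p))]
    exact Nat.sub_le_sub_right ((Multiset.toFinset_card_le _).trans (Polynomial.card_nthRoots p 1)) 1
  refine le_trans (Set.ncard_le_ncard_of_injOn (t := ↑(((Polynomial.nthRootsFinset p (1 : F)).erase 1)
    ×ˢ (Finset.univ : Finset F))) (fun y => (y.1 0 0, y.1 0 1)) ?_ ?_) ?_
  · rintro y ⟨h, ho⟩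
    simp only [Finset.coe_product, Finset.coe_univ, Set.mem_prod, Set.mem_univ, and_true,
      Finset.mem_coe, Finset.mem_erase, Polynomial.mem_nthRootsFinset hp.pos]
    refine ⟨fun e => (S4357.card_centralizer hq (not_mem_center hp h2 ho) (ho ▸ hc)).1 ?_, ?_⟩
    · have := det2 y
      rw [e, h] at this
      rw [trace_fin_two, e]
      linear_combination (y.1 1 1 + 3) * this
    · rw [← (pow_upper h p).2, ← ho, pow_orderOf_eq_one]; simp
  · rintro y ⟨h, -⟩ z ⟨h', -⟩ e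
    simp only [Prod.mk.injEq] at e
    have k1 := det2 y
    have k2 := det2 z
    rw [h] at k1
    rw [h'] at k2
    ext i j
    fin_cases i <;> fin_cases j
    exacts [e.1, e.2, h.trans h'.symm, by
      change y.1 1 1 = z.1 1 1
      linear_combination z.1 1 1 * k1 - y.1 1 1 * k2 - y.1 1 1 * z.1 1 1 * e.1]
  · rw [Set.ncard_coe_finset, Finset.card_product, Finset.card_univ]
    exact Nat.mul_le_mul_right _ h1

theorem ncard_St (hq : Odd (Fintype.card F)) (hp : p.Prime) (h2 : p ≠ 2)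
    (hc : p.Coprime (Fintype.card F)) (h0 : ¬ (a = 0 ∧ c = 0)) :
    {y : SL(2, F) | St y a c ∧ orderOf y = p}.ncard ≤ (p - 1) * Fintype.card F := by
  obtain ⟨b, d, h⟩ : ∃ b d : F, a * d - b * c = 1 := by
    by_cases ha : a = 0
    · exact ⟨-c⁻¹, 0, by simp [inv_mul_cancel₀ fun e => h0 ⟨ha, e⟩]⟩
    · exact ⟨0, a⁻¹, by simp [ha]⟩
  let g : SL(2, F) := ⟨!![a, b; c, d], by rw [det_fin_two_of, h]⟩
  refine le_trans (Set.ncard_le_ncard_of_injOn (fun y => g⁻¹ * y * g) ?_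
    fun y _ z _ e => by simpa using e) (ncard_upper hq hp h2 hc)
  rintro y ⟨h1, h3⟩
  refine ⟨?_, by rwa [orderOf_conj']⟩
  rw [St] at h1
  rw [Matrix.SpecialLinearGroup.coe_mul, Matrix.SpecialLinearGroup.coe_mul,
    Matrix.SpecialLinearGroup.coe_inv]
  simp [g, mul_apply, adjugate_fin_two, vecMul, dotProduct]
  linear_combination -h1

theorem det_eq_zero (h : Odd ♯(zpowers x ⊔ zpowers y)) : (x.1 * y.1 - y.1 * x.1).det = 0 := by
  obtain ⟨n, hp, -⟩ := FiniteField.card F (ringChar F)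
  have := Fact.mk hp
  obtain ⟨P, hP, -, h1⟩ := charf_GL2_der_subS_abelian_Sylow (p := ringChar F)
    ((Matrix.toLinAlgEquiv' (R := F) (n := Fin 2)).toMonoidHom.comp
      ((Matrix.SpecialLinearGroup.coeMonoidHom).comp (zpowers x ⊔ zpowers y).subtype))
    (by simp) h (by
      rw [rker, (MonoidHom.ker_eq_bot_iff _).2, Subgroup.map_bot]
      exact (Matrix.toLinAlgEquiv' (R := F) (n := Fin 2)).injective.comp
        (Subtype.val_injective.comp Subtype.val_injective))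
  obtain ⟨k, hk⟩ := hP.isPGroup ⟨_, h1 (commutator_mem_commutator (mem_sup_left (mem_zpowers x))
    (mem_sup_right (mem_zpowers y)))⟩
  have h2 : ⁅x, y⁆.1 ^ ringChar F ^ k = 1 := congrArg (·.1.1) hk
  have h3 : (⁅x, y⁆.1 - 1).det = 0 := eq_zero_of_pow_eq_zero (n := ringChar F ^ k) (by
    rw [← det_pow, sub_pow_char_pow_of_commute _ _ (Commute.one_right _), h2, one_pow, sub_self,
      det_zero])
  have h4 : ⁅x, y⁆.1 * (y.1 * x.1) = x.1 * y.1 :=
    congrArg Subtype.val (show ⁅x, y⁆ * (y * x) = x * y by rw [commutatorElement_def]; group)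
  rw [← h4, ← sub_one_mul, det_mul, h3, zero_mul]

theorem ncard_le (hq : Odd (Fintype.card F)) (hp : p.Prime) (h2 : p ≠ 2) (hτ : τ.1 * τ.1 = -1)
    (hv : orderOf v = p) (hc : Commute v τ) :
    {y : SL(2, F) | orderOf y = p ∧ Odd ♯(zpowers v ⊔ zpowers y)}.ncard ≤
      (p - 1) * (2 * Fintype.card F + 1) := by
  classical
  have h0 := S4357.two_ne_zero' hq
  have hvc := not_mem_center hp h2 hv
  have ht : τ.1.trace ^ 2 ≠ 4 := fun e => by
    obtain ⟨n, hp, hn⟩ := FiniteField.card F (ringChar F)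
    have h3 := congrArg Subtype.val (SL2.pow_eq_one_of_trace (ringChar F) e)
    rw [Matrix.SpecialLinearGroup.coe_pow, pow_mul, sq, hτ,
      (hq.of_dvd_nat (hn ▸ dvd_pow_self _ n.ne_zero)).neg_one_pow] at h3
    have := congrFun (congrFun h3 0) 0
    simp at this
    exact h0 (by linear_combination -this)
  have hcop : p.Coprime (Fintype.card F) := by
    have h3 := hv ▸ OO.orderOf_dvd_card (mem_cent1.2 hc)
    rcases SL2.card_centralizer h0 ht with e | e <;> rw [e] at h3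
    · exact Nat.Coprime.coprime_dvd_left h3 ((Nat.coprime_self_sub_left Fintype.card_pos).2 (by simp))
    · exact Nat.Coprime.coprime_dvd_left h3 (by simp)
  have hcyc : IsCyclic 𝐂[v] :=
    SL2.centralizer_eq hvc (SL2.notMem_center_of_trace ht) hc ▸ isCyclic_cent h0 hτ
  obtain ⟨a₁, c₁, a₂, c₂, k1, k2, k3⟩ := two_lines hvc
  have h3 : {y : SL(2, F) | orderOf y = p ∧ Odd ♯(zpowers v ⊔ zpowers y)} ⊆ sharp (zpowers v) ∪
      ({y | St y a₁ c₁ ∧ orderOf y = p} ∪ {y | St y a₂ c₂ ∧ orderOf y = p}) := by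
    rintro y ⟨h4, h5⟩
    by_cases h6 : Commute v y
    · refine .inl ⟨?_, fun e => hp.one_lt.ne (by rw [← h4, e, orderOf_one])⟩
      rw [eq_of_isCyclic_of_card_eq hcyc (zpowers_le.2 (mem_cent1_self v)) (zpowers_le.2
        (mem_cent1.2 h6.symm)) (by rw [Nat.card_zpowers, Nat.card_zpowers, hv, h4])]
      exact mem_zpowers y
    · obtain ⟨a, c, h7, h8, h9⟩ := exists_St (det_eq_zero h5) h6
      exact .inr ((k3 a c h7 h8).imp (fun e => ⟨h9.of_par h7 e, h4⟩) fun e => ⟨h9.of_par h7 e, h4⟩)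
  refine (Set.ncard_le_ncard h3).trans ((Set.ncard_union_le _ _).trans ((Nat.add_le_add le_rfl
    ((Set.ncard_union_le _ _).trans (Nat.add_le_add (ncard_St hq hp h2 hcop k1)
      (ncard_St hq hp h2 hcop k2)))).trans (le_of_eq ?_)))
  rw [ncard_sharp, Nat.card_zpowers, hv]
  ring

end Cfsg.Agent.GW.SL
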