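import Cfsg.Agent.Lib.GW.Basic
import Cfsg.Agent.Lib.GW.SL

/-!
# The properties of `PSL(2, r)` used inductively, and counting lemmas
-/

set_option autoImplicit false

namespace Cfsg.Agent.GW

open Subgroup Cfsg.Agent.OO Cfsg.Agent.Coprime
open scoped commutatorElement Pointwise MatrixGroups

universe u

variable {G : Type u} [Group G] {X Y Q N L M Γ : Subgroup G} {t s ρ a x g w : G}

/-- no proper nontrivial normal subgroups -/
def Smp (L : Subgroup G) : Prop := ∀ N, N ⊴ L → N = ⊥ ∨ N = L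

/-- the properties of `PSL(2, r)` that are needed -/
structure Good (L : Subgroup G) : Prop where
  smp : Smp L
  perfect : der L = L
  ui : ∀ x ∈ L, Odd (orderOf x) → x ≠ 1 → ∀ a ∈ L ⊓ 𝐂[x], ∀ b ∈ L ⊓ 𝐂[x], a ≠ 1 → a * a = 1 →
    b ≠ 1 → b * b = 1 → a = b
  cyc : ∀ a ∈ L, a ≠ 1 → a * a = 1 → ∀ Q ≤ L ⊓ 𝐂[a], Odd ♯Q → IsCyclic Q
  yb : ∀ t s, Pair L t s → ∀ v ∈ L ⊓ 𝐂[t], ∀ p : ℕ, p.Prime → p ≠ 2 → orderOf v = p →
    {b | b ∈ L ∧ orderOf b = p ∧ Odd ♯(zpowers v ⊔ zpowers b)}.ncard ≤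
      (p - 1) * (2 * ♯(L ⊓ 𝐂[t]) + 3)

/-- the induction hypothesis -/
def IH (n : ℕ) : Prop := ∀ (G : Type u) [Group G] [Finite G] (L : Subgroup G), ♯L < n → Smp L →
  ¬ Ab L → ¬ 8 ∣ ♯L → Good L

theorem Smp.perfect (h : Smp L) (hn : ¬ Ab L) : der L = L :=
  (h _ (der_normal L)).resolve_left fun e => hn (ab_iff_der.2 e)

theorem smp_top [h : IsSimpleGroup G] : Smp (⊤ : Subgroup G) := fun N hN =>
  h.eq_bot_or_eq_top_of_normal N (normalIn_top.1 hN)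

theorem Smp.isSimpleGroup (h : Smp L) (h0 : L ≠ ⊥) : IsSimpleGroup L :=
  { toNontrivial := (nontrivial_iff_ne_bot L).2 h0
    eq_bot_or_eq_top_of_normal := fun N _ => (h _ (normalIn_map_subtype N)).imp
      (map_eq_bot_iff_of_injective _ L.subtype_injective).1 map_subtype_eq_self_iff.1 }

section SL

variable {F : Type} [Field F] [Fintype F] (f : SL(2, F) →* G) (hk : f.ker = center SL(2, F))
  {y τ : SL(2, F)}
include hk

theorem exists_lift (hx : x ∈ f.range) (ho : Odd (orderOf x)) :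
    ∃ y, f y = x ∧ orderOf y = orderOf x := by
  obtain ⟨y, rfl⟩ := hx
  have h1 := Lin.SL2.sq_eq_one_of_mem_center (hk.le (show f (y ^ orderOf (f y)) = 1 by
    rw [map_pow, pow_orderOf_eq_one]))
  have h2 : f (y ^ (orderOf (f y) + 1)) = f y := by rw [map_pow, pow_succ, pow_orderOf_eq_one, one_mul]
  refine ⟨_, h2, Nat.dvd_antisymm (orderOf_dvd_of_pow_eq_one ?_) ?_⟩
  · obtain ⟨k, hk⟩ := ho.add_one
    rw [← pow_mul, mul_comm, pow_mul, hk, ← two_mul, pow_mul, h1, one_pow]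
  · nth_rewrite 1 [← h2]; exact orderOf_map_dvd f _

theorem commute_of_map (ho : Odd (orderOf y)) (h : f τ ∈ 𝐂[f y]) : Commute τ y := by
  have h1 : τ * y * τ⁻¹ * y⁻¹ ∈ center SL(2, F) := hk.le (by
    simp [MonoidHom.mem_ker, mem_cent1_iff_conj.1 h])
  have h2 : Commute (τ * y * τ⁻¹) y⁻¹ := by
    have := mem_center_iff.1 h1 y
    refine Commute.inv_right (Commute.symm (mul_right_cancel (b := y⁻¹) ?_))
    rw [mul_assoc, this]; group
  have := eq_one_of_odd_of_sq (Odd.of_dvd_nat (by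
    rw [orderOf_conj, orderOf_inv]; exact ho.mul ho) h2.orderOf_mul_dvd_mul_orderOf)
    (by rw [← sq, Lin.SL2.sq_eq_one_of_mem_center h1])
  exact commutatorElement_eq_one_iff_commute.1 this

theorem coe_sq (hq : Odd (Fintype.card F)) (h1 : f τ ≠ 1) (h : f τ * f τ = 1) : τ.1 * τ.1 = -1 :=
  SL.coe_eq_neg (x := τ * τ) (hk.le (by rw [MonoidHom.mem_ker, map_mul, h])) fun e =>
    h1 (hk.ge (Lin.SL2.mem_center_of_sq_eq_one (S4357.two_ne_zero' hq) (by rw [sq, e])))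

variable [Finite G]

theorem odd_of_map {x : SL(2, F)} (h : Odd ♯(zpowers (f x) ⊔ zpowers (f y)))
    (h1 : Odd (orderOf x)) (h2 : Odd (orderOf y)) : Odd ♯(zpowers x ⊔ zpowers y) := by
  obtain ⟨P, hP⟩ := exists_syl 2 (zpowers x ⊔ zpowers y)
  rw [← MonoidHom.map_zpowers, ← MonoidHom.map_zpowers, ← Subgroup.map_sup] at h
  have h3 : P ≤ center SL(2, F) := hk ▸ (map_eq_bot_iff P).1 (PiGrp.eq_bot (hP.piGrp.map f)
    ((odd_iff.1 h).of_le (map_mono hP.le)))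
  have h4 := Burnside_normal_complement hP (le_cent_symm (h3.trans (center_le_centralizer _)))
  have h5 := (h4.hall_left (Op'_piGrp 2 _) hP.piGrp.compl_compl).le_of_normal_hall
    (K := zpowers x) h4.normal.norm le_sup_left (odd_iff.1 (by rwa [Nat.card_zpowers]))
  have h6 := (h4.hall_left (Op'_piGrp 2 _) hP.piGrp.compl_compl).le_of_normal_hall
    (K := zpowers y) h4.normal.norm le_sup_right (odd_iff.1 (by rwa [Nat.card_zpowers]))
  exact odd_of_le (odd_O _) (sup_le h5 h6)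

theorem good_of_hom (hq : Odd (Fintype.card F)) (h1 : Smp f.range) (h2 : ¬ Ab f.range) :
    Good f.range := by
  have h0 := S4357.two_ne_zero' hq
  refine ⟨h1, h1.perfect h2, ?_, ?_, ?_⟩
  · rintro x hx ho hx1 _ ⟨⟨a, rfl⟩, ha⟩ _ ⟨⟨b, rfl⟩, hb⟩ a1 a2 b1 b2
    obtain ⟨y, rfl, hy⟩ := exists_lift f hk hx ho
    have h3 := Lin.SL2.commute_of_commute (fun e => hx1 (hk.ge e)) (commute_of_map f hk (hy ▸ ho) ha)
      (commute_of_map f hk (hy ▸ ho) hb)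
    have h4 : a * a = b * b := Subtype.ext ((coe_sq f hk hq a1 a2).trans (coe_sq f hk hq b1 b2).symm)
    have h5 := hk.ge (Lin.SL2.mem_center_of_sq_eq_one h0 (x := a * b⁻¹) (by
      rw [h3.inv_right.mul_pow, inv_pow, sq, sq, h4, mul_inv_cancel]))
    rwa [MonoidHom.mem_ker, map_mul, map_inv, mul_inv_eq_one] at h5
  · rintro _ ⟨a, rfl⟩ a1 a2 Q hQ ho
    have := SL.isCyclic_cent h0 (coe_sq f hk hq a1 a2)
    refine isCyclic_of_le' (isCyclic_of_surjective _ (f.subgroupMap_surjective 𝐂[a])) fun x hx => ?_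
    obtain ⟨y, rfl, hy⟩ := exists_lift f hk (hQ hx).1 (odd_of_mem ho hx)
    exact mem_map_of_mem f (mem_cent1.2 (commute_of_map f hk (hy ▸ odd_of_mem ho hx)
      (mem_cent1_comm.1 (hQ hx).2)).symm)
  · rintro t s h v hv p hp hp2 hvp
    obtain ⟨τ, rfl⟩ := h.t_mem
    have ho := hp.odd_of_ne_two hp2
    have hτ := coe_sq f hk hq h.t_ne h.t_sq
    obtain ⟨y, rfl, hy⟩ := exists_lift f hk hv.1 (hvp ▸ ho)
    have h3 := SL.ncard_le hq hp hp2 hτ (hy.trans hvp)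
      (commute_of_map f hk (by rwa [hy, hvp]) (mem_cent1_comm.1 hv.2)).symm
    refine le_trans (Set.ncard_le_ncard (t := f '' _) ?_) ((Set.ncard_image_le).trans (h3.trans
      (Nat.mul_le_mul_left _ ?_)))
    · rintro b ⟨b1, b2, b3⟩
      obtain ⟨z, rfl, hz⟩ := exists_lift f hk b1 (b2 ▸ ho)
      exact ⟨z, ⟨hz.trans b2, odd_of_map f hk b3 (by rwa [hy, hvp]) (by rwa [hz, b2])⟩, rfl⟩
    have h4 : (𝐂[τ]).map f ≤ f.range ⊓ 𝐂[f τ] := by
      rintro _ ⟨z, hz, rfl⟩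
      exact ⟨⟨z, rfl⟩, mem_cent1.2 (by rw [← map_mul, mem_cent1.1 hz, map_mul])⟩
    have h5 : ((𝐂[τ]).map f).relIndex (f.range ⊓ 𝐂[f τ]) ≠ 1 := fun e => by
      have := SL.isCyclic_cent h0 hτ
      exact h.isEp.not_isCyclic le_rfl (isCyclic_of_le' (isCyclic_of_surjective _
        (f.subgroupMap_surjective 𝐂[τ])) (h.cent.le.trans (relIndex_eq_one.1 e)))
    have h6 := card_mul_relIndex h4
    have h7 := relIndex_pos ((𝐂[τ]).map f) (f.range ⊓ 𝐂[f τ])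
    have h8 := card_inf_mul_relIndex f.ker 𝐂[τ]
    have h9 := (card_le (inf_le_left : f.ker ⊓ 𝐂[τ] ≤ _)).trans (hk ▸ Lin.SL2.card_center_le)
    rw [relIndex_ker] at h8
    have h10 := (S4357.card_centralizer hq (x := τ) (fun e => h.t_ne (hk.ge e)) ?_).2
    · have h11 := Nat.mul_le_mul_right ♯((𝐂[τ]).map f) h9
      have h12 := Nat.mul_le_mul_left ♯((𝐂[τ]).map f) (show 2 ≤ _ by omega :
        2 ≤ ((𝐂[τ]).map f).relIndex (f.range ⊓ 𝐂[f τ]))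
      omega
    · refine Nat.Coprime.coprime_dvd_left (orderOf_dvd_of_pow_eq_one (n := 2 ^ 2) (Subtype.ext ?_))
        ((Nat.coprime_two_left.2 hq).pow_left 2)
      rw [Matrix.SpecialLinearGroup.coe_pow, sq, pow_mul, sq τ.1, hτ]
      simp

end SL

theorem good_of_equiv [Finite G] {F : Type} [Field F] [Fintype F] (hq : Odd (Fintype.card F))
    (e : L ≃* Matrix.ProjectiveSpecialLinearGroup (Fin 2) F) (h1 : Smp L) (h2 : ¬ Ab L) : Good L := by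
  have h3 : ((L.subtype.comp e.symm.toMonoidHom).comp (QuotientGroup.mk' _)).range = L := by
    rw [MonoidHom.range_comp, QuotientGroup.range_mk', ← MonoidHom.range_eq_map, MonoidHom.range_comp,
      MonoidHom.range_eq_top.2 e.symm.surjective, map_subtype_top]
  rw [← h3] at h1 h2 ⊢
  refine good_of_hom _ ?_ hq h1 h2
  rw [← MonoidHom.comap_ker, (MonoidHom.ker_eq_bot_iff (L.subtype.comp e.symm.toMonoidHom)).2
    (L.subtype_injective.comp e.symm.injective), MonoidHom.comap_bot, QuotientGroup.ker_mk']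

/-! ### counting -/

theorem ncard_image {α : Type*} (f : G → α)
    (h : ∀ x ∈ Γ, ∀ y ∈ Γ, f x = f y ↔ x⁻¹ * y ∈ N) : (f '' Γ).ncard = N.relIndex Γ := by
  refine (Nat.card_eq_of_bijective (α := Γ ⧸ N.subgroupOf Γ) (Quotient.lift
    (fun x => ⟨f x, x, x.2, rfl⟩) fun x y e => Subtype.ext ((h _ x.2 _ y.2).2
      ((QuotientGroup.leftRel_apply (s := N.subgroupOf Γ)).1 e))) ⟨?_, ?_⟩).symm
  · rintro ⟨x⟩ ⟨y⟩ e
    exact Quotient.sound (QuotientGroup.leftRel_apply.2 ((h _ x.2 _ y.2).1 (congrArg Subtype.val e)))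
  · rintro ⟨_, x, hx, rfl⟩
    exact ⟨⟦⟨x, hx⟩⟧, rfl⟩

theorem ncard_conj (Γ : Subgroup G) (t : G) :
    ((fun x => x * t * x⁻¹) '' Γ).ncard = (𝐂[t]).relIndex Γ :=
  ncard_image _ fun x _ y _ => by
    rw [mem_cent1_iff_conj]
    exact ⟨fun e => by rw [mul_inv_rev, inv_inv, mul_assoc, mul_assoc, ← mul_assoc t, ← mul_assoc y,
      ← mul_assoc y, ← e]; group, fun e => by nth_rewrite 1 [← e]; group⟩

theorem ncard_mk (Γ N : Subgroup G) :
    ((QuotientGroup.mk : G → G ⧸ N) '' Γ).ncard = N.relIndex Γ :=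
  ncard_image _ fun _ _ _ _ => QuotientGroup.eq

variable [Finite G]

/-- counting cosets by the involutions fixing them -/
theorem count_le (hN : N ≤ Γ) (ht : t ∈ N)
    (h : ∀ g ∈ Γ ⊓ 𝐂[t], g ∉ N → ∀ x ∈ N, g⁻¹ * (x * t * x⁻¹) * g ∈ N → x * t * x⁻¹ = t) :
    (N.relIndex (Γ ⊓ 𝐂[t]) - 1) * nI N t < N.relIndex Γ := by
  choose! φ hφ using fun a (ha : a ∈ (fun x => x * t * x⁻¹) '' N) => ha
  have h1 : ((1 : G) : G ⧸ N) ∈ QuotientGroup.mk '' ((Γ ⊓ 𝐂[t] : Subgroup G) : Set G) :=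
    ⟨1, one_mem _, rfl⟩
  rw [← ncard_mk, ← ncard_mk, nI, ← ncard_conj, ← Set.ncard_sdiff_singleton_of_mem h1, ← Set.ncard_prod]
  refine (Set.ncard_le_ncard_of_injOn (fun z => φ z.2 • z.1) ?_ ?_).trans_lt
    (Set.ncard_sdiff_singleton_lt_of_mem (a := ((1 : G) : G ⧸ N)) ⟨1, one_mem _, rfl⟩)
  · rintro ⟨_, a⟩ ⟨⟨⟨g, hg, rfl⟩, h2⟩, ha⟩
    refine ⟨⟨_, mul_mem (hN (hφ a ha).1) hg.1, rfl⟩, fun e => h2 (QuotientGroup.eq.2 ?_)⟩
    simpa [mul_mem_cancel_right (inv_mem (hφ a ha).1)] using QuotientGroup.eq.1 e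
  · rintro ⟨_, a⟩ ⟨⟨⟨g, hg, rfl⟩, h2⟩, ha⟩ ⟨_, b⟩ ⟨⟨⟨g', hg', rfl⟩, -⟩, hb⟩ e
    have h3 : (φ a * g)⁻¹ * (φ b * g') ∈ N := QuotientGroup.eq.1 e
    have h4 := h g hg (fun e => h2 (QuotientGroup.eq.2 (by simpa using e))) _
      (mul_mem (inv_mem (hφ a ha).1) (hφ b hb).1) (by
        have := mul_mem (mul_mem h3 ht) (inv_mem h3)
        rwa [show (φ a * g)⁻¹ * (φ b * g') * t * ((φ a * g)⁻¹ * (φ b * g'))⁻¹ = g⁻¹ * ((φ a)⁻¹ * φ b *
          (g' * t * g'⁻¹) * ((φ a)⁻¹ * φ b)⁻¹) * g by group, mem_cent1_iff_conj.1 hg'.2] at this)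
    obtain rfl : a = b := by
      rw [← (hφ a ha).2, ← (hφ b hb).2]
      nth_rewrite 1 [← h4]
      group
    exact Prod.ext (smul_left_cancel _ e) rfl

theorem relIndex_mul_nI (hN : N ≤ Γ) (t : G) :
    N.relIndex Γ * nI N t = nI Γ t * N.relIndex (Γ ⊓ 𝐂[t]) := by
  have h1 := relIndex_mul_relIndex (𝐂[t] ⊓ N) N Γ inf_le_right hN
  have h2 := relIndex_mul_relIndex (𝐂[t] ⊓ N) (Γ ⊓ 𝐂[t]) Γ (le_inf (inf_le_right.trans hN) inf_le_left)
    inf_le_left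
  rw [inf_relIndex_right] at h1
  rw [inf_comm Γ, inf_relIndex_right, ← inf_relIndex_right (𝐂[t] ⊓ N), inf_right_comm, ← inf_assoc,
    inf_idem, inf_comm _ N, inf_relIndex_right, ← h1] at h2
  rw [mul_comm, ← h2, mul_comm, inf_comm]

theorem kI_eq (hN : N ≤ Γ) (h : Γ ⊓ 𝐂[t] ⊓ 𝐂[s] ≤ N) :
    kI Γ t s = N.relIndex (Γ ⊓ 𝐂[t]) * kI N t s := by
  have h1 := relIndex_mul_relIndex (Γ ⊓ 𝐂[t] ⊓ 𝐂[s]) (N ⊓ (Γ ⊓ 𝐂[t])) (Γ ⊓ 𝐂[t])
    (le_inf h inf_le_left) inf_le_right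
  rw [inf_relIndex_left, inf_relIndex_right, ← inf_assoc, inf_eq_left.2 hN,
    ← inf_relIndex_left (N ⊓ 𝐂[t]), ← inf_assoc, inf_eq_left.2 (inf_le_inf_right _ hN),
    inf_relIndex_left] at h1
  rw [mul_comm, h1]

/-- COUNT -/
theorem count (hN : N ≤ Γ) (ht : t ∈ N) (hc : Γ ⊓ 𝐂[t] ⊓ 𝐂[s] ≤ N)
    (h : ∀ g ∈ Γ ⊓ 𝐂[t], g ∉ N → ∀ x ∈ N, g⁻¹ * (x * t * x⁻¹) * g ∈ N → x * t * x⁻¹ = t)
    (h1 : nI Γ t ≤ 15 * kI Γ t s ^ 2) (h2 : 40 * kI N t s ^ 2 ≤ 7 * nI N t)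
    (h3 : N.relIndex (Γ ⊓ 𝐂[t]) ≤ kI N t s) : Γ ⊓ 𝐂[t] ≤ N := by
  by_contra h4
  have h5 := count_le hN ht h
  have h6 := relIndex_mul_nI hN t
  have h7 := relIndex_pos N (Γ ⊓ 𝐂[t])
  rw [← relIndex_eq_one] at h4
  rw [kI_eq hN hc] at h1
  generalize N.relIndex (Γ ⊓ 𝐂[t]) = m at *
  generalize kI N t s = k at *
  generalize nI N t = n at *
  obtain ⟨m, rfl⟩ : ∃ j, m = j + 2 := ⟨m - 2, by omega⟩
  obtain ⟨k, rfl⟩ := Nat.exists_eq_add_of_le h3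
  have h8 : (m + 1) * n * n ≤ 15 * ((m + 2) * (m + 2 + k)) ^ 2 * (m + 2) :=
    (Nat.mul_le_mul_right n h5.le).trans (h6.le.trans (Nat.mul_le_mul_right _ h1))
  have h9 : (m + 1) * (40 * (m + 2 + k) ^ 2) ^ 2 ≤ (m + 1) * (7 * n) ^ 2 := by gcongr
  have h10 : (m + 2) ^ 2 ≤ (m + 2 + k) ^ 2 := by gcongr
  have h11 : 0 < (m + 2 + k) ^ 2 := by positivity
  generalize hK : (m + 2 + k) ^ 2 = K at *
  rw [mul_pow, hK] at h8
  have h12 : K * (1600 * (m + 1) * K) ≤ K * (735 * (m + 2) ^ 3) := by nlinarith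
  have h13 := Nat.le_of_mul_le_mul_left h12 h11
  have h14 : 1600 * (m + 1) * (m + 2) ^ 2 ≤ 1600 * (m + 1) * K := by gcongr
  nlinarith

end Cfsg.Agent.GW
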