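import Cfsg.Agent.Lib.GW.Bender

/-!
# The centralizer of an involution is a maximal subgroup
-/

set_option autoImplicit false

namespace Cfsg.Agent.GW

open Subgroup Cfsg.Agent.OO Cfsg.Agent.Coprime Cfsg.Agent.Sig
open scoped commutatorElement Pointwise

universe u

variable {G : Type u} [Group G] [Finite G] {M N U X Y : Subgroup G} {p q : ℕ} {t s ρ g : G}

theorem fs_of_le_Op [Fact p.Prime] (hU : U ≤ Op p N) (hC : 𝐂(U) ≤ M) (hs : Sol M) (ha : Arr M N)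
    (h0 : Op p M ≠ ⊥) : FS N ∧ ∀ q : ℕ, q.Prime → Op q N ≠ ⊥ → Op q M ≠ ⊥ := by
  refine ⟨fs_of_sol (sol_of_le hs (inf_le_right.trans ((cent_anti (hU.trans (Op_le_Fit p N))).trans
    hC))), fun q hq h1 e => h1 ?_⟩
  have := Fact.mk hq
  rw [← Op_inf_eq_bot ha (fs_of_sol (sol_of_le hs inf_le_left)) e, eq_comm, inf_eq_left]
  exact ((Op_le_cent_Op (fun e' : q = p => h0 (e' ▸ e)) N).trans (cent_anti hU)).trans hC

theorem isCharIn_of_pi [Fact p.Prime] (hN : FS N) (h : ∀ q : ℕ, q.Prime → Op q N ≠ ⊥ → Op q M ≠ ⊥)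
    (hM : Core.IsCharIn p M) : Core.IsCharIn p N :=
  Core.isCharIn_of_forall_eq_bot hN fun q hq hqp => by_contra fun e => h q hq e (by
    have := Fact.mk hq
    exact eq_bot_iff.2 (Op'_eq_bot_of_isCharIn hM ▸ Op_le_Op' hqp M))

/-- a minimal counterexample in which `C(t)` does not centralize the Sylow 2-subgroup -/
structure Min (t s ρ : G) : Prop where
  simple : IsSimpleGroup G
  v4 : V4 ⊤ t s ρ
  ih : IH.{u} ♯(⊤ : Subgroup G)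
  cO : CharO.{u}
  k_ne : ¬ 𝐂[t] ≤ 𝐂[s]

/-- an optimal maximal subgroup containing `C(t)` -/
structure Opt (t : G) (M : Subgroup G) : Prop where
  coatom : IsCoatom M
  le : 𝐂[t] ≤ M
  eq : ∀ N, IsCoatom N → 𝐂[t] ≤ N → Arr M N → N = M

/-- a minimal `C(t)`-invariant subgroup of `O_p(M)` not centralized by `t` -/
structure MinY (t : G) (M : Subgroup G) (p : ℕ) (Y : Subgroup G) : Prop where
  le : Y ≤ Op p M
  norm : 𝐂[t] ≤ 𝐍(Y)
  ne_bot : Y ≠ ⊥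
  comm : ⁅Y, zpowers t⁆ = Y
  cent : Fit M ⊓ 𝐂[t] ≤ 𝐂(Y)

theorem Opt.conj (h : Opt t M) (g : G) : Opt (g * t * g⁻¹) (g •ᶜ M) :=
  ⟨isCoatom_conj_iff.2 h.coatom, cent1_conj g t ▸ conj_mono g h.le, fun N h1 h2 h3 => by
    rw [← h.eq (g⁻¹ •ᶜ N) (isCoatom_conj_iff.2 h1) (conj_le_iff_le_inv_conj.1 (cent1_conj g t ▸ h2))
      (inv_conj_conj g M ▸ arr_conj h3 g⁻¹), conj_inv_conj]⟩

theorem MinY.conj (h : MinY t M p Y) (g : G) : MinY (g * t * g⁻¹) (g •ᶜ M) p (g •ᶜ Y) :=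
  ⟨Op_conj p g M ▸ conj_mono g h.le, cent1_conj g t ▸ conj_le_norm_conj.2 h.norm,
    mt conj_eq_bot_iff.1 h.ne_bot, by rw [← conj_zpowers, ← conj_commutator, h.comm], by
      rw [Fit_conj, cent1_conj, ← conj_inf]; exact conj_le_cent_conj.2 h.cent⟩

namespace Min

variable (h : Min t s ρ)
include h

omit [Finite G] in
theorem conj (g : G) : Min (g * t * g⁻¹) (g * s * g⁻¹) (g * ρ * g⁻¹) :=
  { h with
    v4 := conj_top g ▸ h.v4.conj g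
    k_ne := by rw [cent1_conj, cent1_conj, conj_le_conj_iff]; exact h.k_ne }

omit [Finite G] in
theorem smp : Smp (⊤ : Subgroup G) := @smp_top _ _ h.simple

omit [Finite G] in
theorem pair (hX : S4 t s ≤ X) : Pair X t s := h.v4.pair.mono' hX le_top

omit [Finite G] in
theorem pairC : Pair 𝐂[t] t s := h.pair h.v4.pair.le_cent

theorem perfect : der (⊤ : Subgroup G) = ⊤ := h.smp.perfect fun e =>
  h.v4.not_le_cent (t_mem_S4 t s) h.v4.t_ne (e.le_cent.trans (cent_le_cent1 (mem_top t)))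

theorem ab_two (P : Subgroup G) (hP : IsPGroup 2 P) : Ab P := h.v4.pair.ab_of_two P le_top hP

theorem cent_ne_top : 𝐂[t] ≠ ⊤ := fun e => h.v4.not_le_cent (t_mem_S4 t s) h.v4.t_ne e.ge

theorem sdprod (hM : M ≠ ⊤) (hc : 𝐂[t] ≤ M) : IsSdprod (O M) (S4 t s) M :=
  (h.pair (h.v4.pair.le_cent.trans hc)).sdprod_or.resolve_right fun ⟨_, e⟩ => h.k_ne (by
    have := card_cent_eq h.cO h.v4 h.smp h.perfect hM.lt_top (inf_le_right.trans hc) e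
    rw [top_inf_eq] at this
    exact (eq_of_le_of_card_le h.v4.pair.le_cent (this.trans h.v4.pair.card.symm).le).ge.trans
      h.v4.pair.le_cent')

theorem sol (hM : M ≠ ⊤) (hc : 𝐂[t] ≤ M) : Sol M :=
  (h.pair (h.v4.pair.le_cent.trans hc)).sol_of_sdprod (h.sdprod hM hc)

/-- L1 -/
theorem le_Op [Fact p.Prime] (hM : 𝐂[t] ≤ M) (hX : X ≠ ⊤) (hS : S4 t s ≤ X) (hY : Y ≤ Op p M)
    (hYX : Y ≤ X) (ht : t ∈ 𝐍(Y)) (hc : ⁅Y, zpowers t⁆ = Y) : Y ≤ Op p X :=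
  (h.pair hS).le_Op h.ih (card_lt hX.lt_top) inf_le_right ((Op_isPGroup p M).to_le inf_le_left)
    (le_norm_inf ((inf_le_right.trans hM).trans (Op_normal p M).norm) (le_norm_of_le inf_le_left))
    (le_inf hY hYX) ht hc

variable (hn : ¬ IsCoatom 𝐂[t])
include hn

theorem Op_two (hM : IsCoatom M) (hc : 𝐂[t] ≤ M) : Op 2 M = ⊥ := by
  by_contra h0
  obtain ⟨a, ha, a1⟩ := exists_mem_ne_one h0
  have h1 := Op_le_syl (h.pair (h.v4.pair.le_cent.trans hc)).syl ha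
  have h2 : M ≤ 𝐂[a] := (h.sdprod hM.1 hc).sup_eq.ge.trans (sup_le ((Op'_le_cent_Op 2 M).trans
    (cent_le_cent1 ha)) (h.v4.pair.ab.le_cent.trans (cent_le_cent1 h1)))
  obtain ⟨g, -, rfl⟩ := h.v4.exists_conj_of_mem h1 a1
  exact hn (eq_of_le_of_card_le hc ((card_le h2).trans (by rw [cent1_conj, card_conj])) ▸ hM)

theorem ne_two [Fact p.Prime] (hM : IsCoatom M) (hc : 𝐂[t] ≤ M) (hp : Core.IsCharIn p M) : p ≠ 2 := by
  rintro rfl
  rw [Core.IsCharIn, show pCoreOf 2 M = ⊥ from h.Op_two hn hM hc] at hp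
  exact h.v4.t_ne (mem_bot.1 (hp ⟨hc (mem_cent1_self t), by simp⟩))

theorem odd_Op [Fact p.Prime] (hM : IsCoatom M) (hc : 𝐂[t] ≤ M) : Odd ♯(Op p M) := by
  by_cases e : p = 2
  · rw [e, h.Op_two hn hM hc, card_bot]; exact odd_one
  · exact odd_of_isPGroup e (Op_isPGroup p M)

theorem opt_of_pi (hM : IsCoatom M) (hc : 𝐂[t] ≤ M) (hπ : ∀ N, IsCoatom N → 𝐂[t] ≤ N → Arr M N →
    ∀ q : ℕ, q.Prime → Op q N ≠ ⊥ → Op q M ≠ ⊥) : Opt t M := by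
  have k : ∀ N, IsCoatom N → 𝐂[t] ≤ N → FS N := fun N h1 h2 =>
    fs_of_sol (sol_of_le (h.sol h1.1 h2) inf_le_left)
  refine ⟨hM, hc, fun N hN hc' ha => ?_⟩
  obtain e | ⟨p, hp, h1, -⟩ := h.smp.eq_or_char hM hN (k M hM hc) (k N hN hc') ha (hπ N hN hc' ha)
  · exact e.symm
  have := Fact.mk hp
  refine h.smp.eq_of_char (h.ne_two hn hM hc h1) h.ab_two hM (h.sol hM.1 hc) (inf_le_left (b := N))
    (fun e => h.v4.t_ne (mem_bot.1 (e ▸ le_inf hc hc' (mem_cent1_self t))))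
    (arr_mono ha le_rfl) (fun N' h2 h3 => ?_) hN inf_le_right
  have h4 := (le_inf hc hc').trans h3
  exact isCharIn_of_pi (k N' h2 h4) (hπ N' h2 h4 (arr_mono ha h3)) h1

/-- B3 -/
theorem exists_opt : ∃ M, Opt t M := by
  have k : ∀ N, IsCoatom N → 𝐂[t] ≤ N → FS N := fun N h1 h2 =>
    fs_of_sol (sol_of_le (h.sol h1.1 h2) inf_le_left)
  by_cases h2 : ∃ (M : Subgroup G) (q : ℕ), IsCoatom M ∧ 𝐂[t] ≤ M ∧ q.Prime ∧ Op q M ≠ ⊥ ∧
      Op q M ⊓ 𝐂[t] = ⊥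
  · obtain ⟨M, q, hM, hc, hq, h3, h4⟩ := h2
    have := Fact.mk hq
    refine ⟨M, h.opt_of_pi hn hM hc fun N hN hc' ha r hr h5 h6 => h5 ?_⟩
    have := Fact.mk hr
    have h7 := (Op_normal q M).Zc.norm (hc (mem_cent1_self t))
    have h8 := h.le_Op hc hN.1 (h.v4.pair.le_cent.trans hc') (Zc_le _) (ha.Zc_Op_le q) h7
      (commutator_eq_of_inf_eq_bot h.v4.t_sq h7 (odd_of_le (h.odd_Op hn hM hc) (Zc_le _))
        (eq_bot_iff.2 (h4 ▸ inf_le_inf_right _ (Zc_le _))))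
    rw [← Op_inf_eq_bot ha (k M hM hc) h6, eq_comm, inf_eq_left]
    exact ((Op_le_cent_Op (fun e : r = q => h3 (e ▸ h6)) N).trans (cent_anti h8)).trans
      (h.smp.cent_Zc_le hM h3)
  · obtain ⟨M, hM, hc⟩ := (eq_top_or_exists_le_coatom _).resolve_left h.cent_ne_top
    refine ⟨M, h.opt_of_pi hn hM hc fun N hN hc' ha r hr h5 h6 => h2 ⟨N, r, hN, hc', hr, h5, ?_⟩⟩
    have := Fact.mk hr
    exact eq_bot_iff.2 (Op_inf_eq_bot ha (k M hM hc) h6 ▸ inf_le_inf_left _ hc)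

theorem exists_minY (hM : IsCoatom M) (hc : 𝐂[t] ≤ M) : ∃ p Y, p.Prime ∧ MinY t M p Y := by
  obtain ⟨p, hp, h0⟩ : ∃ p : ℕ, p.Prime ∧ ⁅Op p M, zpowers t⁆ ≠ ⊥ := by
    by_contra! h2
    have h3 := (le_inf (zpowers_le.2 (hc (mem_cent1_self t))) (le_cent_Fit_of_forall fun p hp =>
      commutator_eq_bot_iff'.1 (h2 p hp.out))).trans (cent_sub_Fitting (h.sol hM.1 hc))
    exact h.v4.t_ne (mem_bot.1 (h.Op_two hn hM hc ▸ le_Op_of_le_Fit (abelem_isPGroup (abelem_zpowers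
      (by rw [sq, h.v4.t_sq]))) h3 (mem_zpowers t)))
  have := Fact.mk hp
  have hR : 𝐂[t] ≤ 𝐍(zpowers t) := le_norm_of_le_cent (cent_zpowers t).ge
  obtain ⟨Y, k1, ⟨k2, k4⟩, k5⟩ := Core.exists_minimal_le
    (P := fun Y => 𝐂[t] ≤ 𝐍(Y) ∧ ⁅Y, zpowers t⁆ ≠ ⊥) ⟨hc.trans (Op_normal p M).norm, h0⟩
  have hYp : IsPGroup p Y := (Op_isPGroup p M).to_le k1
  have ho := odd_of_le (h.odd_Op hn hM hc) k1
  have ht := zpowers_le.2 (k2 (mem_cent1_self t))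
  have k7 : ⁅Y, zpowers t⁆ = Y := k5 _ ⟨le_norm_commutator k2 hR, by
    rwa [coprime_commGid ht (coprime_zp ho h.v4.t_sq) (.inl (sol_of_odd ho))]⟩ (commutator_le_left' ht)
  have k8 : Y ≠ ⊥ := fun e => k4 (by rw [e, commutator_bot_left])
  refine ⟨p, Y, hp, k1, k2, k8, k7, le_of_forall_isPGroup fun q hq Q hQ hQq => ?_⟩
  refine (le_inf (le_Op_of_le_Fit hQq (hQ.trans inf_le_left)) (hQ.trans inf_le_right)).trans ?_
  by_cases e : q = p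
  · subst e
    have h1 := commutator_lt_of_isPGroup ((Op_isPGroup q M).to_le inf_le_left) hYp
      (inf_le_right.trans k2) k8
    rw [← commutator_eq_bot_iff', ← k7, commutator_comm Y]
    refine three_subgroup (by_contra fun e => h1.ne (k5 _ ⟨le_norm_commutator k2 (le_norm_inf
      (hc.trans (Op_normal q M).norm) (le_norm_self _)), e⟩ h1.le)) ?_
    rw [OO.commutator_eq_bot_iff (B := zpowers t).2 (cent_zpowers t ▸ inf_le_right), commutator_bot_left]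
  · exact inf_le_left.trans ((Op_le_cent_Op e M).trans (cent_anti k1))

variable [Fact p.Prime] (hM : Opt t M) (hY : MinY t M p Y)
include hM hY

omit hn in
theorem norm_Y_le : 𝐍(Y) ≤ M := by
  obtain ⟨N, hN, h1⟩ := h.smp.exists_coatom hY.ne_bot
    fun e => hM.coatom.1 (top_le_iff.1 (e ▸ hY.le.trans (Op_le p M)))
  rwa [hM.eq N hN (hY.norm.trans h1) (arr_of_le (hY.le.trans (Op_le_Fit p M))
    ((le_norm_self Y).trans h1) (inf_le_right.trans ((cent_le_norm Y).trans h1)))] at h1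

/-- CP -/
theorem eq_of_arr (hN : IsCoatom N) (hS : S4 t s ≤ N) (hYN : Y ≤ N) (ha : Arr M N) : N = M := by
  have hs := h.sol hM.coatom.1 hM.le
  have k := fun N (hN : IsCoatom N) hS hYN ha => fs_of_le_Op (h.le_Op hM.le hN.1 hS hY.le hYN
    (hY.norm (mem_cent1_self t)) hY.comm) ((cent_le_norm Y).trans (h.norm_Y_le hM hY)) hs ha
    fun e => hY.ne_bot (eq_bot_iff.2 (e ▸ hY.le))
  obtain e | ⟨q, hq, h1, -⟩ := h.smp.eq_or_char hM.coatom hN (fs_of_sol (sol_of_le hs inf_le_left))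
    (k N hN hS hYN ha).1 ha (k N hN hS hYN ha).2
  · exact e.symm
  have := Fact.mk hq
  have h2 := le_inf (hY.le.trans (Op_le p M)) hYN
  refine h.smp.eq_of_char (h.ne_two hn hM.coatom hM.le h1) h.ab_two hM.coatom hs (inf_le_left (b := N))
    (fun e => hY.ne_bot (eq_bot_iff.2 (e ▸ h2))) (arr_mono ha le_rfl) (fun N' h3 h4 => ?_) hN
    inf_le_right
  have h5 := k N' h3 ((le_inf (h.v4.pair.le_cent.trans hM.le) hS).trans h4) (h2.trans h4)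
    (arr_mono ha h4)
  exact isCharIn_of_pi h5.1 h5.2 h1

theorem norm_le_conj (hg : g ∈ 𝐍(S4 t s)) (hU : U = ⁅Y ⊓ 𝐂[g * t * g⁻¹], zpowers t⁆) (h0 : U ≠ ⊥) :
    U ≤ Y ⊓ 𝐂[g * t * g⁻¹] ∧ ⁅U, zpowers t⁆ = U ∧ S4 t s ≤ 𝐍(U) ∧ 𝐍(U) ≤ g •ᶜ M := by
  have hp := h.v4.pair
  have h1 := hM.conj g
  have h2 := hY.conj g
  have h3 : S4 (g * t * g⁻¹) (g * s * g⁻¹) = S4 t s := by rw [← conj_S4, conj_eq_of_mem_norm hg]
  have h4 : S4 t s ≤ 𝐂[g * t * g⁻¹] := h3 ▸ (h.conj g).v4.pair.le_cent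
  have h5 : S4 t s ≤ 𝐍(Y ⊓ 𝐂[g * t * g⁻¹]) := le_norm_inf (hp.le_cent.trans hY.norm) (le_norm_of_le h4)
  have h6 := zpowers_le.2 (h5 (t_mem_S4 t s))
  have h7 : U ≤ Y ⊓ 𝐂[g * t * g⁻¹] := hU ▸ commutator_le_left' h6
  have ho := odd_of_le (h.odd_Op hn hM.coatom hM.le) (inf_le_left.trans hY.le : Y ⊓ 𝐂[g * t * g⁻¹] ≤ _)
  have h8 : ⁅U, zpowers t⁆ = U := hU ▸ coprime_commGid h6 (coprime_zp ho hp.t_sq) (.inl (sol_of_odd ho))
  have h9 : S4 t s ≤ 𝐍(U) := hU ▸ le_norm_commutator h5 (le_norm_of_ab hp.ab le_sup_left)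
  have h10 := (h.le_Op hM.le h1.coatom.1 (h4.trans h1.le) (h7.trans (inf_le_left.trans hY.le))
    (h7.trans (inf_le_right.trans h1.le)) (h9 (t_mem_S4 t s)) h8).trans (Op_le_Fit p _)
  obtain ⟨N, hN, h11⟩ := h.smp.exists_coatom h0 fun e => h1.coatom.1 (top_le_iff.1
    (e ▸ h10.trans (Fit_le _)))
  refine ⟨h7, h8, h9, ?_⟩
  rwa [(h.conj g).eq_of_arr (by rwa [cent1_conj, isCoatom_conj_iff]) h1 h2 hN (h3 ▸ h9.trans h11)
    ((le_norm_of_le_cent (le_cent_symm ((le_inf h10 (h7.trans inf_le_right)).trans h2.cent))).trans h11)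
    (arr_of_le h10 ((le_norm_self U).trans h11) (inf_le_right.trans ((cent_le_norm U).trans h11)))]
    at h11

end Min

/-- Local analysis, part I -/
theorem Min.isCoatom (h : Min t s ρ) : IsCoatom 𝐂[t] := by
  by_contra hn
  obtain ⟨M, hM⟩ := h.exists_opt hn
  obtain ⟨p, Y, hp, hY⟩ := h.exists_minY hn hM.coatom hM.le
  have := Fact.mk hp
  have hp := h.v4.pair
  have hS := hp.le_cent.trans hM.le
  have hYF := hY.le.trans (Op_le_Fit p M)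
  have hB : ρ •ᶜ M ≠ M := fun e => (h.v4.mono (hS (t_mem_S4 t s)) ((h.smp.norm_eq hM.coatom (.refl M)
    fun e => hp.t_ne (mem_bot.1 (e ▸ hS (t_mem_S4 t s)))).le (conj_eq_self_iff.1 e)) le_top).not_sdprod
    (h.sdprod hM.coatom.1 hM.le)
  have e1 := h.v4.ρt
  have e2 : ρ⁻¹ * t * ρ⁻¹⁻¹ = t * s := by nth_rewrite 1 [← h.v4.ρts]; group
  have k1 := fun g hg h0 => h.norm_le_conj hn hM hY (g := g) hg rfl h0
  have k2 : ∀ g ∈ 𝐍(S4 t s), ⁅Y ⊓ 𝐂[g * t * g⁻¹], zpowers t⁆ ≠ ⊥ → Arr M (g •ᶜ M) := fun g hg h0 =>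
    arr_of_le ((k1 g hg h0).1.trans (inf_le_left.trans hYF)) ((le_norm_self _).trans (k1 g hg h0).2.2.2)
      (inf_le_right.trans ((cent_le_norm _).trans (k1 g hg h0).2.2.2))
  have k3 : ∀ a, ⁅Y ⊓ 𝐂[a], zpowers t⁆ = ⊥ → Y ⊓ 𝐂[a] ≤ Y ⊓ 𝐂[t] := fun a e =>
    le_inf inf_le_left (cent_zpowers t ▸ OO.commutator_eq_bot_iff.1 e)
  have k4 := fun X => hp.le_of_forall (Y := X) (hp.le_cent.trans hY.norm)
    (odd_of_le (h.odd_Op hn hM.coatom hM.le) hY.le)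
  have k5 : ∀ g ∈ 𝐍(S4 t s), ⁅Y ⊓ 𝐂[g * t * g⁻¹], zpowers t⁆ ≠ ⊥ → Y ⊓ 𝐂[t] ≤ g •ᶜ M ∧
      Y ⊓ 𝐂[g * t * g⁻¹] ≤ g •ᶜ M ∧ (Y ≤ g •ᶜ M → g •ᶜ M = M) := fun g hg h0 =>
    ⟨((inf_le_inf_right _ hYF).trans hY.cent).trans ((cent_anti ((k1 g hg h0).1.trans inf_le_left)).trans
      ((cent_le_norm _).trans (k1 g hg h0).2.2.2)), inf_le_right.trans (hM.conj g).le, fun e =>
      h.eq_of_arr hn hM hY (hM.conj g).coatom ((k1 g hg h0).2.2.1.trans (k1 g hg h0).2.2.2) e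
        (k2 g hg h0)⟩
  have hρ := h.v4.mem_norm
  by_cases c1 : ⁅Y ⊓ 𝐂[ρ * t * ρ⁻¹], zpowers t⁆ = ⊥ <;>
    by_cases c2 : ⁅Y ⊓ 𝐂[ρ⁻¹ * t * ρ⁻¹⁻¹], zpowers t⁆ = ⊥
  · refine hY.ne_bot (hY.comm.symm.trans (OO.commutator_eq_bot_iff.2 ?_))
    rw [cent_zpowers]
    exact k4 _ inf_le_right ((e1 ▸ k3 _ c1).trans inf_le_right) ((e2 ▸ k3 _ c2).trans inf_le_right)
  · obtain ⟨a1, a2, a3⟩ := k5 _ (inv_mem hρ) c2
    exact hB (conj_eq_iff_eq_inv_conj.2 (a3 (k4 _ a1 ((e1 ▸ k3 _ c1).trans a1) (e2 ▸ a2))).symm)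
  · obtain ⟨a1, a2, a3⟩ := k5 _ hρ c1
    exact hB (a3 (k4 _ a1 (e1 ▸ a2) ((e2 ▸ k3 _ c2).trans a1)))
  have a1 := k2 _ hρ c1
  have a2 := arr_conj (k2 _ (inv_mem hρ) c2) ρ
  obtain ⟨a3, a4, a5, a6⟩ := k1 _ hρ c1
  rw [conj_inv_conj] at a2
  have hM' := hM.conj ρ
  have hs := h.sol hM.coatom.1 hM.le
  have hs' := sol_conj (g := ρ).2 hs
  have hπ : ∀ q : ℕ, q.Prime → Op q (ρ •ᶜ M) ≠ ⊥ → Op q M ≠ ⊥ := fun q _ e e' =>
    e (by rw [Op_conj, e', conj_bot])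
  obtain e | ⟨q, hq, h1, h2⟩ := h.smp.eq_or_char hM.coatom hM'.coatom
    (fs_of_sol (sol_of_le hs inf_le_left)) (fs_of_sol (sol_of_le hs' inf_le_left)) a1 hπ
  · exact hB e.symm
  have := Fact.mk hq
  have h3 := le_inf (a3.trans (inf_le_left.trans (hYF.trans (Fit_le M)))) ((le_norm_self _).trans a6)
  refine hB (h.smp.eq_of_char (h.ne_two hn hM.coatom hM.le h1) h.ab_two hM.coatom hs
    (inf_le_left (b := ρ •ᶜ M)) (fun e => c1 (eq_bot_iff.2 (e ▸ h3))) (arr_mono a1 le_rfl)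
    (fun N h4 h5 => ?_) hM'.coatom inf_le_right)
  have h6 := fs_of_le_Op (h.le_Op hM.le h4.1 ((le_inf hS (a5.trans a6)).trans h5)
    (a3.trans (inf_le_left.trans hY.le)) (h3.trans h5) (a5 (t_mem_S4 t s)) a4)
    ((cent_le_norm _).trans a6) hs' (arr_mono a2 ((inf_comm _ _).le.trans h5))
    fun e => (hY.conj ρ).ne_bot (eq_bot_iff.2 (e ▸ (hY.conj ρ).le))
  exact isCharIn_of_pi h6.1 h6.2 h2

end Cfsg.Agent.GW
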