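import Cfsg.Agent.Lib.GW.Local1
import Cfsg.Agent.Lib.GW.Comp

/-!
# A maximal subgroup with a component
-/

set_option autoImplicit false

namespace Cfsg.Agent.GW

open Subgroup Cfsg.Agent.OO Cfsg.Agent.Coprime Cfsg.Agent.Sig
open scoped commutatorElement Pointwise

universe u

variable {G : Type u} [Group G] [Finite G] {A D L N Q U X : Subgroup G} {p q : ℕ} {t s ρ a g w : G}

theorem commutator_le_cent (hs : s * s = 1) (hU : U ≤ 𝐍(A)) (hn : s ∈ 𝐍(A)) (h : A ⊓ 𝐂[s] = ⊥) :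
    ⁅U, zpowers s⁆ ≤ 𝐂(A) := commutator_le.2 fun u hu y hy => by
  rcases (mem_zp hs).1 hy with rfl | rfl
  · simp
  refine mem_cent_iff_conj.2 fun x hx => ?_
  have h1 := conj_eq_inv hs hn h hx
  have h2 := conj_eq_inv hs hn h (conj_mem_of_norm' (hU hu) (inv_mem hx))
  rw [inv_eq hs] at h1 h2
  calc _ = u * (y * (u⁻¹ * (y * x * y) * u) * y) * u⁻¹ := by
        rw [commutatorElement_def, inv_eq hs]; simp [mul_assoc, inv_eq hs]
    _ = x := by rw [h1, h2]; group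

namespace Min

variable (h : Min t s ρ)
include h

theorem le_U (hQ : Q ≤ 𝐂[t]) (ho : Odd ♯Q) : Q ≤ O 𝐂[t] :=
  h.pairC.le_O_of_sdprod (h.sdprod h.cent_ne_top le_rfl) hQ ho

theorem norm_eq (hQ : Q ⊴ 𝐂[t]) (h0 : Q ≠ ⊥) : 𝐍(Q) = 𝐂[t] := h.smp.norm_eq h.isCoatom hQ h0

theorem not_Fit_le : ¬ Fit (O 𝐂[t]) ≤ 𝐂[s] := fun e => h.k_ne
  ((h.sdprod h.cent_ne_top le_rfl).sup_eq.ge.trans (sup_le (le_cent1_iff.2 (coprime_cent_Fitting
    (zpowers_le.2 (O_norm _ h.pairC.s_mem)) (coprime_zp (odd_O _) h.pairC.s_sq)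
    (sol_of_odd (odd_O _)) ⟨mem_zpowers s, le_cent1_iff.1 e⟩)) h.pairC.le_cent'))

theorem Op_two_ne : Op 2 𝐂[t] ≠ ⊥ := fun e => h.v4.t_ne (mem_bot.1 (e ▸ OO.le_Op
  ⟨zpowers_le.2 (mem_cent1_self t), le_norm_of_le_cent (cent_zpowers t).ge⟩
  (abelem_isPGroup (abelem_zpowers (by rw [sq, h.v4.t_sq]))) (mem_zpowers t)))

theorem cent_norm (hg : g ∈ 𝐍(S4 t s)) : g •ᶜ (𝐂[t] ⊓ 𝐂[s]) = 𝐂[t] ⊓ 𝐂[s] := by
  rw [← cent_S4, ← cent_conj, conj_eq_of_mem_norm hg]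

theorem exists_bad_aux (cB : CharB.{u}) (hB : O 𝐂[t] ⊓ 𝐂[s] ≠ ⊥) : ∃ p : ℕ, p.Prime ∧
    Op p (O 𝐂[t]) ⊓ 𝐂[s] ≠ ⊥ ∧ ¬ 𝐍(Op p (O 𝐂[t]) ⊓ 𝐂[s]) ≤ 𝐂[t] := by
  by_contra! h1
  have hp := h.pairC
  have h2 : ⁅O 𝐂[t], zpowers s⁆ ≤ 𝐂(Fit (O 𝐂[t])) := le_cent_Fit_of_forall fun p hp' => by
    have hn : Op p (O 𝐂[t]) ⊴ 𝐂[t] := (Opi_normal _ _).Op p
    by_cases h0 : Op p (O 𝐂[t]) ⊓ 𝐂[s] = ⊥
    · exact commutator_le_cent hp.s_sq (Op_normal _ _).norm (hn.norm hp.s_mem) h0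
    have h3 : ρ •ᶜ (Op p (O 𝐂[t]) ⊓ 𝐂[s]) ≤ 𝐂[t] ⊓ 𝐂[s] :=
      h.cent_norm h.v4.mem_norm ▸ conj_mono ρ (inf_le_inf_right _ hn.le)
    refine (commutator_mono le_rfl (thompson_AxB (isPGroup_conj.2 ((Op_isPGroup p _).to_le inf_le_left))
      ?_ (cent_zpowers s ▸ h3.trans inf_le_right) (Op_isPGroup p _) ((h3.trans inf_le_left).trans hn.norm)
      (zpowers_le.2 (hn.norm hp.s_mem)) ?_)).trans
      (commutator_le_right' (le_norm_cent (Op_normal _ _).norm))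
    · obtain ⟨x, hx, e⟩ := cauchy hp'.out (dvd_card_of_isPGroup ((Op_isPGroup p _).to_le inf_le_left) h0)
      rw [Nat.card_zpowers, orderOf_eq_two hp.s_sq hp.s_ne, Nat.coprime_two_left, ← e]
      exact odd_of_mem (odd_O _) (Op_le _ _ hx.1)
    · rw [cent_zpowers, cent_conj]
      exact inf_le_right.trans ((conj_mono ρ ((cent_le_norm _).trans (h1 p hp'.out h0))).trans
        (by rw [← cent1_conj, h.v4.ρt]))
  exact hB (cB G t s ρ h.simple h.v4 h.isCoatom (ab_iff_le_cent.2 (h2.trans (cent_anti ((le_inf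
    (commutator_le_left' (zpowers_le.2 (O_norm _ hp.s_mem))) h2).trans
      (cent_sub_Fitting (sol_of_odd (odd_O _))))))))

theorem Op_ne_bot [Fact q.Prime] (hc : 𝐂[t] ⊓ 𝐂[s] ≤ N) (ha : Arr 𝐂[t] N) (h0 : Op q N ≠ ⊥) :
    Op q 𝐂[t] ≠ ⊥ := fun e => by
  have hp := h.pairC
  have ho := odd_of_isPGroup (fun e' : q = 2 => h.Op_two_ne (e' ▸ e)) (Op_isPGroup q N)
  have h1 := Op_inf_eq_bot ha (fs_of_sol (sol_of_le (h.sol h.cent_ne_top le_rfl) inf_le_left)) e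
  have h2 := hc.trans (Op_normal q N).norm
  have h3 := le_inf hp.le_cent hp.le_cent'
  have k : ∀ a ∈ S4 t s, a ≠ 1 → 𝐂[a] ⊓ 𝐂[t] ≤ 𝐂[s] → Op q N ⊓ 𝐂[a] ≤ ⊥ := fun a ha a1 hc' => by
    have h4 : t ∈ 𝐂[a] := cent_le_cent1 ha (hp.ab.le_cent (t_mem_S4 t s))
    obtain ⟨g, -, rfl⟩ := h.v4.exists_conj_of_mem ha a1
    refine (le_Op_of_inv (odd_O _) hp.t_ne hp.t_sq (O_norm _ h4) ((h.conj g).le_U inf_le_right
      (odd_of_le ho inf_le_left)) ((Op_isPGroup q N).to_le inf_le_left) (mem_norm_inf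
        (h2 (h3 (t_mem_S4 t s))) (le_norm_self _ h4)) (eq_bot_iff.2 (h1 ▸ inf_le_inf_right _ inf_le_left))
      (le_norm_inf ((le_inf inf_le_right ((inf_le_inf_right _ (Opi_le _ _)).trans hc')).trans h2)
        (le_norm_of_le (inf_le_left.trans (Opi_le _ _))))).trans
      ((Op_le_of_normal q (Opi_normal _ _)).trans ?_)
    rw [cent1_conj, Op_conj, e, conj_bot]
  refine h0 (eq_bot_iff.2 (hp.le_of_forall (h3.trans h2) ho h1.le (k s (s_mem_S4 t s) hp.s_ne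
    inf_le_left) (k _ (mul_mem (t_mem_S4 t s) (s_mem_S4 t s)) hp.mul_ne_one fun x hx => ?_)))
  rw [mem_cent1_comm, ← mul_mem_cancel_left (mem_cent1_comm.1 hx.2)]
  exact mem_cent1_comm.1 hx.1

end Min

/-- a maximal subgroup `N` with component `L` containing the centralizer of the Sylow 2-subgroup -/
structure Bad (N L : Subgroup G) (t s ρ : G) : Prop where
  min : Min t s ρ
  comp : Comp N L t s ρ
  coatom : IsCoatom N
  cent_le : 𝐂[t] ⊓ 𝐂[s] ≤ N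
  arr : Arr 𝐂[t] N

theorem Min.exists_bad (h : Min t s ρ) (cB : CharB.{u}) (hB : O 𝐂[t] ⊓ 𝐂[s] ≠ ⊥) :
    ∃ N L ρ', Bad N L t s ρ' ∧ ∃ p : ℕ, p.Prime ∧ Op p (O 𝐂[t]) ⊓ 𝐂[s] ≠ ⊥ := by
  obtain ⟨p, hp, h0, h1⟩ := h.exists_bad_aux cB hB
  have := Fact.mk hp
  have hn : Op p (O 𝐂[t]) ⊴ 𝐂[t] := (Opi_normal _ _).Op p
  obtain ⟨N, hN, h2⟩ := h.smp.exists_coatom h0 fun e => h.cent_ne_top (top_le_iff.1
    (e ▸ inf_le_left.trans hn.le))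
  have h3 : 𝐂[t] ⊓ 𝐂[s] ≤ N :=
    (le_norm_inf (inf_le_left.trans hn.norm) (le_norm_of_le inf_le_right)).trans h2
  have h4 := Op_le_of_normal p (Opi_normal _ _ : O 𝐂[t] ⊴ _)
  have ha : Arr 𝐂[t] N := arr_of_le (inf_le_left.trans (h4.trans (Op_le_Fit p _)))
    ((le_norm_self _).trans h2) (inf_le_right.trans ((cent_le_norm _).trans h2))
  have hp2 : p ≠ 2 := fun e => h0 (by rw [e, Op_eq_bot (odd_O _).not_two_dvd_nat, bot_inf_eq])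
  have h5 : Fit N ≤ 𝐂[t] := Fit_le_of_forall fun q hq => by
    by_cases e : Op q N = ⊥
    · exact e.le.trans bot_le
    by_cases e' : q = 2
    · exact h.smp.Op_le_of_arr h.isCoatom ha (e' ▸ hp2) (h.Op_ne_bot h3 ha e)
        fun e => h0 (eq_bot_iff.2 (e ▸ inf_le_left.trans h4))
    · exact h.smp.Op_le_of_arr h.isCoatom ha (Ne.symm e') (h.Op_ne_bot h3 ha e) h.Op_two_ne
  have hP := h.pair ((le_inf h.pairC.le_cent h.pairC.le_cent').trans h3)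
  have h6 : O N ≤ 𝐂[t] := le_cent1_iff.2 (coprime_cent_Fitting (zpowers_le.2 (O_norm _ hP.t_mem))
    (coprime_zp (odd_O _) hP.t_sq) (sol_of_odd (odd_O _)) ⟨mem_zpowers t, le_cent1_iff.1
      ((Fit_le_of_normal (Opi_normal _ _)).trans h5)⟩)
  obtain ⟨ρ', hv⟩ := hP.sdprod_or.resolve_left fun e =>
    h1 (h2.trans (e.sup_eq.ge.trans (sup_le h6 hP.le_cent)))
  obtain ⟨L, ρ'', hL⟩ := hv.exists_comp h.ih (card_lt hN.1.lt_top) h6 fun e => h.not_Fit_le (by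
    have h7 := (Fit_le _).trans (Opi_le _ _ : O 𝐂[t] ≤ _)
    rw [← cent_zpowers s, le_cent_comm]
    refine coprime_nil_faithful_cent_stab (zpowers_le.2 ((Opi_normal _ _).Fit.norm h.pairC.s_mem))
      (coprime_zp (odd_of_le (odd_O _) (Fit_le _)) hP.s_sq) (Fit_nil _) (le_inf inf_le_left ?_)
    rw [cent_zpowers]
    intro x hx
    have h8 := h2 (cent_le_norm _ (cent_anti (inf_le_inf_right _ (Op_le_Fit p _)) hx.2))
    exact hP.mem_cent_of_norm h8 (e h8) (h7 hx.1))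
  exact ⟨N, L, ρ'', ⟨{ h with v4 := { hL.v4 with t_mem := trivial, ρ_mem := trivial, not_dvd :=
    h.v4.not_dvd } }, hL, hN, h3, ha⟩, p, hp, h0⟩

theorem Min.mem_O [Fact p.Prime] (h : Min t s ρ) (hX : X ≠ ⊤) (hS : S4 t s ≤ X) (hwX : w ∈ X)
    (hw : w ∈ Op p (O 𝐂[t]) ⊓ 𝐂[s]) (h1 : w ^ p = 1) : w ∈ O X := by
  by_cases e : p = 2
  · subst e
    rw [eq_one_of_odd_of_sq (odd_of_mem (odd_O _) (Op_le _ _ hw.1)) (sq w ▸ h1)]
    exact one_mem _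
  have h2 := Op_le_of_normal p (Opi_normal _ _ : O 𝐂[t] ⊴ _) hw.1
  exact (h.pair hS).mem_O h.cO h.ih (card_lt hX.lt_top) e
    (Op_inf_le p inf_le_right ⟨h2, hwX, Op_le _ _ h2⟩) hw.2 h1

namespace Bad

variable (h : Bad N L t s ρ)
include h

theorem not_le : ¬ 𝐂[t] ≤ N := fun e => h.comp.v4N.not_le_cent (t_mem_S4 t s) h.min.v4.t_ne
  ((h.min.isCoatom.le_iff.1 e).resolve_left h.coatom.1).le

variable [hp : Fact p.Prime]

theorem le_O (hD : D ≤ Op p (O 𝐂[t]) ⊓ 𝐂[s]) (h1 : ∀ x ∈ D, x ^ p = 1) : D ≤ O N := fun x hx =>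
  h.min.mem_O h.coatom.1 h.comp.v4N.pair.le (h.cent_le ⟨Opi_le _ _ (Op_le _ _ (hD hx).1), (hD hx).2⟩)
    (hD hx) (h1 x hx)

theorem norm_eq (hD : D ≤ Op p (O 𝐂[t]) ⊓ 𝐂[s]) (h1 : ∀ x ∈ D, x ^ p = 1) (h0 : D ≠ ⊥)
    (hn : 𝐂[t] ⊓ 𝐂[s] ≤ 𝐍(D)) : 𝐍(D) = N :=
  h.min.smp.norm_eq h.coatom ⟨(h.le_O hD h1).trans (Opi_le _ _), h.comp.isProd.sup_eq.ge.trans (sup_le
    (le_norm_of_le_cent (h.comp.cent.trans (cent_anti (h.le_O hD h1))))
    ((inf_le_inf_right _ inf_le_right).trans hn))⟩ h0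

theorem dvd_Kc (h0 : Op p (O 𝐂[t]) ≠ ⊥) : p ∣ ♯(Kc N t s) := by
  by_contra h1
  have hp2 : p ≠ 2 := fun e => h0 (by rw [e, Op_eq_bot (odd_O _).not_two_dvd_nat])
  have hn := ((Opi_normal _ _ : O 𝐂[t] ⊴ _).Op p).Zc.Ohm p
  have h2 := (Ohm_le p _).trans (Zc_le (Op p (O 𝐂[t])))
  have h3 : Ohm p (Zc (Op p (O 𝐂[t]))) ≤ N := (Ohm_le p _).trans (by
    rw [Op_Opi (by simpa using hp2)]; exact h.arr.Zc_Op_le p)
  have h4 := Ohm_ne_bot ((Op_isPGroup p _).to_le (Zc_le _)) (Zc_ne_bot (Op_nil p _) h0)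
  refine h.not_le ((h.min.norm_eq hn h4).symm.trans (h.norm_eq (le_inf h2 ?_) (Ohm_abelem p (Zc_ab _)).2
    h4 (inf_le_left.trans hn.norm))).le
  rw [← cent_zpowers s, ← OO.commutator_eq_bot_iff, eq_bot_iff, ← inf_eq_bot_of_coprime_card
    (coprime_of_isPGroup (Op_isPGroup p (O 𝐂[t])) ((piGrp_compl_singleton hp.out).2 h1))]
  exact le_inf ((commutator_le_left' (zpowers_le.2 (hn.norm h.min.pairC.s_mem))).trans h2)
    (commutator_mono (h.comp.v4N.pair.le_O_cent (le_inf h3 hn.le)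
      (odd_of_le (odd_O _) (h2.trans (Op_le _ _)))) le_rfl)

omit hp in
theorem mem_of_conj (hg : g ∈ 𝐂[t]) (ha : a ∈ N ⊓ 𝐂[t]) (h1 : a * a = 1) (h2 : a ≠ 1) (h3 : a ≠ t)
    (h4 : g⁻¹ * a * g ∈ N) : g ∈ N := by
  have hp := h.comp.v4N.pair
  have h5 := mem_cent1_iff_conj.1 (inv_mem hg)
  obtain ⟨x, hx, e⟩ := hp.exists_pair ha h2 h1 h3
  obtain ⟨y, hy, e'⟩ := hp.exists_pair (a := g⁻¹ * a * g⁻¹⁻¹) ⟨by rwa [inv_inv],
    (𝐂[t]).mul_mem ((𝐂[t]).mul_mem (inv_mem hg) ha.2) (inv_mem (inv_mem hg))⟩ (conj_ne_one.2 h2) (conj_sq h1 _)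
    fun e => h3 (by simpa using e.trans h5.symm)
  nth_rewrite 1 [← h5] at e'
  rw [← conj_S4, conj_eq_iff_eq_inv_conj.1 e, conj_conj, conj_conj, conj_eq_self_iff] at e'
  have h6 : y * g⁻¹ * x⁻¹ ∈ 𝐂[t] :=
    (𝐂[t]).mul_mem ((𝐂[t]).mul_mem hy.2 (inv_mem hg)) ((𝐂[t]).inv_mem hx.2)
  have h7 := h.cent_le ⟨h6, h.min.v4.pair.mem_cent_of_norm trivial e' h6⟩
  rwa [N.mul_mem_cancel_right (N.inv_mem hx.1), N.mul_mem_cancel_left hy.1, inv_mem_iff] at h7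

theorem ncard_classSupp (hD : ♯D = p) (hn : 𝐍(D) = N) :
    (classSupp (sharp D) 𝐂[t]).ncard = (p - 1) * N.relIndex 𝐂[t] := by
  rw [(normedTI_sharp_of_inf_conj (L := N ⊓ 𝐂[t]) (ne_bot_of_prime_dvd hp.out hD.symm.dvd) inf_le_right
    (inf_le_left.trans hn.ge) fun g hg e => ⟨hn.le (conj_eq_self_iff.1 (eq_of_le_of_card_le
      (le_of_prime_of_inf_ne_bot (hD ▸ hp.out) e) (card_conj g D).le).symm), hg⟩).ncard_classSupp,
    ncard_sharp, hD, inf_relIndex_right]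

/-- Case A does not occur -/
theorem inf_eq_bot_of_ab (hA : A ⊴ 𝐂[t]) (hAp : A ≤ Op p (O 𝐂[t])) (ha : Ab A) : A ⊓ 𝐂[s] = ⊥ := by
  by_contra h0
  have hP := h.comp.v4N.pair
  obtain ⟨W, hW⟩ : ∃ W, W = Ohm p A := ⟨_, rfl⟩
  have hWn : W ⊴ 𝐂[t] := hW ▸ hA.Ohm p
  have hWe : IsElementaryAbelian p W := hW ▸ Ohm_abelem p ha
  have hWp : W ≤ Op p (O 𝐂[t]) := hW ▸ (Ohm_le p A).trans hAp
  have hWo := odd_of_le (odd_O _) (hWp.trans (Op_le _ _))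
  have h1 : W ⊓ 𝐂[s] ≠ ⊥ := by
    rw [hW, inf_comm]; exact inf_Ohm_ne_bot ((Op_isPGroup _ _).to_le hAp) (by rwa [inf_comm])
  have h2 := inf_le_inf_right 𝐂[s] hWp
  have h3 := fun x (hx : x ∈ W ⊓ 𝐂[s]) => hWe.2 x hx.1
  have h4 := h.norm_eq h2 h3 h1 (le_norm_inf (inf_le_left.trans hWn.norm) (le_norm_of_le inf_le_right))
  have h5 := coprime_abelian_cent_dprod (zpowers_le.2 (hWn.norm h.min.pairC.s_mem))
    (coprime_zp hWo hP.s_sq) (abelem_ab hWe)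
  have h6 : ⁅W, zpowers s⁆ ≤ Kc N t s := commutator_mono (hP.le_O_cent (le_inf
    ((le_norm_of_ab (abelem_ab hWe) inf_le_left).trans h4.le) hWn.le) hWo) le_rfl
  rw [cent_zpowers] at h5
  obtain ⟨D, hD⟩ : ∃ D, D = W ⊓ 𝐂[s] := ⟨_, rfl⟩
  obtain ⟨V, hV⟩ : ∃ V, V = ⁅W, zpowers s⁆ := ⟨_, rfl⟩
  rw [← hD] at h1 h2 h3 h4 h5
  rw [← hV] at h5 h6
  have h7 : V ≠ ⊥ := fun e => h.not_le (hWn.norm.trans (by
    rw [← h5.sup_eq, e, bot_sup_eq, h4]))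
  have hVe := abelem_of_le hWe h5.left_le
  have h8 : ♯V = p := by
    rw [← Ohm_eq_self hVe]
    exact (isEp_Ohm_of_isCyclic (isCyclic_of_le' h.comp.isCyclic_Kc h6)
      (dvd_card_of_isPGroup (abelem_isPGroup hVe) h7)).card_one
  have hDL : L ≤ 𝐂(D) := h.comp.cent.trans (cent_anti (h.le_O h2 h3))
  have k1 : ∀ E ≤ D, E ≠ ⊥ → D ≤ O 𝐂(E) := fun E e1 e2 x hx => h.min.mem_O (fun e =>
    h.min.smp.norm_ne_top e2 (fun e => h.min.cent_ne_top (top_le_iff.1 (e ▸ (e1.trans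
      h5.right_le).trans hWn.le))) (top_le_iff.1 (e ▸ cent_le_norm E)))
    (h.comp.v4.pair.le.trans (hDL.trans (cent_anti e1)))
    (cent_anti (e1.trans h5.right_le) (abelem_le_cent hWe (h5.right_le hx))) (h2 hx) (h3 x hx)
  have k2 : ∀ g ∈ 𝐂[t], g ∉ N → D ⊔ g •ᶜ D = W := fun g hg hgN =>
    ((covBy_of_relIndex_prime h5.right_le (by rw [h5.relIndex_right, h8]; exact hp.out)).eq_or_eq
      le_sup_left (sup_le h5.right_le (conj_le_of_mem_norm (hWn.norm hg) h5.right_le))).resolve_left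
      fun e => hgN (h4.le (mem_norm_of_conj_le (le_sup_right.trans e.le)))
  have k3 : ∀ g ∈ 𝐂[t], g ∉ N → D ⊓ g •ᶜ D = ⊥ := fun g hg hgN => by_contra fun e => by
    have e1 := k1 _ (conj_le_iff_le_inv_conj (g := g⁻¹).2 (by rw [inv_inv]; exact inf_le_right))
      (mt conj_eq_bot_iff.1 e)
    rw [cent_conj] at e1
    have e2 := h5.left_le.trans ((k2 g hg hgN).ge.trans (sup_le (k1 _ inf_le_left e)
      (conj_le_iff_le_inv_conj.2 (e1.trans (Opi_conj _ _ _).le))))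
    exact h7 (eq_bot_iff.2 (h.comp.Kc_inf ▸ le_inf h6 ((((le_inf e2 (h6.trans h.comp.Kc_le)).trans
      (Opi_inf_le _ (hDL.trans (cent_anti inf_le_left)))).trans (Opi_le_of_normal _ h.comp.normal)).trans
        (h.comp.O_le_cent h.comp.v4.pair.s_mem))))
  obtain ⟨g, hg, hgN⟩ := SetLike.not_le_iff_exists.1 h.not_le
  have h9 : ♯D = p := by
    have := card_sup_of_inf_eq_bot (.inl (h5.right_le.trans (le_norm_of_ab (abelem_ab hWe)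
      (le_sup_right.trans (k2 g hg hgN).le)))) (k3 g hg hgN)
    rw [k2 g hg hgN, ← h5.card, h8, card_conj] at this
    exact (Nat.eq_of_mul_eq_mul_right (card_pos' D) this).symm
  have h10 : N.relIndex 𝐂[t] ≤ p := by
    have e1 := Set.ncard_le_ncard (s := classSupp (sharp D) 𝐂[t]) (t := sharp W)
      (classSupp_subset_of_conj (sharp_subset_sharp h5.right_le)
        fun g hg b hb => conj_mem_sharp (hWn.norm hg) hb)
    rw [h.ncard_classSupp h9 h4, ncard_sharp, ← h5.card, h8, h9, mul_self_tsub_one, mul_comm (p + 1)] at e1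
    have e2 := Nat.le_of_mul_le_mul_left e1 (Nat.sub_pos_of_lt hp.out.one_lt)
    have e3 : ¬ 2 ∣ N.relIndex 𝐂[t] := fun e =>
      h.min.pairC.syl.not_dvd (e.trans (relIndex_dvd_of_le_left _ hP.le))
    obtain ⟨k, hk⟩ := h8 ▸ odd_of_le hWo h5.left_le
    omega
  refine h.not_le ((top_inf_eq _).ge.trans (count le_top hP.t_mem (by rw [top_inf_eq]; exact h.cent_le)
    (fun g hg hgN x hx e => by_contra fun e' => hgN ?_) ((h.min.cO G ⊤ t s ρ h.min.v4).2 h.min.perfect).2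
    (h.comp.bound h.min.cO) ?_))
  · have e1 := mul_mem (mul_mem hx hP.t_mem) (inv_mem hx)
    refine h.mem_of_conj hg.2 ⟨e1, ?_⟩ (conj_sq hP.t_sq x) (conj_ne_one.2 hP.t_ne) e' e
    rw [← h.min.norm_eq hWn fun e => h7 (eq_bot_iff.2 (e ▸ h5.left_le)), ← k2 g hg.2 hgN]
    exact mem_norm_sup (h4.ge e1) (by rwa [norm_conj, h4, mem_conj])
  · rw [top_inf_eq, h.comp.kI_eq]
    exact h10.trans (h8.ge.trans ((card_le h6).trans h.comp.card_Kc_le))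

end Bad

end Cfsg.Agent.GW
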