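import Cfsg.Agent.Lib.GW.Local2

/-!
# Case B: an extraspecial normal subgroup of `C(t)`
-/

set_option autoImplicit false

namespace Cfsg.Agent.GW

open Subgroup Cfsg.Agent.OO Cfsg.Agent.Coprime Cfsg.Agent.Sig
open scoped commutatorElement Pointwise

universe u

variable {G : Type u} [Group G] [Finite G] {D E J L N R V X Γ : Subgroup G} {p : ℕ}
  {t s ρ a b g v w x : G}

theorem relIndex_cent_le (h : ∀ g ∈ Γ, ⁅g, w⁆ ∈ V) : (𝐂[w]).relIndex Γ ≤ ♯V := by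
  rw [← ncard_conj]
  refine Set.ncard_le_ncard_of_injOn (· * w⁻¹) ?_ (mul_left_injective _).injOn
  rintro _ ⟨g, hg, rfl⟩
  exact h g hg

theorem commutator_inf_le_der (hs : s * s = 1) (hn : s ∈ 𝐍(E)) (ho : Odd ♯E) :
    ⁅E, zpowers s⁆ ⊓ 𝐂[s] ≤ der E := fun x hx => by
  have h1 := zpowers_le.2 (norm_le_norm_der E hn)
  have h2 := (der_normal E).norm
  have h3 := coprime_abel_cent_TI (quo_le_norm (der E) (zpowers_le.2 hn)) ((coprime_zp ho hs).coprime_dvd_left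
    (card_quo_dvd _ _) |>.coprime_dvd_right (card_quo_dvd _ _)) (ab_quo_of_der_le le_rfl)
  rw [← quo_commutator h2 h1, quo_zpowers (h1 (mem_zpowers s)), cent_zpowers] at h3
  exact (coset_eq_one_iff (h2 (commutator_le_left' (zpowers_le.2 hn) hx.1))).1 (mem_bot.1 (h3 ▸
    (⟨coset_mem_quo _ hx.1, coset_mem_cent1 (h1 (mem_zpowers s)) hx.2⟩ : _ ∈ _ ⊓ 𝐂[coset _ s])))

theorem V4.le_cent_of_even [Fact p.Prime] (h : V4 J t s ρ) (h' : Pair ⊤ t s)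
    (he : ∀ R : Subgroup G, IsPGroup p R → ¬ Odd ♯(𝐂(R))) (hX : X ≤ O J) (hp : IsPGroup p X)
    (hn : S4 t s ≤ 𝐍(X)) : X ≤ 𝐂[s] := by
  have hP := h.pair
  have h0 := hP.le.trans (O_norm J)
  obtain ⟨R, hR, h1, h2⟩ := coprime_Hall_subset h0 (hP.coprime (odd_O J)) (sol_of_odd (odd_O J)) hX
    (piGrp_singleton hp) hn
  obtain ⟨a, ha, a1⟩ := exists_mem_ne_one (((h'.mono' h1 le_top).syl.normal_inf
    ⟨cent_le_norm R, norm_le_norm_cent R⟩).ne_bot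
    (even_iff_two_dvd.1 (Nat.not_odd_iff_even.1 (he R hR.syl.isPGroup))))
  obtain ⟨g, hg, rfl⟩ := h.exists_conj_of_mem ha.2 a1
  have h4 : ρ * g⁻¹ ∈ zpowers ρ := mul_mem (mem_zpowers ρ) (inv_mem hg)
  obtain ⟨x, hx, e⟩ := coprime_Hall_trans h0 (hP.coprime (odd_O J)) (sol_of_odd (odd_O J)) hR h1
    (conj_eq_of_mem_norm (O_norm J (zpowers_le.2 h.ρ_mem h4)) ▸ hR.conj (ρ * g⁻¹))
    (conj_eq_of_mem_norm (zpowers_le.2 h.mem_norm h4) ▸ conj_le_norm_conj.2 h1)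
  refine h2.trans (e.le.trans (conj_le_of_mem_norm (le_norm_self _ (cent_S4 t s ▸ hx.2).2) ?_))
  refine (conj_mono _ (le_cent1_iff.2 ha.1)).trans ?_
  rw [← cent1_conj, ← h.ρt]
  simp [mul_assoc]

namespace Min

variable (h : Min t s ρ)
include h

theorem cent1_ne_top (hw : w ≠ 1) : 𝐂[w] ≠ ⊤ := fun e => h.smp.norm_ne_top (mt zpowers_eq_bot.1 hw)
  (fun e' => h.cent_ne_top (top_le_iff.1 (e' ▸ zpowers_le.2 (mem_cent1_comm.1 (e.ge trivial)))))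
  (top_le_iff.1 (e ▸ cent_zpowers w ▸ cent_le_norm _))

variable [hp : Fact p.Prime] (hV : V ⊴ 𝐂[t]) (h1 : ♯V = p) (h2 : V ⊓ 𝐂[s] = ⊥)
include hV h1 h2

omit h2 in
theorem cent_le (hv : v ∈ V) (hv1 : v ≠ 1) : 𝐂[v] ≤ 𝐂[t] := by
  rw [← h.norm_eq hV (ne_bot_of_prime_dvd hp.out h1.symm.dvd),
    ← eq_zpowers_of_prime (h1 ▸ hp.out) hv hv1, ← cent_zpowers]
  exact cent_le_norm _

theorem eq_of_cent (hv : v ∈ V) (hv1 : v ≠ 1) (ha : a ∈ 𝐂[v]) (a1 : a ≠ 1) (a2 : a * a = 1) :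
    a = t := by_contra fun e => by
  obtain ⟨g, hg, e⟩ := h.v4.pair.exists_pair ⟨trivial, h.cent_le hV h1 hv hv1 ha⟩ a1 a2 e
  have h3 : g •ᶜ S4 t a ≤ 𝐂[g * v * g⁻¹] := cent1_conj g v ▸ conj_mono g
    (S4_le.2 ⟨mem_cent1_comm.1 (hV.le hv), ha⟩)
  exact conj_ne_one.2 hv1 (mem_bot.1 (h2.le ⟨hV.conj_mem hg.2 hv,
    mem_cent1_comm.1 (h3 (e ▸ s_mem_S4 t s))⟩))

theorem not_odd_cent (hR : IsPGroup p R) : ¬ Odd ♯(𝐂(R)) := by
  obtain ⟨P, hP⟩ := exists_syl p 𝐂[t]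
  obtain ⟨v, hv, hv1⟩ := exists_mem_ne_one (ne_bot_of_prime_dvd hp.out h1.symm.dvd)
  have h3 := hP.le_of_normal hV (IsPGroup.of_card (h1.trans (pow_one p).symm)) hv
  have h4 : Syl p P ⊤ := IsSylowIn.of_syl_norm le_top (hP.mono (le_inf le_top (le_norm_self P))
    fun g hg => mem_cent1_iff_conj.2 (h.eq_of_cent hV h1 h2 hv hv1 (mem_cent1_comm.1 (by
      rw [cent1_conj, mem_conj]; exact hP.le (conj_mem_of_norm' hg.2 h3)))
      (conj_ne_one.2 h.v4.t_ne) (conj_sq h.v4.t_sq g)))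
  obtain ⟨g, -, e⟩ := h4.exists_conj_le le_top hR
  refine fun e' => not_mem_of_odd e' (conj_ne_one.2 h.v4.t_ne) (conj_sq h.v4.t_sq g⁻¹)
    (le_cent1_iff.1 ?_)
  rw [cent1_conj]
  exact conj_le_iff_le_inv_conj.1 (e.trans hP.le)

end Min

namespace Bad

variable (h : Bad N L t s ρ)
include h

theorem O_eq (cA : CharA.{u}) : ⁅O 𝐂[t], zpowers s⁆ ⊔ L ⊓ O N = O 𝐂[t] := by
  have hP := h.min.pairC
  have h1 := zpowers_le.2 (O_norm _ hP.s_mem)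
  have h2 : O 𝐂[t] ⊓ 𝐂[s] ≤ 𝐂[t] ⊓ 𝐂[s] := inf_le_inf_right _ (Opi_le _ _)
  refine cA G t s ρ h.min.simple h.min.v4 h.min.isCoatom _ ⟨sup_le (commutator_le_left' h1)
    (h.min.le_U (inf_le_right.trans (h.comp.O_le_cent h.comp.v4.t_mem))
      (odd_of_le (odd_O N) inf_le_right)), ?_⟩ le_sup_left fun b hb => mem_sup_right ?_
  · refine (coprime_cent_prod h1 (coprime_zp (odd_O _) hP.s_sq) (.inl (sol_of_odd (odd_O _)))).ge.trans ?_
    rw [cent_zpowers]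
    exact sup_le (le_norm_of_le le_sup_left) (le_norm_sup (inf_le_left.trans
      (le_norm_commutator_left _ _)) ((h2.trans h.cent_le).trans
        (le_norm_inf h.comp.normal.norm (O_norm N))))
  have h3 : ⁅b, ρ⁆ ∈ L := commutator_le_right' (h.cent_le.trans h.comp.normal.norm)
    (commutator_mem_commutator (h2 hb) h.comp.v4.ρ_mem)
  have h4 : ρ * b⁻¹ * ρ⁻¹ ∈ 𝐂[t] ⊓ 𝐂[s] :=
    h.min.cent_norm h.min.v4.mem_norm ▸ conj_mem_conj (inv_mem (h2 hb))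
  have h5 : ⁅b, ρ⁆ ∈ O 𝐂[t] ⊓ 𝐂[s] := by
    rw [commutatorElement_def, mul_assoc, mul_assoc, ← mul_assoc ρ]
    exact mul_mem hb ⟨zpowers_le.1 (h.min.le_U (zpowers_le.2 h4.1) (by
      rw [Nat.card_zpowers, orderOf_conj, orderOf_inv]; exact odd_of_mem (odd_O _) hb.1)), h4.2⟩
  exact ⟨h3, h.comp.mem_O ⟨⟨h3, (h2 h5).1⟩, h5.2⟩ (odd_of_mem (odd_O _) h5.1)⟩

variable [hp : Fact p.Prime]

theorem Op_le_commutator (cA : CharA.{u}) (h0 : Op p (O 𝐂[t]) ≠ ⊥) :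
    Op p (O 𝐂[t]) ≤ ⁅O 𝐂[t], zpowers s⁆ := by
  refine (Op_piGrp p _).le_of_relIndex (Op_le _ _) (le_norm_commutator_left _ _) ?_
  nth_rewrite 2 [← h.O_eq cA]
  rw [relIndex_sup_eq' (.inr ((le_sup_right.trans (h.O_eq cA).le).trans (le_norm_commutator_left _ _)))]
  exact ((piGrp_compl_singleton hp.out).2 (h.comp.not_dvd_center (h.dvd_Kc h0))).relIndex _

end Bad

/-- a minimal normal subgroup of `C(t)` in `O_p(U)` not inverted by `s` -/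
structure Ex (t s : G) (p : ℕ) (E : Subgroup G) : Prop where
  normal : E ⊴ 𝐂[t]
  le : E ≤ Op p (O 𝐂[t])
  ne_bot : E ⊓ 𝐂[s] ≠ ⊥
  inf_eq : der E ⊓ 𝐂[s] = ⊥
  cent : E ≤ 𝐂(der E)
  pow : ∀ x ∈ E, x ^ p = 1

namespace Bad

variable [hp : Fact p.Prime] (h : Bad N L t s ρ)
include h

theorem exists_ex (cA : CharA.{u}) (h0 : Op p (O 𝐂[t]) ⊓ 𝐂[s] ≠ ⊥) : ∃ E, Ex t s p E := by
  obtain ⟨E, h1, ⟨h2, h3⟩, h4⟩ := Core.exists_minimal_le (P := fun E => E ⊴ 𝐂[t] ∧ E ⊓ 𝐂[s] ≠ ⊥)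
    ⟨(Opi_normal _ _ : O 𝐂[t] ⊴ _).Op p, h0⟩
  have hE := (Op_isPGroup p _).to_le h1
  have h5 : der E ⊓ 𝐂[s] = ⊥ := by_contra fun e => (der_lt (sol_of_isPGroup hE)
    fun e => h3 (by rw [e, bot_inf_eq])).ne (h4 _ ⟨h2.der, e⟩ (der_le E))
  have h6 := (h1.trans (h.Op_le_commutator cA fun e => h0 (by rw [e, bot_inf_eq]))).trans
    (commutator_le_cent h.min.pairC.s_sq ((Opi_le _ _).trans h2.der.norm)
      (h2.der.norm h.min.pairC.s_mem) h5)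
  refine ⟨E, h2, h1, h3, h5, h6, fun x hx => (exponent_odd_nil23 hE (odd_of_le (odd_O _)
    (h1.trans (Op_le _ _))) (.inl ((nilpotencyClass_le_two_iff (nil_of_isPGroup hE)).2
      (le_inf (der_le E) (le_cent_symm h6))))).1 x ((h4 _ ⟨h2.Ohm p, ?_⟩ (Ohm_le p E)).ge hx)⟩
  rw [inf_comm]
  exact inf_Ohm_ne_bot hE (by rwa [inf_comm])

variable (e : Ex t s p E)
include e

theorem ex_norm : 𝐍(E ⊓ 𝐂[s]) = N := h.norm_eq (inf_le_inf_right _ e.le) (fun x hx => e.pow x hx.1)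
  e.ne_bot (le_norm_inf (inf_le_left.trans e.normal.norm) (le_norm_of_le inf_le_right))

theorem ex_le_O : E ⊓ 𝐂[s] ≤ O N := h.le_O (inf_le_inf_right _ e.le) fun x hx => e.pow x hx.1

omit h hp in
theorem _root_.Cfsg.Agent.GW.Ex.odd : Odd ♯E := odd_of_le (odd_O _) (e.le.trans (Op_le _ _))

theorem der_le_Kc : der E ≤ Kc N t s := h.comp.v4N.pair.le_Kc (le_inf
  ((le_norm_of_le_cent (le_cent_symm (inf_le_left.trans e.cent))).trans (h.ex_norm e).le)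
  e.normal.der.le) (odd_of_le e.odd (der_le E)) (e.normal.der.norm h.min.pairC.s_mem) e.inf_eq

theorem card_der : ♯(der E) = p := by
  have h1 := isCyclic_of_le' h.comp.isCyclic_Kc (h.der_le_Kc e)
  rw [← Ohm_eq_self (A := der E) ⟨ab_of_isCyclic h1, fun x hx => e.pow x (der_le E hx)⟩]
  exact (isEp_Ohm_of_isCyclic h1 (dvd_card_of_isPGroup ((Op_isPGroup p _).to_le ((der_le E).trans e.le))
    fun e' => e.ne_bot (h.inf_eq_bot_of_ab e.normal e.le (ab_iff_der.2 e')))).card_one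

theorem comm_inf : ⁅E, zpowers s⁆ ⊓ 𝐂[s] = ⊥ := eq_bot_iff.2 (e.inf_eq ▸ le_inf
  (commutator_inf_le_der h.min.pairC.s_sq (e.normal.norm h.min.pairC.s_mem) e.odd) inf_le_right)

theorem comm_inf_le (hw : w ∈ E ⊓ 𝐂[s]) (h1 : w ≠ 1) : ⁅E, zpowers s⁆ ⊓ 𝐂[w] = der E := by
  have hP := h.min.pairC
  have hL : L ≤ 𝐂[w] := h.comp.cent.trans (cent_le_cent1 (h.ex_le_O e hw))
  have hJ := h.min.v4.mono (hL h.comp.v4.t_mem) (hL h.comp.v4.ρ_mem) le_top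
  obtain ⟨Q, hQ⟩ : ∃ Q, Q = ⁅E, zpowers s⁆ ⊓ 𝐂[w] := ⟨_, rfl⟩
  have h2 : Q ≤ E := hQ.le.trans (inf_le_left.trans
    (commutator_le_left' (zpowers_le.2 (e.normal.norm hP.s_mem))))
  have h3 : Q ⊓ 𝐂[s] = ⊥ := eq_bot_iff.2 (h.comm_inf e ▸ inf_le_inf_right _ (hQ.le.trans inf_le_left))
  have h4 : S4 t s ≤ 𝐍(Q) := hQ ▸ le_norm_inf (le_norm_commutator (hP.le.trans e.normal.norm)
    (le_norm_of_ab hP.ab le_sup_right)) (le_norm_of_le hJ.pair.le)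
  have h5 := hJ.pair.isCyclic h.min.ih (card_lt (h.min.cent1_ne_top h1).lt_top) (le_inf
    (hQ.le.trans inf_le_right) (h2.trans e.normal.le)) (odd_of_le e.odd h2)
    (commutator_eq_of_inf_eq_bot hP.s_sq (h4 (s_mem_S4 t s)) (odd_of_le e.odd h2) h3)
    (eq_bot_iff.2 (h3 ▸ le_inf inf_le_right (hJ.le_cent_of_even h.min.v4.pair
      (fun R => h.min.not_odd_cent e.normal.der (h.card_der e) e.inf_eq) inf_le_left
      ((Op_isPGroup p _).to_le (inf_le_right.trans (h2.trans e.le)))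
      (le_norm_inf (hJ.pair.le.trans (O_norm _)) h4))))
  rw [← hQ, ← Ohm_eq_self (A := Q) ⟨ab_of_isCyclic h5, fun x hx => e.pow x (h2 hx)⟩]
  refine (IsEp.eq_Ohm_of_isCyclic (isEp_one_iff.2 ⟨hQ ▸ le_inf ?_ (le_cent1_iff.2 (e.cent hw.1)),
    h.card_der e⟩) h5).symm
  exact (commutator_eq_of_inf_eq_bot hP.s_sq (e.normal.der.norm hP.s_mem) (odd_of_le e.odd (der_le E))
    e.inf_eq).ge.trans (commutator_mono (der_le E) le_rfl)

theorem ex_sup : ⁅E, zpowers s⁆ ⊔ E ⊓ 𝐂[s] = E := by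
  simpa [cent_zpowers] using coprime_cent_prod (zpowers_le.2 (e.normal.norm h.min.pairC.s_mem))
    (coprime_zp e.odd h.min.pairC.s_sq) (.inl (sol_of_odd e.odd))

theorem exists_not_mem : ∃ x ∈ ⁅E, zpowers s⁆, x ∉ der E := SetLike.not_le_iff_exists.1 fun h1 => by
  have h2 : Ab (E ⊓ 𝐂[s]) := ab_iff_der.2 (eq_bot_iff.2 (e.inf_eq ▸ le_inf (der_mono inf_le_left)
    ((der_le _).trans inf_le_right)))
  have h3 := h1.trans (le_cent_symm e.cent)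
  have h4 := commutator_le_left' (zpowers_le.2 (e.normal.norm h.min.pairC.s_mem))
  exact e.ne_bot (h.inf_eq_bot_of_ab e.normal e.le (h.ex_sup e ▸ ab_sup
    (ab_iff_le_cent.2 (h3.trans (cent_anti h4))) h2 (h3.trans (cent_anti inf_le_left))))

theorem card_inf : ♯(E ⊓ 𝐂[s]) = p := by
  obtain ⟨x, hx, h1⟩ := h.exists_not_mem e
  have h2 := card_inf_mul_relIndex 𝐂[x] (E ⊓ 𝐂[s])
  have h3 := (relIndex_cent_le (w := x) fun g (hg : g ∈ E ⊓ 𝐂[s]) => commutator_mem_commutator hg.1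
    (commutator_le_left' (zpowers_le.2 (e.normal.norm h.min.pairC.s_mem)) hx)).trans (h.card_der e).le
  rw [show 𝐂[x] ⊓ (E ⊓ 𝐂[s]) = ⊥ from eq_bot_iff.2 fun w hw => by_contra fun w1 =>
    h1 ((h.comm_inf_le e hw.2 w1).le ⟨hx, mem_cent1_comm.1 hw.1⟩), card_bot, one_mul] at h2
  exact le_antisymm (h2 ▸ h3) (Nat.le_of_dvd (card_pos' _) (dvd_card_of_isPGroup
    ((Op_isPGroup p _).to_le (inf_le_left.trans e.le)) e.ne_bot))

theorem relIndex_le : N.relIndex 𝐂[t] ≤ p * (p + 1) := by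
  obtain ⟨w, hw, w1⟩ := exists_mem_ne_one e.ne_bot
  have h1 := commutator_le_left' (zpowers_le.2 (e.normal.norm h.min.pairC.s_mem))
  have h2 := card_inf_mul_relIndex 𝐂[w] ⁅E, zpowers s⁆
  have h3 := (relIndex_cent_le (w := w) fun g (hg : g ∈ ⁅E, zpowers s⁆) =>
    commutator_mem_commutator (h1 hg) hw.1).trans (h.card_der e).le
  have h4 := Nat.le_of_dvd (Nat.mul_pos (card_pos' _) (card_pos' _)) (card_sup_dvd (A := ⁅E, zpowers s⁆)
    (B := E ⊓ 𝐂[s]) (.inr (inf_le_left.trans (le_norm_commutator_left _ _))))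
  rw [inf_comm, h.comm_inf_le e hw w1, h.card_der e] at h2
  rw [h.ex_sup e, h.card_inf e, ← h2] at h4
  have h5 := Set.ncard_le_ncard (s := classSupp (sharp (E ⊓ 𝐂[s])) 𝐂[t]) (t := E \ der E)
    (classSupp_subset_of_conj (fun x hx => ⟨hx.1.1, fun e' => hx.2 (mem_bot.1 (e.inf_eq.le ⟨e', hx.1.2⟩))⟩)
      fun g hg b hb => ⟨e.normal.conj_mem hg hb.1, fun e' =>
        hb.2 ((mem_norm_iff.1 (e.normal.der.norm hg) b).2 e')⟩)
  rw [h.ncard_classSupp (h.card_inf e) (h.ex_norm e), Set.ncard_diff (der_le E)] at h5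
  refine Nat.le_of_mul_le_mul_left (h5.trans ?_) (Nat.sub_pos_of_lt hp.out.one_lt)
  change ♯E - ♯(der E) ≤ _
  rw [h.card_der e, ← mul_assoc, mul_comm _ p, mul_assoc, mul_comm (p - 1), ← mul_self_tsub_one,
    Nat.mul_sub_one]
  exact Nat.sub_le_sub_right (h4.trans (by rw [mul_assoc]; gcongr)) _

theorem exists_conj (hw : w ∈ E ⊓ 𝐂[s]) (h1 : w ≠ 1) (ha : a ∈ der E) :
    ∃ g ∈ E, g * w * g⁻¹ = w * a := by
  obtain ⟨x, hx, h2⟩ := h.exists_not_mem e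
  have h3 := commutator_le_left' (zpowers_le.2 (e.normal.norm h.min.pairC.s_mem)) hx
  have h4 : ⁅w⁻¹, x⁆ ∈ der E := commutator_mem_commutator (inv_mem hw.1) h3
  rw [← eq_zpowers_of_prime (h.card_der e ▸ hp.out) h4 fun e' => h2 ((h.comm_inf_le e hw h1).le
    ⟨hx, mem_cent1.2 (Commute.inv_left_iff.1 (commutatorElement_eq_one_iff_commute.1 e')).symm⟩),
    ← mem_powers_iff_mem_zpowers] at ha
  obtain ⟨n, rfl⟩ := ha
  induction n with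
  | zero => exact ⟨1, one_mem _, by simp⟩
  | succ n ih =>
    obtain ⟨g, hg, h5⟩ := ih
    refine ⟨g * x, mul_mem hg h3, ?_⟩
    have h6 := mem_cent_iff_conj.1 (e.cent hg) _ h4
    dsimp only at h5 ⊢
    rw [pow_succ, ← mul_assoc, ← h5, ← h6, commutatorElement_def]
    group

end Bad

end Cfsg.Agent.GW
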