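import Cfsg.Agent.Lib.GW.Local3

/-!
# Case B does not occur
-/

set_option autoImplicit false

namespace Cfsg.Agent.GW

open Subgroup Cfsg.Agent.OO Cfsg.Agent.Coprime Cfsg.Agent.Sig
open scoped commutatorElement Pointwise

universe u

theorem card_pairs {α β : Type*} [Finite α] [Finite β] (A : Set α) (R : α → α → Prop) (c : ℕ)
    (f : α → α → β) (h1 : ∀ a ∈ A, {b | b ∈ A ∧ ¬ R a b}.ncard ≤ c)
    (h2 : ∀ a ∈ A, ∀ b ∈ A, ∀ a' ∈ A, ∀ b' ∈ A, R a b → f a b = f a' b' → a = a' ∧ b = b') :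
    A.ncard * (A.ncard - c) ≤ Nat.card β := by
  classical
  have := Fintype.ofFinite α
  have := Fintype.ofFinite β
  have h3 := Finset.card_le_card_of_injOn (s := A.toFinset.sigma fun a => A.toFinset.filter (R a))
    (t := Finset.univ) (fun z => f z.1 z.2) (fun _ _ => Finset.mem_univ _) (by
      rintro ⟨a, b⟩ hz ⟨a', b'⟩ hz' e
      simp only [Finset.coe_sigma, Set.mem_sigma_iff, Finset.mem_coe, Finset.mem_filter,
        Set.mem_toFinset] at hz hz'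
      obtain ⟨rfl, rfl⟩ := h2 a hz.1 b hz.2.1 a' hz'.1 b' hz'.2.1 hz.2.2 e
      rfl)
  rw [Finset.card_sigma, Finset.card_univ, ← Nat.card_eq_fintype_card] at h3
  refine le_trans ?_ h3
  nth_rewrite 1 [Set.ncard_eq_toFinset_card']
  refine Finset.card_nsmul_le_sum _ _ _ fun a ha => ?_
  have h4 := h1 a (Set.mem_toFinset.1 ha)
  have h5 := Finset.card_filter_add_card_filter_not (s := A.toFinset) (R a)
  rw [show {b | b ∈ A ∧ ¬ R a b} = ↑(A.toFinset.filter fun b => ¬ R a b) by ext; simp,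
    Set.ncard_coe_finset] at h4
  rw [Set.ncard_eq_toFinset_card']
  omega

theorem arith_final {I n g m k q : ℕ} (h1 : I * n = g * m) (h2 : g ≤ 15 * (m * k) ^ 2)
    (h3 : 40 * k ^ 2 ≤ 7 * n) (h4 : q + 1 ≤ k) (h5 : 2 ≤ q) (h6 : m ≤ (q + 1) * (q + 1 + 1))
    (h7 : q * n * (q * n - q * (8 * k + 3)) ≤ I) : False := by
  obtain ⟨d, rfl⟩ : ∃ d, n = 8 * k + 3 + d := ⟨n - (8 * k + 3), by
    have : 8 * k + 3 ≤ n := by nlinarith
    omega⟩
  rw [← Nat.mul_sub, Nat.add_sub_cancel_left] at h7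
  obtain ⟨n, hn⟩ : ∃ n, n = 8 * k + 3 + d := ⟨_, rfl⟩
  rw [← hn] at h1 h3 h7
  have h8 : k ^ 2 * (8 * (q ^ 2 * n * d)) ≤ k ^ 2 * (21 * m ^ 3) := by
    have e1 : q * n * (q * d) * n ≤ 15 * (m * k) ^ 2 * m :=
      (Nat.mul_le_mul_right n h7).trans (h1.le.trans (Nat.mul_le_mul_right m h2))
    have e2 := Nat.mul_le_mul_left (q ^ 2 * n * d) h3
    nlinarith
  have h9 := Nat.le_of_mul_le_mul_left h8 (pow_pos (by omega) 2)
  obtain ⟨j, rfl⟩ := Nat.exists_eq_add_of_le h5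
  have h10 : 40 * (2 + j + 1) ^ 2 ≤ 7 * n := le_trans (by gcongr) h3
  have h11 : 40 * j ^ 2 + 184 * j + 171 ≤ 7 * d := by
    obtain ⟨i, rfl⟩ := Nat.exists_eq_add_of_le h4
    nlinarith
  have h12 : m ^ 3 ≤ ((2 + j + 1) * (2 + j + 1 + 1)) ^ 3 := by gcongr
  have h13 := Nat.mul_le_mul (Nat.mul_le_mul_left ((2 + j) ^ 2) h10) h11
  have h14 : (2 + j + 1) ^ 2 * (320 * (2 + j) ^ 2 * (40 * j ^ 2 + 184 * j + 171)) ≤
      (2 + j + 1) ^ 2 * (1029 * (2 + j + 1) * (2 + j + 1 + 1) ^ 3) := by nlinarith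
  have h15 := Nat.le_of_mul_le_mul_left h14 (by positivity)
  ring_nf at h15
  omega

variable {G : Type u} [Group G] [Finite G] {E L N X : Subgroup G} {p : ℕ} {t s ρ a b c d w x y : G}

theorem Pair.exists_conj_le (h : Pair N t s) (hx : x ∈ N) (hy : y ∈ N) (h1 : Odd (orderOf x))
    (h2 : Odd (orderOf y)) (h3 : ¬ Odd ♯(zpowers x ⊔ zpowers y)) :
    ∃ g ∈ N, g •ᶜ S4 t s ≤ zpowers x ⊔ zpowers y := by
  obtain ⟨P, hP⟩ := exists_syl 2 (zpowers x ⊔ zpowers y)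
  obtain ⟨g, hg, e⟩ := h.syl.exists_conj_le (hP.le.trans (sup_le (zpowers_le.2 hx) (zpowers_le.2 hy)))
    hP.isPGroup
  refine ⟨g⁻¹, inv_mem hg, le_trans (conj_le_iff_le_inv_conj.2 ?_) hP.le⟩
  rw [inv_inv]
  by_contra h4
  have h5 : ♯P ∣ 2 := by
    have h6 := card_dvd e
    have h7 := card_lt (lt_of_le_not_ge e h4)
    rw [card_conj, h.card] at h6 h7
    have := card_pos' P
    interval_cases h8 : ♯P <;> simp_all
  have h6 := cyclic_pdiv_normal_complement hP (isCyclic_of_card_dvd_prime h5) fun q hq _ => hq.two_le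
  have h7 := fun K hK e => (h6.hall_left (Op'_piGrp 2 _) hP.piGrp.compl_compl).le_of_normal_hall
    (K := K) h6.normal.norm hK (odd_iff.1 e)
  exact h3 (odd_of_le (odd_O _) (sup_le (h7 _ le_sup_left (by rwa [Nat.card_zpowers]))
    (h7 _ le_sup_right (by rwa [Nat.card_zpowers]))))

namespace Bad

variable [hp : Fact p.Prime] (h : Bad N L t s ρ) (e : Ex t s p E)
include h e

theorem der_le_inf : der E ≤ L ⊓ 𝐂[t] := le_inf ((h.der_le_Kc e).trans h.comp.Kc_le) e.normal.der.le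

theorem dvd_Kc' : p ∣ ♯(Kc N t s) := h.card_der e ▸ card_dvd (h.der_le_Kc e)

theorem ne_two : p ≠ 2 := fun e' => h.comp.v4N.pair.odd_Kc.not_two_dvd_nat (e' ▸ h.dvd_Kc' e)

theorem orderOf_eq (ha : a ∈ der E) (h1 : a ≠ 1) : orderOf a = p :=
  orderOf_eq_prime (e.pow a (der_le E ha)) h1

theorem ncard_A : (classSupp (sharp (der E)) L).ncard = (p - 1) * nI L t := by
  have h0 := ne_bot_of_prime_dvd hp.out (h.card_der e).symm.dvd
  rw [(normedTI_sharp_of_inf_conj (L := 𝐂[t] ⊓ L) h0 inf_le_right (inf_le_left.trans e.normal.der.norm)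
    fun g hg e' => ⟨(h.min.norm_eq e.normal.der h0).le (conj_eq_self_iff.1 (eq_of_le_of_card_le
      (le_of_prime_of_inf_ne_bot (h.card_der e ▸ hp.out) e') (card_conj g _).le).symm), hg⟩).ncard_classSupp,
    ncard_sharp, h.card_der e, inf_relIndex_right]

variable (ha : a ∈ classSupp (sharp (der E)) L)
include ha

theorem mem_A : a ∈ L ∧ orderOf a = p := by
  obtain ⟨v, hv, l, hl, rfl⟩ := mem_classSupp_iff.1 ha
  exact ⟨mul_mem (mul_mem hl (h.der_le_inf e hv.1).1) (inv_mem hl), by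
    rw [orderOf_conj, h.orderOf_eq e hv.1 hv.2]⟩

theorem exists_conj_A (hw : w ∈ E ⊓ 𝐂[s]) (h1 : w ≠ 1) : ∃ g ∈ 𝐂[a], g * w * g⁻¹ = w * a := by
  obtain ⟨v, hv, l, hl, rfl⟩ := mem_classSupp_iff.1 ha
  obtain ⟨g, hg, h2⟩ := h.exists_conj e hw h1 hv.1
  have h3 := mem_cent1_iff_conj.1 (cent_le_cent1 (h.ex_le_O e hw) (h.comp.cent hl))
  refine ⟨l * g * l⁻¹, cent1_conj l v ▸ conj_mem_conj (cent_le_cent1 hv.1 (e.cent hg)), ?_⟩
  calc _ = l * g * l⁻¹ * (l * w * l⁻¹) * (l * g * l⁻¹)⁻¹ := by rw [h3]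
    _ = l * (g * w * g⁻¹) * l⁻¹ := by group
    _ = _ := by rw [h2, ← conj_mul, h3]

theorem eq_of_cent_A (hb : b ∈ classSupp (sharp (der E)) L) (hab : b ∈ 𝐂[a]) (hc : c ∈ 𝐂[a⁻¹ * b])
    (hd : d ∈ 𝐂[a⁻¹ * b]) (c1 : c ≠ 1) (c2 : c * c = 1) (d1 : d ≠ 1) (d2 : d * d = 1) (hcd : c ≠ d) :
    a = b := by
  obtain ⟨v, hv, l, hl, rfl⟩ := mem_classSupp_iff.1 ha
  obtain ⟨b1, b2⟩ := h.mem_A e (classSupp_conj_mem hb (inv_mem hl))
  rw [cent1_conj, mem_conj, ← inv_inv l, inv_inv l⁻¹] at hab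
  have h1 := h.comp.le_Kc (h.dvd_Kc' e) (zpowers_le.2 ⟨b1, h.min.cent_le e.normal.der (h.card_der e)
    hv.1 hv.2 hab⟩) (isEp_zpowers b1 b2).isPGroup
  have h2 : l⁻¹ * b * l⁻¹⁻¹ ∈ der E := by
    rw [(isEp_one_iff.2 ⟨h.der_le_Kc e, h.card_der e⟩).eq_Ohm_of_isCyclic h.comp.isCyclic_Kc]
    exact mem_Ohm (h1 (mem_zpowers _)) (b2 ▸ pow_orderOf_eq_one _)
  have h3 : (l * v * l⁻¹)⁻¹ * b = l * (v⁻¹ * (l⁻¹ * b * l⁻¹⁻¹)) * l⁻¹ := by group
  by_contra h4
  have k := fun c (hc : c ∈ 𝐂[(l * v * l⁻¹)⁻¹ * b]) (c1 : c ≠ 1) c2 => h.min.eq_of_cent e.normal.der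
    (h.card_der e) e.inf_eq (mul_mem (inv_mem hv.1) h2) (fun e' => h4 (inv_mul_eq_one.1 (by
      rw [h3, e']; simp))) (by rwa [h3, cent1_conj, mem_conj, ← inv_inv l, inv_inv l⁻¹] at hc)
      (conj_ne_one.2 c1) (conj_sq c2 l⁻¹)
  exact hcd (by simpa using (k c hc c1 c2).trans (k d hd d1 d2).symm)

theorem ncard_odd_le : {b | b ∈ classSupp (sharp (der E)) L ∧ ¬ ¬ Odd ♯(zpowers a ⊔ zpowers b)}.ncard ≤
    (p - 1) * (8 * kI L t s + 3) := by
  have h1 := h.mem_A e ha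
  obtain ⟨v, hv, l, hl, rfl⟩ := mem_classSupp_iff.1 ha
  have h2 := (h.comp.conj hl).ncard_le (h.comp.not_dvd_center (h.dvd_Kc' e)) (h.ne_two e)
    ⟨h1.1, cent1_conj l t ▸ conj_mem_conj (h.der_le_inf e hv.1).2⟩ h1.2
  rw [kI, cent1_conj, cent1_conj, ← conj_eq_of_mem hl, ← conj_inf, relIndex_conj,
    conj_eq_of_mem hl] at h2
  refine le_trans (Set.ncard_le_ncard fun b hb => ?_) h2
  exact ⟨(h.mem_A e hb.1).1, (h.mem_A e hb.1).2, not_not.1 hb.2⟩

omit ha in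
theorem false : False := by
  obtain ⟨w, hw, w1⟩ := exists_mem_ne_one e.ne_bot
  have hD := eq_zpowers_of_prime (h.card_inf e ▸ hp.out) hw w1
  have hN : 𝐍(zpowers w) = N := hD ▸ h.ex_norm e
  have hwo : orderOf w = p := by rw [← Nat.card_zpowers, hD, h.card_inf e]
  have hL : L ≤ 𝐂[w] := h.comp.cent.trans (cent_le_cent1 (h.ex_le_O e hw))
  have hwN := Opi_le _ _ (h.ex_le_O e hw)
  have hwL : w ∉ L := fun e' => h.comp.not_dvd_center (h.dvd_Kc' e)
    (hwo ▸ OO.orderOf_dvd_card (⟨e', h.ex_le_O e hw⟩ : w ∈ L ⊓ O N))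
  have ho := hp.out.odd_of_ne_two (h.ne_two e)
  choose! g hg hg' using fun a ha => h.exists_conj_A e (a := a) ha hw w1
  have k1 : ∀ a ∈ classSupp (sharp (der E)) L, zpowers (w * a) ⊓ L = ⊥ := fun a ha =>
    inf_eq_bot_of_prime (by rw [Nat.card_zpowers, ← hg' a ha, orderOf_conj, hwo]; exact hp.out)
      fun e' => hwL ((L.mul_mem_cancel_right (h.mem_A e ha).1).1 (e' (mem_zpowers _)))
  have k2 : ∀ a ∈ classSupp (sharp (der E)) L, ∀ b ∈ classSupp (sharp (der E)) L,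
      (g a * g b) •ᶜ zpowers w ≤ 𝐂[w * a] := fun a ha b hb => by
    rw [← hg' a ha, cent1_conj, ← conj_conj, conj_zpowers (g b), hg' b hb]
    exact conj_mono _ (zpowers_le.2 (mul_mem (mem_cent1_self w) (hL (h.mem_A e hb).1)))
  have h1 := card_pairs (classSupp (sharp (der E)) L) _ _ (fun a b => ((g a * g b : G) : G ⧸ N))
    (fun a ha => h.ncard_odd_le e ha) fun a ha b hb a' ha' b' hb' h1 h2 => by
    have h3 : (g a * g b) •ᶜ zpowers w = (g a' * g b') •ᶜ zpowers w := by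
      rw [conj_eq_iff_eq_inv_conj, conj_conj, conj_eq_of_mem_norm (hN.ge (QuotientGroup.eq.1 h2))]
    obtain ⟨a1, a2⟩ := h.mem_A e ha
    obtain ⟨b1, b2⟩ := h.mem_A e hb
    obtain rfl : a = a' := by
      have h4 : g a * (w * a⁻¹) * (g a)⁻¹ = w := by
        rw [← conj_mul, hg' a ha, mem_cent1_iff_conj.1 (mem_cent1_comm.1 (inv_mem
          (mem_cent1_comm.1 (hg a ha)))), mul_inv_cancel_right]
      have h5 := mul_mem (inv_mem a1) (h.mem_A e ha').1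
      have h6 : g a •ᶜ (zpowers (w * a⁻¹) ⊔ zpowers (w * b)) ≤ 𝐂[a⁻¹ * a'] := by
        rw [conj_sup, conj_zpowers, h4, ← hg' b hb, ← conj_zpowers, conj_conj]
        refine sup_le (zpowers_le.2 (mem_cent1_comm.1 (hL h5))) (le_cent1_iff.2 ?_)
        rw [show a⁻¹ * a' = (w * a)⁻¹ * (w * a') by group]
        exact mul_mem (inv_mem (le_cent1_iff.1 (k2 a ha b hb))) (le_cent1_iff.1 (h3 ▸ k2 a' ha' b' hb'))
      obtain ⟨n, hn, h7⟩ := h.comp.v4N.pair.exists_conj_le (mul_mem hwN (inv_mem (h.comp.normal.le a1)))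
        (mul_mem hwN (h.comp.normal.le b1)) (by rwa [← orderOf_conj (g a), h4, hwo])
        (by rwa [← hg' b hb, orderOf_conj, hwo]) fun e' => h1 (by
          have h7 : zpowers w ≤ 𝐂(zpowers (w * a⁻¹) ⊔ zpowers (w * b)) := le_cent_symm (cent_zpowers w ▸
            sup_le (zpowers_le.2 (mul_mem (mem_cent1_self w) (inv_mem (hL a1))))
              (zpowers_le.2 (mul_mem (mem_cent1_self w) (hL b1))))
          have h8 : w ∈ zpowers (w * a⁻¹) ⊔ zpowers (w * b) ⊔ zpowers w := mem_sup_right (mem_zpowers w)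
          refine odd_of_le (Odd.of_dvd_nat (e'.mul (by rwa [Nat.card_zpowers, hwo]))
            (card_sup_dvd (.inr (le_norm_of_le_cent h7)))) (sup_le (zpowers_le.2 ?_) (zpowers_le.2 ?_))
          · exact inv_mem_iff.1 ((mul_mem_cancel_left h8).1 (mem_sup_left (mem_sup_left (mem_zpowers _))))
          · exact (mul_mem_cancel_left h8).1 (mem_sup_left (mem_sup_right (mem_zpowers _))))
      have h8 := (conj_mono (g a) h7).trans h6
      have h9 : a⁻¹ * a' ∈ 𝐍(zpowers (w * a)) := by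
        rw [← hg' a ha, ← conj_zpowers, norm_conj, hN, ← conj_eq_of_mem hn]
        refine conj_mono _ (conj_mono _ (cent_S4 t s ▸ h.cent_le)) ?_
        rw [← cent_conj, ← cent_conj]
        exact le_cent1_iff.1 h8
      have h10 : ⁅a⁻¹ * a', w * a⁆ = ⁅a⁻¹ * a', a⁆ := by
        rw [← mem_cent1.1 (hL a1), commutatorElement_def, commutatorElement_def]
        nth_rewrite 2 [← mem_cent1_iff_conj.1 (mem_cent1_comm.1 (hL (inv_mem h5)))]
        group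
      have h11 : a⁻¹ * a' ∈ 𝐂[a] := mem_cent1.2 (commutatorElement_eq_one_iff_commute.1
        (mem_bot.1 ((k1 a ha).le ⟨h10 ▸ commutator_le_right' (zpowers_le.2 h9)
          (commutator_mem_commutator (mem_zpowers _) (mem_zpowers _)), commutator_le_left'
            (le_norm_self L) (commutator_mem_commutator h5 a1)⟩)))
      have hP := ((h.min.v4.pair.conj n).conj (g a))
      exact h.eq_of_cent_A e ha ha' ((mul_mem_cancel_left (inv_mem (mem_cent1_self a))).1 h11)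
        (h8 (conj_mem_conj (conj_mem_conj (t_mem_S4 t s)))) (h8 (conj_mem_conj (conj_mem_conj
          (s_mem_S4 t s)))) hP.t_ne hP.t_sq hP.s_ne hP.s_sq hP.ne
    rw [← conj_conj, ← conj_conj, conj_inj, conj_zpowers, conj_zpowers, hg' b hb, hg' b' hb'] at h3
    refine ⟨rfl, inv_mul_eq_one.1 (mem_bot.1 ((k1 b hb).le (mem_inf.2 ⟨?_,
      mul_mem (inv_mem b1) (h.mem_A e hb').1⟩)))⟩
    rw [show b⁻¹ * b' = (w * b)⁻¹ * (w * b') by group]
    exact mul_mem (inv_mem (mem_zpowers _)) (h3 ▸ mem_zpowers _)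
  have h2 := relIndex_mul_nI (le_top : N ≤ ⊤) t
  have h3 := ((h.min.cO G ⊤ t s ρ h.min.v4).2 h.min.perfect).2
  have h4 := h.comp.bound h.min.cO
  have h5 := h.relIndex_le e
  have h6 := (Nat.le_of_dvd (card_pos' _) (h.dvd_Kc' e)).trans h.comp.card_Kc_le
  have h7 : 3 ≤ p := (hp.out.two_le.lt_of_ne (h.ne_two e).symm)
  rw [kI_eq (le_top : N ≤ ⊤) (by rw [top_inf_eq]; exact h.cent_le), top_inf_eq] at h3
  rw [top_inf_eq, relIndex_top_right, h.comp.nI_eq] at h2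
  rw [h.comp.kI_eq] at h3 h4
  rw [h.comp.nI_eq] at h4
  rw [h.ncard_A e] at h1
  obtain ⟨q, rfl⟩ : ∃ q, p = q + 1 := ⟨p - 1, by omega⟩
  exact arith_final h2 h3 h4 h6 (by omega) h5 h1

end Bad

/-- Local analysis, part II -/
theorem Min.inf_eq_bot (h : Min t s ρ) (cA : CharA.{u}) (cB : CharB.{u}) : O 𝐂[t] ⊓ 𝐂[s] = ⊥ := by
  by_contra h0
  obtain ⟨N, L, ρ', hb, p, hp, h1⟩ := h.exists_bad cB h0
  have := Fact.mk hp
  obtain ⟨E, e⟩ := hb.exists_ex cA h1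
  exact hb.false e

end Cfsg.Agent.GW
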